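/-
Checks of the orbits under centralizer 1 and of the values on them.
-/
import Cfsg.Agent.Lib.J4Order.CountData

set_option autoImplicit false

namespace CfsgLib.J4Order

open Cfsg CfsgGolay

theorem gensT1_ok : gensW rootT1 gensT1 = true ∧ rowsOK gensT1 rowsT1 = true := by decide +kernel

theorem valsT1_ok : rowsT1.all (fun R => rowVal rootT1 R && !(Nat.beq (ordC (pcomp rootT1 R.b)) 0)) = true := by
  decide +kernel

end CfsgLib.J4Order
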