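/-
Checks of the orbits under centralizer 3 and of the values on them.
-/
import Cfsg.Agent.Lib.J4Order.CountData

set_option autoImplicit false

namespace CfsgLib.J4Order

open Cfsg CfsgGolay

theorem gensT3_ok : gensW rootT3 gensT3 = true ∧ rowsOK gensT3 rowsT3 = true := by decide +kernel

theorem valsT3_ok : rowsT3.all (fun R => rowVal rootT3 R && !(Nat.beq (ordC (pcomp rootT3 R.b)) 0)) = true := by
  decide +kernel

end CfsgLib.J4Order
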