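/-
Two non-conjugate involutions: the involution among the powers of their product.
-/
import Mathlib

set_option autoImplicit false

namespace CfsgLib.J4Order

open Subgroup

variable {G : Type*} [Group G] {u v w : G}

theorem dih_inv (hu : u * u = 1) (hv : v * v = 1) : u * (u * v) * u⁻¹ = (u * v)⁻¹ := by
  rw [mul_inv_rev, inv_eq_of_mul_eq_one_right hv, inv_eq_of_mul_eq_one_right hu,
    show u * (u * v) * u = u * u * v * u by group, hu, one_mul]

theorem dih_even [Finite G] (hu : u * u = 1) (hv : v * v = 1) (hnc : ¬ IsConj u v) : 2 ∣ orderOf (u * v) := by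
  by_contra h
  obtain ⟨k, hk⟩ : ∃ k, orderOf (u * v) = 2 * k + 1 := ⟨orderOf (u * v) / 2, by omega⟩
  set g := u * v with hg
  refine hnc (isConj_iff.mpr ⟨(g ^ (k + 1))⁻¹, ?_⟩)
  have hugn : ∀ i : ℕ, u * g ^ i * u⁻¹ = (g ^ i)⁻¹ := fun i => by
    rw [← conj_pow, hg, dih_inv hu hv, inv_pow]
  have e1 : (g ^ (k + 1))⁻¹ * u = u * g ^ (k + 1) := by
    rw [← hugn (k + 1), inv_eq_of_mul_eq_one_right hu, show u * g ^ (k + 1) * u * u = u * g ^ (k + 1) * (u * u) by
      group, hu, mul_one]
  rw [inv_inv, e1, mul_assoc, ← pow_add, show k + 1 + (k + 1) = 1 + orderOf g by omega, pow_add, pow_one,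
    pow_orderOf_eq_one, mul_one, hg, ← mul_assoc, hu, one_mul]

/-- An involution among the powers is inverted, hence centralized. -/
theorem dih_cent (hu : u * u = 1) (hv : v * v = 1) (hw : w * w = 1) (h : w ∈ zpowers (u * v)) :
    u * w = w * u ∧ v * w = w * v := by
  obtain ⟨i, hi⟩ := mem_zpowers_iff.mp h
  have h1 : u * w * u⁻¹ = w := by
    rw [← hi, ← conj_zpow, dih_inv hu hv, inv_zpow, hi, inv_eq_of_mul_eq_one_right hw]
  have h2 : u * w = w * u := mul_inv_eq_iff_eq_mul.mp h1
  refine ⟨h2, ?_⟩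
  have h3 : Commute (u * v) w := by
    have h4 := (Commute.refl (u * v)).zpow_right i
    rwa [hi] at h4
  calc v * w = u * u * v * w := by rw [hu, one_mul]
    _ = u * (u * v * w) := by group
    _ = u * (w * (u * v)) := by rw [h3.eq]
    _ = u * w * u * v := by group
    _ = w * u * u * v := by rw [h2]
    _ = w * v := by rw [mul_assoc w u u, hu, mul_one]

/-- A cyclic group has at most one involution. -/
theorem zpowers_invol_unique [Finite G] {g a b : G} (ha : a ∈ zpowers g) (hb : b ∈ zpowers g)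
    (haa : a * a = 1) (hbb : b * b = 1) (ha1 : a ≠ 1) (hb1 : b ≠ 1) : a = b := by
  classical
  haveI := Fintype.ofFinite G
  have hcard := IsCyclic.card_pow_eq_one_le (α := ↥(zpowers g)) (n := 2) (by norm_num)
  by_contra hne
  have hsub : ({1, ⟨a, ha⟩, ⟨b, hb⟩} : Finset ↥(zpowers g)) ⊆ Finset.univ.filter fun x => x ^ 2 = 1 := by
    intro x hx
    simp only [Finset.mem_insert, Finset.mem_singleton] at hx
    refine Finset.mem_filter.mpr ⟨Finset.mem_univ _, ?_⟩
    rcases hx with rfl | rfl | rfl
    · exact one_pow 2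
    · exact Subtype.ext (by rw [SubmonoidClass.coe_pow, sq]; exact haa)
    · exact Subtype.ext (by rw [SubmonoidClass.coe_pow, sq]; exact hbb)
  have h3 := (Finset.card_le_card hsub).trans hcard
  rw [Finset.card_insert_of_notMem, Finset.card_pair] at h3
  · omega
  · exact fun e => hne (congrArg Subtype.val e)
  · simp only [Finset.mem_insert, Finset.mem_singleton, not_or]
    exact ⟨fun e => ha1 (congrArg Subtype.val e).symm, fun e => hb1 (congrArg Subtype.val e).symm⟩

/-- If a power of g is an involution, it is the only involution among the powers. -/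
theorem hit_of_invol [Finite G] {g : G} {n : ℕ} (hsq : g ^ n * g ^ n = 1) (hne : g ^ n ≠ 1) (hw : w * w = 1)
    (hw1 : w ≠ 1) : w ∈ zpowers g ↔ g ^ n = w :=
  ⟨fun h => zpowers_invol_unique (pow_mem (mem_zpowers g) n) h hsq hw hne hw1,
    fun h => h ▸ pow_mem (mem_zpowers g) n⟩

end CfsgLib.J4Order
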