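/-
Coordinates for the cocode of the code of length 24: twelve parity bits and their linear algebra on masks.
-/
import Cfsg.Agent.Lib.Golay.Modules
import Cfsg.Agent.Lib.Golay.Elems

set_option autoImplicit false

namespace CfsgLib.J4Order

open Cfsg CfsgGolay

attribute [local irreducible] codeL octadL dodecadL slpCodes

/-- The class of a mask modulo the code. -/
def cls (m : ℕ) : ℕ := syn genMasks m

/-- A mask in each class. -/
def rep (s : ℕ) : ℕ := (xorCols decCols s) <<< 12

theorem cls_rep_all : ((List.range 4096).all fun s => Nat.beq (cls (rep s)) s && Nat.blt (rep s) (2 ^ 24)) = true := by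
  decide +kernel

theorem cls_rep {s : ℕ} (h : s < 4096) : cls (rep s) = s ∧ rep s < 2 ^ 24 := by
  have := List.all_eq_true.mp cls_rep_all s (List.mem_range.mpr h)
  rw [Bool.and_eq_true, Nat.blt_eq] at this
  exact ⟨Nat.eq_of_beq_eq_true this.1, this.2⟩

theorem pc_xor_mod {a b : ℕ} (ha : a < 2 ^ 24) (hb : b < 2 ^ 24) (g : ℕ) :
    pc ((a ^^^ b) &&& g) % 2 = (pc (a &&& g) + pc (b &&& g)) % 2 := by
  have h := map_add (dotMask g) (wordOf a) (wordOf b)
  rw [← wordOf_xor, dotMask_eq, dotMask_eq, dotMask_eq, support_wordOf, support_wordOf, support_wordOf,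
    toMask_toSet ha, toMask_toSet hb, toMask_toSet (Nat.xor_lt_two_pow ha hb), ← Nat.cast_add,
    ZMod.natCast_eq_natCast_iff'] at h
  exact h

theorem syn_xor {a b : ℕ} (ha : a < 2 ^ 24) (hb : b < 2 ^ 24) :
    ∀ gs : List ℕ, syn gs (a ^^^ b) = syn gs a ^^^ syn gs b
  | [] => by simp [syn]
  | g :: gs => by
    have h1 := pc_xor_mod ha hb g
    have key : ∀ x y : ℕ, x < 2 → y < 2 → ∀ u v : ℕ, (x + y) % 2 + 2 * (u ^^^ v) = (x + 2 * u) ^^^ (y + 2 * v) := by
      intro x y hx hy u v
      apply Nat.eq_of_testBit_eq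
      intro i
      rw [Nat.testBit_xor]
      cases i with
      | zero =>
        simp only [Nat.testBit_zero, Nat.add_mul_mod_self_left]
        interval_cases x <;> interval_cases y <;> rfl
      | succ i =>
        simp only [Nat.testBit_succ]
        rw [show ((x + y) % 2 + 2 * (u ^^^ v)) / 2 = u ^^^ v by omega, show (x + 2 * u) / 2 = u by omega,
          show (y + 2 * v) / 2 = v by omega, Nat.testBit_xor]
    simp only [syn, syn_xor ha hb gs, h1]
    rw [Nat.add_mod (pc (a &&& g))]
    exact key _ _ (Nat.mod_lt _ (by norm_num)) (Nat.mod_lt _ (by norm_num)) _ _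

theorem cls_xor {a b : ℕ} (ha : a < 2 ^ 24) (hb : b < 2 ^ 24) : cls (a ^^^ b) = cls a ^^^ cls b := syn_xor ha hb _

theorem syn_lt (m : ℕ) : ∀ gs : List ℕ, syn gs m < 2 ^ gs.length
  | [] => by simp [syn]
  | g :: gs => by
    have := syn_lt m gs
    simp only [syn, List.length_cons, pow_succ]
    omega

theorem cls_lt (m : ℕ) : cls m < 4096 := syn_lt m genMasks

theorem cls_even {m : ℕ} (hm : m < 2 ^ 24) : cls m < 2048 ↔ (toSet m).card % 2 = 0 := by
  have h : m &&& 16777215 = m := by
    rw [show (16777215 : ℕ) = 2 ^ 24 - 1 from rfl, Nat.and_two_pow_sub_one_eq_mod, Nat.mod_eq_of_lt hm]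
  rw [card_toSet]
  simp only [cls, genMasks, syn, h]
  omega

theorem syn_zero {m : ℕ} : ∀ gs : List ℕ, syn gs m = 0 ↔ ∀ g ∈ gs, pc (m &&& g) % 2 = 0
  | [] => by simp [syn]
  | g :: gs => by
    simp only [syn, List.forall_mem_cons, ← syn_zero gs]
    omega

/-- The class is zero exactly on the code. -/
theorem cls_zero {m : ℕ} (hm : m < 2 ^ 24) : cls m = 0 ↔ wordOf m ∈ golayCode := by
  have hb : inCode m = true ↔ cls m = 0 := by
    rw [cls, syn_zero]; simp [inCode, List.all_eq_true]
  rw [← hb]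
  refine ⟨fun h => codeL_mem (mem_codeL_of_inCode hm h), fun h => ?_⟩
  have := inCode_of_mem h
  rwa [support_wordOf, toMask_toSet hm] at this

theorem xor_self_cancel (a b : ℕ) : a ^^^ (a ^^^ b) = b := by rw [← Nat.xor_assoc, Nat.xor_self, Nat.zero_xor]

theorem xor_left_inj' {a b c : ℕ} (h : a ^^^ b = a ^^^ c) : b = c := by
  rw [← xor_self_cancel a b, h, xor_self_cancel]

/-- Image of a class under a permutation code. -/
def actC (c s : ℕ) : ℕ := cls (pmask c (rep s))

/-- The columns of the action of a permutation code. -/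
def colC (c : ℕ) : List ℕ := (List.range 11).map fun i => actC c (2 ^ i)

/-- Image of a class, from the columns. -/
def amul (cols : List ℕ) (s : ℕ) : ℕ := xorCols cols s

theorem rep_even {s : ℕ} (h : s < 2048) : (toSet (rep s)).card % 2 = 0 := by
  obtain ⟨h1, h2⟩ := cls_rep (s := s) (by omega)
  exact (cls_even h2).mp (by omega)

end CfsgLib.J4Order
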