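/-
The group of order 2^11 as the even part of the cocode.
-/
import Cfsg.Agent.Lib.J4Order.Code
import Cfsg.Agent.Lib.JankoFour.OrbFuse
import Cfsg.Agent.Lib.GolayUnique.Bridge

set_option autoImplicit false

namespace CfsgLib.J4Order

open Cfsg Subgroup CfsgGolay CfsgLib.JankoFour
open scoped symmDiff

attribute [local irreducible] codeL octadL dodecadL slpCodes

universe u

variable {G : Type u} [Group G] [Finite G] {z : G} {P E : Subgroup G} {c : Ctx z P E} {A : Subgroup MTwoTwo}
variable {o : c.Orb A}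

/-- V is commutative. -/
noncomputable abbrev vComm (o : c.Orb A) : CommGroup ↥(c.vGrp A o.hA.1.1) :=
  { (inferInstance : Group ↥(c.vGrp A o.hA.1.1)) with
    mul_comm := fun a b => Subtype.ext (c.vGrp_comm o.hA.1 a.2 b.2) }

variable (d : o.Duads)

/-- The duads in V. -/
def dV (p q : GolayPt) : ↥(c.vGrp A o.hA.1.1) := ⟨d.D p q, d.memV p q⟩

/-- The product of the duads of a set with the extra point. -/
noncomputable def prodD (s : Finset GolayPt) : G :=
  letI := vComm o
  ((duadProd (dV d) none s : ↥(c.vGrp A o.hA.1.1)) : G)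

theorem prodD_mem (s : Finset GolayPt) : prodD d s ∈ c.vGrp A o.hA.1.1 := by
  rw [prodD]; exact Subtype.mem _

theorem prodD_symm (s t : Finset GolayPt) : prodD d (s ∆ t) = prodD d s * prodD d t := by
  let _ := vComm o
  rw [prodD, prodD, prodD, ← Subgroup.coe_mul]
  exact congrArg Subtype.val (duadProd_symm (fun x => Subtype.ext (c.vGrp_sq o.hA.1 x.2)) (dV d) none s t)

theorem prodD_pair {p q : GolayPt} (h : p ≠ q) : prodD d {p, q} = d.D p q := by
  let _ := vComm o
  rw [prodD, duadProd, Finset.prod_pair h]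
  show d.D none p * d.D none q = _
  rw [d.symm none p, d.mul]

theorem prodD_conj (n : ↥(normalizer (c.vGrp A o.hA.1.1 : Set G))) {s : Finset GolayPt} (hs : s.card % 2 = 0) :
    (n : G) * prodD d s * (n : G)⁻¹ = prodD d (s.image (d.θ n).1) := by
  classical
  let _ := vComm o
  let φ : ↥(c.vGrp A o.hA.1.1) →* ↥(c.vGrp A o.hA.1.1) :=
    { toFun := fun x => ⟨(n : G) * x * (n : G)⁻¹, (mem_normalizer_iff.mp n.2 _).mp x.2⟩
      map_one' := Subtype.ext (by simp)
      map_mul' := fun x y => Subtype.ext (by simp [mul_assoc]) }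
  have h1 : φ (duadProd (dV d) none s) = duadProd (dV d) none (s.image (d.θ n).1) := by
    rw [duadProd, map_prod, duadProd, Finset.prod_image (d.θ n).1.injective.injOn]
    have hstep : ∀ i, φ (dV d none i) = dV d none ((d.θ n).1 none) * dV d none ((d.θ n).1 i) := fun i =>
      Subtype.ext (by
        show (n : G) * d.D none i * (n : G)⁻¹ = d.D none _ * d.D none _
        rw [d.conj, d.symm none ((d.θ n).1 none), d.mul])
    simp only [hstep, Finset.prod_mul_distrib, Finset.prod_const]
    obtain ⟨k, hk⟩ : 2 ∣ s.card := Nat.dvd_of_mod_eq_zero hs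
    rw [hk, pow_mul, sq, show dV d none ((d.θ n).1 none) * dV d none ((d.θ n).1 none) = 1 from
      Subtype.ext (d.sq _ _), one_pow, one_mul]
  exact congrArg Subtype.val h1

/-- The kernel is the code. -/
theorem prodD_code {s : Finset GolayPt} (hs : s.card % 2 = 0) : prodD d s = 1 ↔ indW s ∈ golayCode := by
  classical
  have hev : ∀ w : GolayPt → ZMod 2, ∑ p, w p = 0 ↔ (support₂ w).card % 2 = 0 := fun w => by
    rw [sum_support, ZMod.natCast_eq_zero_iff_even, Nat.even_iff]
  have h0 : prodD d (∅ : Finset GolayPt) = 1 := by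
    let _ := vComm o
    simp [prodD, duadProd]
  let W : Submodule (ZMod 2) (GolayPt → ZMod 2) :=
    { carrier := {w | prodD d (support₂ w) = 1 ∧ (support₂ w).card % 2 = 0}
      add_mem' := by
        rintro v w ⟨hv, hv2⟩ ⟨hw, hw2⟩
        refine ⟨?_, (hev _).mp ?_⟩
        · rw [support_add, prodD_symm, hv, hw, one_mul]
        · simp only [Pi.add_apply, Finset.sum_add_distrib, (hev v).mpr hv2, (hev w).mpr hw2, add_zero]
      zero_mem' := by
        have : support₂ (0 : GolayPt → ZMod 2) = ∅ := by simp [support₂]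
        exact ⟨by rw [this]; exact h0, by rw [this]; rfl⟩
      smul_mem' := by
        intro a w hw
        rcases (show ∀ a : ZMod 2, a = 0 ∨ a = 1 by decide) a with rfl | rfl
        · have : support₂ ((0 : ZMod 2) • w) = ∅ := by simp [support₂]
          exact ⟨by rw [this]; exact h0, by rw [this]; rfl⟩
        · rw [one_smul]; exact hw }
  have hmem : ∀ w, w ∈ W ↔ prodD d (support₂ w) = 1 ∧ (support₂ w).card % 2 = 0 := fun w => Iff.rfl
  have hinv : M24Invariant W := by
    intro σ hσ w hw
    rw [hmem, support_comp_symm] at *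
    obtain ⟨n, hn⟩ := d.surj ⟨σ, hσ⟩
    refine ⟨?_, by rw [Finset.card_image_of_injective _ σ.injective]; exact hw.2⟩
    have h := prodD_conj d n hw.2
    rw [hn] at h
    rw [← h, hw.1, mul_one, mul_inv_cancel]
  have hpair : ∀ a b : GolayPt, a ≠ b → indW {a, b} ∉ W := fun a b hab h => by
    rw [hmem, support_indW, prodD_pair d hab] at h
    exact (d.mem a b hab).2.1 h.1
  suffices hW : W = golayCode by
    rw [← hW, hmem, support_indW]; exact ⟨fun h => ⟨h, hs⟩, And.left⟩
  have hsmall : ¬ ∀ w ∈ W, w = 0 ∨ w = fun _ => (1 : ZMod 2) := by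
    intro hall
    -- too many even words for a group of order 2^11
    set S := (Finset.univ : Finset GolayPt).powerset.filter (fun s => s.card = 4) with hS
    obtain ⟨a, ha, b, hb, hne, he⟩ := Finset.exists_ne_map_eq_of_card_lt_of_maps_to
      (t := (Set.toFinite (c.vGrp A o.hA.1.1 : Set G)).toFinset) (f := prodD d) (s := S) (by
        rw [← Set.ncard_eq_toFinset_card _ (Set.toFinite _), ← Nat.card_coe_set_eq]
        change Nat.card ↥(c.vGrp A o.hA.1.1) < _
        rw [(c.vGrp_facts o.hA.1).2, hS, ← Finset.powersetCard_eq_filter, Finset.card_powersetCard, Finset.card_univ]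
        simp only [Fintype.card_option, ZMod.card]
        decide) (fun s _ => (Set.Finite.mem_toFinset _).mpr (prodD_mem d s))
    rw [hS, Finset.mem_filter] at ha hb
    have hsd : indW (a ∆ b) ∈ W := by
      have hc := CfsgCode.card_symmDiff' a b
      rw [hmem, support_indW, prodD_symm, he]
      refine ⟨?_, by omega⟩
      exact c.vGrp_sq o.hA.1 (prodD_mem d b)
    rcases hall _ hsd with h | h
    · have h2 := congrArg support₂ h
      rw [support_indW] at h2
      exact hne (symmDiff_eq_bot.mp (h2.trans (by simp [support₂])))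
    · have h2 := congrArg support₂ h
      rw [support_indW] at h2
      have hc := CfsgCode.card_symmDiff' a b
      rw [h2, show support₂ (fun _ : GolayPt => (1 : ZMod 2)) = Finset.univ from Finset.filter_true_of_mem
        (fun _ _ => one_ne_zero), Finset.card_univ] at hc
      simp only [Fintype.card_option, ZMod.card] at hc
      omega
  rcases invariant_classification hinv with h | h | h | h | h
  · exact absurd (fun w hw => Or.inl (by rw [h] at hw; exact (Submodule.mem_bot _).mp hw)) hsmall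
  · refine absurd (fun w hw => ?_) hsmall
    rw [h, Submodule.mem_span_singleton] at hw
    obtain ⟨a, rfl⟩ := hw
    rcases (show ∀ a : ZMod 2, a = 0 ∨ a = 1 by decide) a with rfl | rfl
    · exact Or.inl (zero_smul _ _)
    · exact Or.inr (one_smul _ _)
  · exact h
  all_goals
    exfalso
    refine hpair (pt 0) none (by decide) ?_
  · show indW {pt 0, none} ∈ (W : Set (GolayPt → ZMod 2))
    rw [h, Set.mem_setOf_eq, hev, support_indW]; decide
  · rw [h]; exact Submodule.mem_top

/-- The product of the duads of a mask. -/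
noncomputable def phi (m : ℕ) : G := prodD d (toSet m)

/-- The element of V with given class. -/
noncomputable def kap (s : ℕ) : G := phi d (rep s)

theorem kap_mem (s : ℕ) : kap d s ∈ c.vGrp A o.hA.1.1 := prodD_mem d _

theorem phi_xor (a b : ℕ) : phi d (a ^^^ b) = phi d a * phi d b := by
  rw [phi, toSet_xor, prodD_symm]; rfl

theorem phi_one {m : ℕ} (hm : m < 2 ^ 24) (he : cls m < 2048) : phi d m = 1 ↔ cls m = 0 := by
  rw [phi, prodD_code d ((cls_even hm).mp he), cls_zero hm]
  have : indW (toSet m) = wordOf m := wordOf_support (by rw [support_indW, support_wordOf])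
  rw [this]

theorem kap_cls {m : ℕ} (hm : m < 2 ^ 24) (he : cls m < 2048) : kap d (cls m) = phi d m := by
  obtain ⟨h1, h2⟩ := cls_rep (cls_lt m)
  have h3 : cls (rep (cls m) ^^^ m) = 0 := by rw [cls_xor h2 hm, h1, Nat.xor_self]
  have h4 := (phi_one d (Nat.xor_lt_two_pow h2 hm) (by omega)).mpr h3
  rw [phi_xor] at h4
  exact (eq_inv_of_mul_eq_one_left h4).trans
    (inv_eq_of_mul_eq_one_right (c.vGrp_sq o.hA.1 (prodD_mem d _)))

theorem kap_xor {a b : ℕ} (ha : a < 2048) (hb : b < 2048) : kap d (a ^^^ b) = kap d a * kap d b := by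
  obtain ⟨h1, h2⟩ := cls_rep (s := a) (by omega)
  obtain ⟨h3, h4⟩ := cls_rep (s := b) (by omega)
  have h5 : cls (rep a ^^^ rep b) = a ^^^ b := by rw [cls_xor h2 h4, h1, h3]
  rw [← h5, kap_cls d (Nat.xor_lt_two_pow h2 h4) (by rw [h5]; exact Nat.xor_lt_two_pow (n := 11) ha hb), phi_xor]
  rfl

theorem kap_one {s : ℕ} (hs : s < 2048) : kap d s = 1 ↔ s = 0 := by
  obtain ⟨h1, h2⟩ := cls_rep (s := s) (by omega)
  rw [kap, phi_one d h2 (by omega), h1]

theorem kap_inj {a b : ℕ} (ha : a < 2048) (hb : b < 2048) (h : kap d a = kap d b) : a = b := by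
  have h1 : kap d (a ^^^ b) = 1 := by rw [kap_xor d ha hb, h]; exact c.vGrp_sq o.hA.1 (kap_mem d b)
  have h2 := (kap_one d (Nat.xor_lt_two_pow (n := 11) ha hb)).mp h1
  exact xor_left_inj' (a := b) (by rw [Nat.xor_self, Nat.xor_comm, h2])

theorem kap_surj {v : G} (hv : v ∈ c.vGrp A o.hA.1.1) : ∃ s < 2048, kap d s = v := by
  classical
  let f : Fin 2048 → ↥(c.vGrp A o.hA.1.1) := fun s => ⟨kap d s, kap_mem d s⟩
  have hf : Function.Injective f := fun a b h => Fin.ext (kap_inj d a.2 b.2 (congrArg Subtype.val h))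
  obtain ⟨s, hs⟩ := (hf.bijective_of_nat_card_le (by rw [(c.vGrp_facts o.hA.1).2, Nat.card_fin]; norm_num)).2 ⟨v, hv⟩
  exact ⟨s, s.2, congrArg Subtype.val hs⟩

theorem kap_actC {n : ↥(normalizer (c.vGrp A o.hA.1.1 : Set G))} {k : ℕ} (hk : Repr k (d.θ n).1) {s : ℕ}
    (hs : s < 2048) : actC k s < 2048 ∧ (n : G) * kap d s * (n : G)⁻¹ = kap d (actC k s) := by
  have h0 := rep_even hs
  have h1 : toSet (pmask k (rep s)) = (toSet (rep s)).image (d.θ n).1 := hk.toSet_pmask _
  have h2 : cls (pmask k (rep s)) < 2048 := by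
    rw [cls_even (hk.pmask_lt _), h1, Finset.card_image_of_injective _ (d.θ n).1.injective]; exact h0
  refine ⟨h2, ?_⟩
  rw [actC, kap_cls d (hk.pmask_lt _) h2, kap, phi, phi, h1, prodD_conj d n h0]

/-- The classes of pairs. -/
def pairCls : List ℕ := (List.range 24).flatMap fun i => (List.range i).map fun j => cls (2 ^ i ||| 2 ^ j)

/-- A table of the classes of pairs. -/
def pairMask : ℕ := pairCls.foldl (fun a s => a ||| 2 ^ s) 0

/-- The class is that of a pair. -/
def isPair (s : ℕ) : Bool := bitF pairMask s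

theorem pairMask_ok : ((List.range 24).all fun i => (List.range i).all fun j =>
    Nat.blt (cls (2 ^ i ||| 2 ^ j)) 2048 && isPair (cls (2 ^ i ||| 2 ^ j))) = true ∧
    ((List.range 2048).all fun s => isPair s == pairCls.any (Nat.beq s)) = true := by decide +kernel

theorem kap_pair {i j : ℕ} (hj : j < i) (hi : i < 24) :
    cls (2 ^ i ||| 2 ^ j) < 2048 ∧ kap d (cls (2 ^ i ||| 2 ^ j)) = d.D (pt i) (pt j) := by
  have hlt : 2 ^ i ||| 2 ^ j < 2 ^ 24 := Nat.or_lt_two_pow (Nat.pow_lt_pow_right (by norm_num) hi)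
    (Nat.pow_lt_pow_right (by norm_num) (by omega))
  have h1 : toSet (2 ^ i ||| 2 ^ j) = {pt i, pt j} := by
    have := pair_mask_pt (pt i) (pt j)
    rwa [idx_pt hi, idx_pt (show j < 24 by omega)] at this
  have hne : pt i ≠ pt j := fun e => by
    have := congrArg idx e
    rw [idx_pt hi, idx_pt (show j < 24 by omega)] at this
    omega
  have h2 : cls (2 ^ i ||| 2 ^ j) < 2048 := (cls_even hlt).mpr (by rw [h1, Finset.card_pair hne])
  exact ⟨h2, by rw [kap_cls d hlt h2, phi, h1, prodD_pair d hne]⟩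

theorem kap_T {s : ℕ} (hs : s < 2048) : kap d s ∈ c.Tset (c.vGrp A o.hA.1.1) ↔ isPair s = true := by
  have hp : isPair s = true ↔ ∃ i < 24, ∃ j < i, cls (2 ^ i ||| 2 ^ j) = s := by
    rw [beq_iff_eq.mp (List.all_eq_true.mp pairMask_ok.2 s (List.mem_range.mpr hs))]
    simp only [List.any_eq_true, pairCls, List.mem_flatMap, List.mem_map, List.mem_range]
    constructor
    · rintro ⟨x, ⟨i, hi, j, hj, rfl⟩, h⟩; exact ⟨i, hi, j, hj, (Nat.eq_of_beq_eq_true h).symm⟩
    · rintro ⟨i, hi, j, hj, rfl⟩; exact ⟨_, ⟨i, hi, j, hj, rfl⟩, Nat.beq_refl _⟩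
  rw [hp]
  constructor
  · intro h
    obtain ⟨p, q, hpq, he⟩ := d.onto _ h
    have key : ∀ p q : GolayPt, idx q < idx p → d.D p q = kap d s →
        ∃ i < 24, ∃ j < i, cls (2 ^ i ||| 2 ^ j) = s := fun p q hlt he => by
      obtain ⟨h2, h3⟩ := kap_pair d hlt (idx_lt p)
      exact ⟨idx p, idx_lt p, idx q, hlt, kap_inj d h2 hs (by rw [h3, pt_idx, pt_idx, he])⟩
    rcases lt_trichotomy (idx p) (idx q) with hlt | heq | hlt
    · exact key q p hlt (by rw [d.symm]; exact he)
    · exact absurd (idx_injective heq) hpq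
    · exact key p q hlt he
  · rintro ⟨i, hi, j, hj, rfl⟩
    rw [(kap_pair d hj hi).2]
    exact d.mem _ _ fun e => by
      have := congrArg idx e
      rw [idx_pt hi, idx_pt (show j < 24 by omega)] at this
      omega

end CfsgLib.J4Order
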