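/-
Normal coordinates on the group of order 2^11 and its normalizer: the standard sextet, W, E and P.
-/
import Cfsg.Agent.Lib.J4Order.Kappa
import Cfsg.Agent.Lib.Golay.SextGroup
import Cfsg.Agent.Lib.JankoFour.OrbClosed
import Cfsg.Agent.Lib.JankoFour.TenSyn

set_option autoImplicit false

namespace CfsgLib.J4Order

open Cfsg Subgroup CfsgGolay CfsgLib.JankoFour
open scoped symmDiff Pointwise

attribute [local irreducible] codeL octadL dodecadL slpCodes

/-- The class of the standard tetrad. -/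
def zsC : ℕ := 1893

/-- The code of a fixed element of order three fixing all tetrads. -/
def k3C : ℕ := 5449130480366048776612061589756962

/-- A basis of W modulo the centre. -/
def wB : List ℕ := [105, 135, 227, 245, 295, 639]

/-- An element of W modulo the centre. -/
def wv (n : ℕ) : ℕ := xorCols wB n

/-- The class lies in W. -/
def inW (s : ℕ) : Bool := (List.range 64).any fun n => Nat.beq s (wv n) || Nat.beq s (((wv n) ^^^ zsC))

/-- Two indices in one tetrad. -/
def sameT (i j : ℕ) : Bool := sext0L.any fun t => bitF t i && bitF t j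

/-- The pairs inside tetrads. -/
def inTet : List (ℕ × ℕ) :=
  ((List.range 24).flatMap fun i => (List.range i).map fun j => (i, j)).filter fun x => sameT x.1 x.2

/-- The class of a pair. -/
def pcl (x : ℕ × ℕ) : ℕ := cls (2 ^ x.1 ||| 2 ^ x.2)

/-- The kernel of the sextet group. -/
def kerCode (n : ℕ) : ℕ :=
  pcomp (elW sxN (n % 64)) (if n / 64 = 0 then pid else if n / 64 = 1 then k3C else pcomp k3C k3C)

theorem zs_ok : cls 8388615 = zsC ∧ zsC < 2048 ∧ ((List.range 2048).all fun s =>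
    Nat.beq s 0 || !(isPair s && Nat.beq s zsC)) = true := by decide +kernel

theorem sameT_ok : ((List.range 24).all fun i => sameT i i) = true ∧
    (sext0L.all fun t => (List.range 24).all fun i => (List.range 24).all fun j =>
      !(bitF t i) || !(sameT i j) || bitF t j) = true ∧ inTet.length = 36 ∧
    ((inTet.map pcl).dedup.length = 36) ∧
    ((List.range 24).all fun i => inTet.any fun x => Nat.beq x.1 i || Nat.beq x.2 i) = true := by decide +kernel

theorem twin_ok : ((List.range 24).all fun i => (List.range i).all fun j =>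
    !(isPair (((pcl (i, j)) ^^^ zsC))) || sameT i j) = true ∧
    (inTet.all fun x => (List.range 24).all fun i => (List.range i).all fun j =>
      !(Nat.beq (pcl (i, j)) (pcl x) || Nat.beq (pcl (i, j)) (((pcl x) ^^^ zsC))) ||
        (sameT x.1 i && sameT x.1 j && sameT x.2 i && sameT x.2 j)) = true := by decide +kernel

theorem w_ok : (inTet.all fun x => inW (pcl x)) = true ∧
    (wB.all fun w => (inTet.map pcl).contains w) = true ∧
    ((List.range 64).all fun n => Nat.blt (wv n) 2048) = true ∧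
    ((List.range 64).flatMap fun n => [wv n, ((wv n) ^^^ zsC)]).dedup.length = 128 := by decide +kernel

/-- Three pairs in tetrads with product in the centre share a tetrad. -/
def triOK : Bool :=
  let l := inTet.map fun x => (pcl x, x.1)
  l.all fun a => l.all fun b => l.all fun e =>
    !(Nat.beq ((a.1 ^^^ b.1 ^^^ e.1)) 0 || Nat.beq ((a.1 ^^^ b.1 ^^^ e.1)) zsC) || sameT a.2 b.2

theorem tri_ok : triOK = true := by decide +kernel

theorem ker_ok : ((List.range 192).map kerCode).dedup.length = 192 ∧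
    ((List.range 192).all fun n => permOK (kerCode n) && gensKept (kerCode n) &&
      sext0L.all fun t => Nat.beq (pmask (kerCode n) t) t) = true ∧
    ((List.range 192).all fun n => Nat.blt n 64 || !(Nat.beq (pcomp (kerCode n) (kerCode n)) pid)) = true ∧
    ((List.range 192).all fun n => Nat.beq (kerCode n) pid ||
      !(Nat.beq (pcomp (kerCode n) (pcomp (kerCode n) (kerCode n))) pid) ||
      (List.range 64).any fun l => Nat.beq (pcomp (pcomp (elW sxN l) (kerCode n)) (elW sxN l)) k3C ||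
        Nat.beq (pcomp (pcomp (elW sxN l) (kerCode n)) (elW sxN l)) (pcomp k3C k3C)) = true := by
  decide +kernel

theorem sameT_of {t i j : ℕ} (ht : t ∈ sext0L) (hi : i < 24) (hj : j < 24) (hti : bitF t i = true)
    (h : sameT i j = true) : bitF t j = true := by
  have := List.all_eq_true.mp (List.all_eq_true.mp (List.all_eq_true.mp sameT_ok.2.1 t ht) i
    (List.mem_range.mpr hi)) j (List.mem_range.mpr hj)
  rw [hti, h] at this
  simpa using this

theorem fix_of_sameT {g : Equiv.Perm GolayPt} (h : ∀ p : GolayPt, sameT (idx p) (idx (g p)) = true) :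
    ∀ t ∈ S0, g • t = t := by
  intro t ht
  obtain ⟨m, hm, rfl⟩ := mem_S0.mp ht
  refine Finset.eq_of_subset_of_card_le (fun q hq => ?_) (by rw [Finset.card_smul_finset])
  rw [smul_set_pts, Finset.mem_image] at hq
  obtain ⟨p, hp, rfl⟩ := hq
  rw [mem_toSet, ← bitF_eq] at hp ⊢
  exact sameT_of hm (idx_lt p) (idx_lt _) hp (h p)

theorem smul_S0_of_fix {g : Equiv.Perm GolayPt} (h : ∀ t ∈ S0, g • t = t) : g • S0 = S0 := by
  refine Finset.eq_of_subset_of_card_le (fun s hs => ?_) (by rw [Finset.card_smul_finset])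
  obtain ⟨t, ht, rfl⟩ := Finset.mem_smul_finset.mp hs
  rwa [h t ht]

theorem sextKer_code {g : Equiv.Perm GolayPt} (hg : g ∈ M24) (h : ∀ t ∈ S0, g • t = t) :
    ∃ n < 192, Repr (kerCode n) g := by
  classical
  have hok := List.all_eq_true.mp ker_ok.2.1
  have hr : ∀ n < 192, ∃ x : Equiv.Perm GolayPt, x ∈ sextKer S0 ∧ Repr (kerCode n) x := by
    intro n hn
    have := hok n (List.mem_range.mpr hn)
    simp only [Bool.and_eq_true, List.all_eq_true] at this
    obtain ⟨x, hx⟩ := exists_repr_of_permOK this.1.1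
    have hfix : ∀ t ∈ S0, x • t = t := fun t ht => by
      obtain ⟨m, hm, rfl⟩ := mem_S0.mp ht
      rw [smul_set_pts, ← hx.toSet_pmask, Nat.eq_of_beq_eq_true (this.2 m hm)]
    exact ⟨x, ⟨mem_stabM.mpr ⟨mem_M24_of_gensKept hx this.1.2, smul_S0_of_fix hfix⟩, hfix⟩, hx⟩
  choose f hf hfr using hr
  let F : Fin 192 → ↥(sextKer S0) := fun n => ⟨f n n.2, hf n n.2⟩
  have hF : Function.Injective F := by
    intro a b e
    have e' : f a a.2 = f b b.2 := congrArg Subtype.val e
    have hd : ((List.range 192).map kerCode).Nodup := by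
      have := ker_ok.1
      rw [← List.dedup_eq_self]
      exact List.Sublist.eq_of_length (List.dedup_sublist _) (by simpa using this)
    refine Fin.ext (List.inj_on_of_nodup_map hd (List.mem_range.mpr a.2) (List.mem_range.mpr b.2) ?_)
    have hlt : ∀ n, kerCode n < 2 ^ 120 := fun n => pcomp_lt _ _
    refine eq_of_papp (hlt _) (hlt _) fun i hi => ?_
    have h1 := hfr a a.2 (pt i)
    have h2 := hfr b b.2 (pt i)
    rw [idx_pt hi] at h1 h2
    rw [← h1, ← h2, e']
  obtain ⟨n, hn⟩ := (hF.bijective_of_nat_card_le (by rw [card_sextKer_std, Nat.card_fin])).2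
    ⟨g, mem_stabM.mpr ⟨hg, smul_S0_of_fix h⟩, h⟩
  exact ⟨n, n.2, (show f n n.2 = g from congrArg Subtype.val hn) ▸ hfr n n.2⟩

theorem sxN_fix_ok : ((List.range 64).all fun n => sext0L.all fun t => Nat.beq (pmask (elW sxN n) t) t) = true := by
  decide +kernel

theorem elGr_fix {x : Equiv.Perm GolayPt} (hx : x ∈ elGr sxN) : ∀ t ∈ S0, x • t = t := by
  intro t ht
  obtain ⟨m, hm, rfl⟩ := mem_S0.mp ht
  obtain ⟨n, hn, hr⟩ := elGr_mem sxN_ok.1 hx
  rw [smul_set_pts, ← hr.toSet_pmask,
    Nat.eq_of_beq_eq_true (List.all_eq_true.mp (List.all_eq_true.mp sxN_fix_ok n (List.mem_range.mpr hn)) m hm)]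

theorem pid_lt : pid < 2 ^ 120 := by decide +kernel

attribute [local irreducible] pcomp elW cls kerCode inW wv isPair sameT triOK pmask

universe u

variable {G : Type u} [Group G] [Finite G] {z : G} {P E : Subgroup G} {c : Ctx z P E} {A : Subgroup MTwoTwo}
variable {o : c.Orb A}

/-- The duads carried by an element of M24. -/
noncomputable def relabel (d : o.Duads) {g : Equiv.Perm GolayPt} (hg : g ∈ M24) : o.Duads where
  θ := (MulAut.conj (⟨g, hg⟩ : ↥M24)⁻¹).toMonoidHom.comp d.θ
  D p q := d.D (g p) (g q)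
  surj m := by
    obtain ⟨n, hn⟩ := d.surj (⟨g, hg⟩ * m * (⟨g, hg⟩ : ↥M24)⁻¹)
    exact ⟨n, by simp [hn]; group⟩
  ker := by
    rw [← d.ker]
    ext n
    simp only [MonoidHom.mem_ker, MonoidHom.comp_apply, MulEquiv.coe_toMonoidHom, EmbeddingLike.map_eq_one_iff]
  self p := d.self _
  mem p q h := d.mem _ _ fun e => h (g.injective e)
  mul p q r := d.mul _ _ _
  conj n p q := by
    rw [d.conj]
    simp
  inj p q r s h e := (d.inj _ _ _ _ (fun e => h (g.injective e)) e).imp (fun h => ⟨g.injective h.1, g.injective h.2⟩)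
    fun h => ⟨g.injective h.1, g.injective h.2⟩
  onto t ht := by
    obtain ⟨p, q, hpq, e⟩ := d.onto t ht
    exact ⟨g⁻¹ p, g⁻¹ q, fun e => hpq (g⁻¹.injective e), by simpa using e⟩

theorem relabel_theta (d : o.Duads) {g : Equiv.Perm GolayPt} (hg : g ∈ M24)
    (n : ↥(normalizer (c.vGrp A o.hA.1.1 : Set G))) : ((relabel d hg).θ n).1 = g⁻¹ * (d.θ n).1 * g := by
  simp [relabel]

theorem prodD_relabel (d : o.Duads) {g : Equiv.Perm GolayPt} (hg : g ∈ M24) {s : Finset GolayPt}
    (hs : s.card % 2 = 0) : prodD (relabel d hg) s = prodD d (s.image g) := by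
  classical
  let _ := vComm o
  refine congrArg Subtype.val ?_
  rw [duadProd, duadProd, Finset.prod_image g.injective.injOn]
  have hstep : ∀ i, dV (relabel d hg) none i = dV d none (g none) * dV d none (g i) := fun i => Subtype.ext (by
    show d.D (g none) (g i) = d.D none _ * d.D none _
    rw [d.symm none (g none), d.mul])
  simp only [hstep, Finset.prod_mul_distrib, Finset.prod_const]
  obtain ⟨k, hk⟩ : 2 ∣ s.card := Nat.dvd_of_mod_eq_zero hs
  rw [hk, pow_mul, sq, show dV d none (g none) * dV d none (g none) = 1 from Subtype.ext (d.sq _ _), one_pow, one_mul]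

theorem prodD_tetr (d : o.Duads) : prodD d (toSet 8388615) = kap d zsC := by
  rw [← zs_ok.1, kap_cls d (by norm_num) (by rw [zs_ok.1]; exact zs_ok.2.1)]; rfl

/-- Some duads give the centre its standard class. -/
theorem exists_z_std (o : c.Orb A) : ∃ d : o.Duads, kap d zsC = z := by
  classical
  obtain ⟨d⟩ := o.duads
  obtain ⟨s, hs, hz⟩ := kap_surj d o.z_mem
  obtain ⟨hrep, hlt⟩ := cls_rep (s := s) (by omega)
  obtain ⟨w, hw, h4⟩ := exists_small_rep _ (wordOf (rep s)) le_rfl
  set t := support₂ (wordOf (rep s) + w) with ht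
  have hwt : indW t = wordOf (rep s) + w := indW_support _
  have hev : t.card % 2 = 0 := by
    rw [ht, support_add, support_wordOf]
    have hc := CfsgCode.card_symmDiff' (toSet (rep s)) (support₂ w)
    have h1 := rep_even hs
    have h2 : (support₂ w).card % 2 = 0 := by
      rcases code_weight_cases ⟨w, hw, rfl⟩ with h | h | h | h | h <;> omega
    have h3 := Finset.card_le_card (Finset.inter_subset_left (s₁ := toSet (rep s)) (s₂ := support₂ w))
    omega
  have hd : prodD d t = z := by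
    have hx : prodD d (toSet (rep s) ∆ t) = 1 := by
      have h5 : indW (toSet (rep s) ∆ t) ∈ golayCode := by
        have : indW (toSet (rep s) ∆ t) = w := wordOf_support (by
          rw [support_indW, ht, support_add, support_wordOf, symmDiff_symmDiff_cancel_left])
        rw [this]; exact hw
      refine (prodD_code d ?_).mpr h5
      have hc := CfsgCode.card_symmDiff' (toSet (rep s)) t
      have h1 := rep_even hs
      have h3 := Finset.card_le_card (Finset.inter_subset_left (s₁ := toSet (rep s)) (s₂ := t))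
      omega
    rw [prodD_symm] at hx
    refine Eq.trans ?_ hz
    rw [kap, phi]
    exact (eq_inv_of_mul_eq_one_right hx).trans (inv_eq_of_mul_eq_one_right (c.vGrp_sq o.hA.1 (prodD_mem d _)))
  have hc : t.card = 4 := by
    by_contra hne
    rcases (show t.card = 0 ∨ t.card = 2 by omega) with h | h
    · rw [Finset.card_eq_zero.mp h] at hd
      refine c.z_ne_one (hd ▸ ?_)
      exact (prodD_code d (by rfl)).mpr (by
        have : indW (∅ : Finset GolayPt) = 0 := by funext p; simp [indW]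
        rw [this]; exact zero_mem _)
    · obtain ⟨p, q, hpq, e⟩ := Finset.card_eq_two.mp h
      rw [e, prodD_pair d hpq] at hd
      exact (d.mem p q hpq).2.2 (hd.symm ▸ c.isZ_z)
  obtain ⟨g, hg, hgt⟩ := exists_smul_tetr0 hc
  refine ⟨relabel d hg, ?_⟩
  refine (prodD_tetr _).symm.trans ((prodD_relabel d hg (by rw [card_toSet]; decide +kernel)).trans (Eq.trans ?_ hd))
  rw [← hgt]
  rfl

variable (d : o.Duads)

theorem kap_zero : kap d 0 = 1 := (kap_one d (by norm_num)).mpr rfl

theorem kap_zmul (hz : kap d zsC = z) {s : ℕ} (hs : s < 2048) : kap d (s ^^^ zsC) = kap d s * z :=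
  (kap_xor d hs zs_ok.2.1).trans (by rw [hz])

theorem kap_pcl {i j : ℕ} (hj : j < i) (hi : i < 24) :
    pcl (i, j) < 2048 ∧ kap d (pcl (i, j)) = d.D (pt i) (pt j) := kap_pair d hj hi

theorem pcl_lt {x : ℕ × ℕ} (hx : x ∈ inTet) : x.2 < x.1 ∧ x.1 < 24 := by
  simp only [inTet, List.mem_filter, List.mem_flatMap, List.mem_map, List.mem_range] at hx
  obtain ⟨⟨i, hi, j, hj, rfl⟩, -⟩ := hx
  exact ⟨hj, hi⟩

theorem inW_iff {s : ℕ} : inW s = true ↔ ∃ n < 64, s = wv n ∨ s = ((wv n) ^^^ zsC) := by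
  simp only [inW, List.any_eq_true, List.mem_range, Bool.or_eq_true]
  exact exists_congr fun n => and_congr_right fun _ => or_congr ⟨Nat.eq_of_beq_eq_true, fun h => by rw [h]; exact Nat.beq_refl _⟩
    ⟨Nat.eq_of_beq_eq_true, fun h => by rw [h]; exact Nat.beq_refl _⟩

theorem wv_lt {n : ℕ} (hn : n < 64) : wv n < 2048 :=
  Nat.blt_eq.mp (List.all_eq_true.mp w_ok.2.2.1 n (List.mem_range.mpr hn))

theorem inW_lt {s : ℕ} (h : inW s = true) : s < 2048 := by
  obtain ⟨n, hn, rfl | rfl⟩ := inW_iff.mp h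
  · exact wv_lt hn
  · exact Nat.xor_lt_two_pow (n := 11) (wv_lt hn) zs_ok.2.1

theorem kap_cols : ∀ (l : List ℕ), (∀ e ∈ l, e < 2048) → ∀ (H : Subgroup G), (∀ e ∈ l, kap d e ∈ H) → ∀ n,
    xorCols l n < 2048 ∧ kap d (xorCols l n) ∈ H
  | [], _, H, _, n => by
    simp only [xorCols]
    exact ⟨by norm_num, by rw [kap_zero]; exact one_mem _⟩
  | e :: l, hl, H, hm, n => by
    obtain ⟨h1, h2⟩ := kap_cols l (fun x hx => hl x (List.mem_cons_of_mem _ hx)) H
      (fun x hx => hm x (List.mem_cons_of_mem _ hx)) (n / 2)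
    have he := hl e List.mem_cons_self
    simp only [xorCols]
    split_ifs
    · exact ⟨Nat.xor_lt_two_pow (n := 11) he h1, by rw [kap_xor d he h1]; exact mul_mem (hm e List.mem_cons_self) h2⟩
    · rw [Nat.zero_xor]; exact ⟨h1, h2⟩

/-- The T-elements in W are the pairs inside tetrads, and W is spanned by them. -/
theorem W_std (hz : kap d zsC = z) :
    (∀ s < 2048, kap d s ∈ c.fixB A ↔ inW s = true) ∧
    ∀ x ∈ inTet, kap d (pcl x) ∈ c.Tset (c.vGrp A o.hA.1.1) ∧ kap d (pcl x) ∈ c.fixB A := by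
  classical
  set T := c.Tset (c.vGrp A o.hA.1.1) ∩ (c.fixB A : Set G) with hT
  set L := (inTet.map pcl).toFinset.image (kap d) with hL
  have hlt : ∀ s ∈ inTet.map pcl, s < 2048 := by
    intro s hs
    obtain ⟨x, hx, rfl⟩ := List.mem_map.mp hs
    exact (kap_pcl d (pcl_lt hx).1 (pcl_lt hx).2).1
  have hsub : T ⊆ (L : Set G) := by
    rintro t ⟨ht, htW⟩
    obtain ⟨p, q, hpq, e⟩ := d.onto t ht
    have hzt := c.T_zmul o.hA ht htW
    have key : ∀ p q : GolayPt, idx q < idx p → d.D p q = t → t ∈ (L : Set G) := by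
      intro p q hlt' e
      obtain ⟨h1, h2⟩ := kap_pcl d hlt' (idx_lt p)
      rw [pt_idx, pt_idx, e] at h2
      have h3 : kap d (((pcl (idx p, idx q)) ^^^ zsC)) = z * t := by
        rw [kap_zmul d hz h1]
        rw [h2]; exact c.Z_comm (c.vGrp_cent o.hA ht.1) (mem_zpowers z)
      have h4 : isPair (((pcl (idx p, idx q)) ^^^ zsC)) = true :=
        (kap_T d (Nat.xor_lt_two_pow (n := 11) h1 zs_ok.2.1)).mp (by rw [h3]; exact hzt)
      have h5 := List.all_eq_true.mp (List.all_eq_true.mp twin_ok.1 (idx p) (List.mem_range.mpr (idx_lt p)))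
        (idx q) (List.mem_range.mpr hlt')
      rw [h4] at h5
      simp only [Bool.not_true, Bool.false_or] at h5
      rw [hL, Finset.coe_image]
      refine ⟨pcl (idx p, idx q), List.mem_toFinset.mpr (List.mem_map.mpr ⟨_, ?_, rfl⟩), h2⟩
      simp only [inTet, List.mem_filter, List.mem_flatMap, List.mem_map, List.mem_range]
      exact ⟨⟨idx p, idx_lt p, idx q, hlt', rfl⟩, h5⟩
    rcases lt_trichotomy (idx p) (idx q) with h | h | h
    · exact key q p h (by rw [d.symm]; exact e)
    · exact absurd (idx_injective h) hpq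
    · exact key p q h e
  have hLc : (L : Set G).ncard ≤ 36 := by
    rw [Set.ncard_coe_finset, hL]
    refine Finset.card_image_le.trans ((List.toFinset_card_le _).trans ?_)
    rw [List.length_map, sameT_ok.2.2.1]
  have hTL : T = (L : Set G) := Set.eq_of_subset_of_ncard_le hsub (by rw [hT, o.cardTW]; exact hLc) (Set.toFinite _)
  have hin : ∀ x ∈ inTet, kap d (pcl x) ∈ c.Tset (c.vGrp A o.hA.1.1) ∧ kap d (pcl x) ∈ c.fixB A := by
    intro x hx
    have : kap d (pcl x) ∈ T := by
      rw [hTL, hL, Finset.coe_image]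
      exact ⟨_, List.mem_toFinset.mpr (List.mem_map.mpr ⟨x, hx, rfl⟩), rfl⟩
    exact this
  refine ⟨?_, hin⟩
  have hwB : ∀ e ∈ wB, e < 2048 ∧ kap d e ∈ c.fixB A := by
    intro e he
    obtain ⟨x, hx, rfl⟩ := List.mem_map.mp (List.contains_iff_mem.mp (List.all_eq_true.mp w_ok.2.1 e he))
    exact ⟨hlt _ (List.mem_map.mpr ⟨x, hx, rfl⟩), (hin x hx).2⟩
  have hsubW : ∀ s, inW s = true → kap d s ∈ c.fixB A := by
    intro s hs
    obtain ⟨n, hn, e⟩ := inW_iff.mp hs
    obtain ⟨h1, h2⟩ := kap_cols d wB (fun e he => (hwB e he).1) (c.fixB A) (fun e he => (hwB e he).2) n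
    rw [show xorCols wB n = wv n by rw [wv]] at h1 h2
    rcases e with rfl | rfl
    · exact h2
    · rw [kap_zmul d hz (wv_lt hn)]; exact mul_mem h2 o.zW
  intro s hs
  refine ⟨fun h => ?_, hsubW s⟩
  set L2 := ((List.range 64).flatMap fun n => [wv n, ((wv n) ^^^ zsC)]).toFinset with hL2
  have hmem : ∀ a, a ∈ L2 ↔ inW a = true := fun a => by
    simp [hL2, inW_iff]
  have heq : (L2.image (kap d) : Set G) = (c.fixB A : Set G) := by
    refine Set.eq_of_subset_of_ncard_le ?_ ?_ (Set.toFinite _)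
    · intro y hy
      rw [Finset.mem_coe, Finset.mem_image] at hy
      obtain ⟨a, ha, rfl⟩ := hy
      exact hsubW a ((hmem a).mp ha)
    · rw [← Nat.card_coe_set_eq]
      change Nat.card ↥(c.fixB A) ≤ _
      rw [(c.hex_fix o.hA.1).1, Set.ncard_coe_finset, Finset.card_image_of_injOn fun a ha b hb e =>
        kap_inj d (inW_lt ((hmem a).mp ha)) (inW_lt ((hmem b).mp hb)) e, hL2, List.card_toFinset, w_ok.2.2.2]
      norm_num
  obtain ⟨a, ha, e⟩ := Finset.mem_image.mp (heq.symm ▸ h : kap d s ∈ (L2.image (kap d) : Set G))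
  rw [← kap_inj d (inW_lt ((hmem a).mp ha)) hs e]
  exact (hmem a).mp ha

/-- An element moving every pair of a tetrad to a pair of the same tetrad fixes the tetrads. -/
theorem theta_fix (n : ↥(normalizer (c.vGrp A o.hA.1.1 : Set G)))
    (h : ∀ x ∈ inTet, sameT x.1 (idx ((d.θ n).1 (pt x.1))) = true ∧ sameT x.2 (idx ((d.θ n).1 (pt x.2))) = true) :
    ∀ t ∈ S0, (d.θ n).1 • t = t := by
  refine fix_of_sameT fun p => ?_
  have := List.all_eq_true.mp sameT_ok.2.2.2.2 (idx p) (List.mem_range.mpr (idx_lt p))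
  simp only [List.any_eq_true, Bool.or_eq_true] at this
  obtain ⟨x, hx, e | e⟩ := this
  · have := (h x hx).1
    rwa [Nat.eq_of_beq_eq_true e, pt_idx] at this
  · have := (h x hx).2
    rwa [Nat.eq_of_beq_eq_true e, pt_idx] at this

/-- The image of a pair. -/
theorem pair_image {n : ↥(normalizer (c.vGrp A o.hA.1.1 : Set G))} {x : ℕ × ℕ} (hx : x ∈ inTet) :
    ∃ i j, j < i ∧ i < 24 ∧ (n : G) * kap d (pcl x) * (n : G)⁻¹ = kap d (pcl (i, j)) ∧
      (i = idx ((d.θ n).1 (pt x.1)) ∧ j = idx ((d.θ n).1 (pt x.2)) ∨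
        j = idx ((d.θ n).1 (pt x.1)) ∧ i = idx ((d.θ n).1 (pt x.2))) := by
  obtain ⟨h21, h1⟩ := pcl_lt hx
  have hk := (kap_pcl d h21 h1).2
  have e : (n : G) * kap d (pcl x) * (n : G)⁻¹ = d.D ((d.θ n).1 (pt x.1)) ((d.θ n).1 (pt x.2)) := by
    show (n : G) * kap d (pcl (x.1, x.2)) * (n : G)⁻¹ = _
    rw [hk, d.conj]
  set a := idx ((d.θ n).1 (pt x.1))
  set b := idx ((d.θ n).1 (pt x.2))
  have hne : a ≠ b := fun e => by
    have := congrArg idx ((d.θ n).1.injective (idx_injective e))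
    rw [idx_pt h1, idx_pt (show x.2 < 24 by omega)] at this
    omega
  rcases lt_or_gt_of_ne hne with h | h
  · refine ⟨b, a, h, idx_lt _, ?_, Or.inr ⟨rfl, rfl⟩⟩
    rw [(kap_pcl d h (idx_lt _)).2, pt_idx, pt_idx, e, d.symm]
  · refine ⟨a, b, h, idx_lt _, ?_, Or.inl ⟨rfl, rfl⟩⟩
    rw [(kap_pcl d h (idx_lt _)).2, pt_idx, pt_idx, e]

/-- E acts on the tetrads trivially, through the elementary group of order 64. -/
theorem theta_E (hz : kap d zsC = z) {e : G} (he : e ∈ E) :
    (d.θ ⟨e, c.E_norm_V o.hA he⟩).1 ∈ elGr sxN := by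
  classical
  obtain ⟨hW, hin⟩ := W_std d hz
  set n : ↥(normalizer (c.vGrp A o.hA.1.1 : Set G)) := ⟨e, c.E_norm_V o.hA he⟩ with hn
  have hfix : ∀ t ∈ S0, (d.θ n).1 • t = t := by
    refine theta_fix d n fun x hx => ?_
    obtain ⟨i, j, hij, hi, hcj, hii⟩ := pair_image d (n := n) hx
    obtain ⟨h21, h1⟩ := pcl_lt hx
    have hxlt : pcl x < 2048 := (kap_pcl d h21 h1).1
    have hij' : pcl (i, j) < 2048 := (kap_pcl d hij hi).1
    have hcases : pcl (i, j) = pcl x ∨ pcl (i, j) = ((pcl x) ^^^ zsC) := by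
      have h := c.comm_E he (c.fixB_le A (hin x hx).2)
      rw [commutatorElement_def, show e * kap d (pcl x) * e⁻¹ = kap d (pcl (i, j)) from hcj,
        inv_eq_of_mul_eq_one_right (c.vGrp_sq o.hA.1 (kap_mem d _)), ← kap_xor d hij' hxlt] at h
      have hl := Nat.xor_lt_two_pow (n := 11) hij' hxlt
      rcases c.mem_Z.mp h with h | h
      · exact Or.inl (xor_left_inj' (a := pcl x) (by rw [Nat.xor_self, Nat.xor_comm, (kap_one d hl).mp h]))
      · refine Or.inr (xor_left_inj' (a := pcl x) ?_)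
        rw [Nat.xor_comm, kap_inj d hl zs_ok.2.1 (h.trans hz.symm)]
        exact (xor_self_cancel _ _).symm
    have h5 := List.all_eq_true.mp (List.all_eq_true.mp (List.all_eq_true.mp twin_ok.2 x hx) i
      (List.mem_range.mpr hi)) j (List.mem_range.mpr hij)
    have hb : (Nat.beq (pcl (i, j)) (pcl x) || Nat.beq (pcl (i, j)) (((pcl x) ^^^ zsC))) = true := by
      rcases hcases with h | h <;> rw [h] <;> simp
    rw [hb] at h5
    simp only [Bool.not_true, Bool.false_or, Bool.and_eq_true] at h5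
    rcases hii with ⟨rfl, rfl⟩ | ⟨rfl, rfl⟩
    · exact ⟨h5.1.1.1, h5.2⟩
    · exact ⟨h5.1.1.2, h5.1.2⟩
  obtain ⟨m, hm, hr⟩ := sextKer_code (d.θ n).2 hfix
  have hsq : (d.θ n).1 * (d.θ n).1 = 1 := by
    have h1 : d.θ (n * n) = 1 := (d.theta_one _).mpr (mem_sup_left (c.Z_le_fixB A (c.sq_mem_Z he)))
    rw [map_mul] at h1
    exact congrArg Subtype.val h1
  have h64 := List.all_eq_true.mp ker_ok.2.2.1 m (List.mem_range.mpr hm)
  have hpid : pcomp (kerCode m) (kerCode m) = pid :=
    eq_of_papp (pcomp_lt _ _) pid_lt fun i hi => by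
      have h1 := (hr.comp hr) (pt i)
      have h2 := repr_pid (pt i)
      rw [idx_pt hi] at h1 h2
      rw [← h1, hsq, ← h2]
  rw [hpid] at h64
  have hm64 : m < 64 := by simpa [Nat.blt_eq] using h64
  obtain ⟨x, hx, hxr⟩ := elW_repr sxN (fun c hc => ((elOK_data sxN_ok.1).2.1 c hc).1) m
  have hk : kerCode m = pcomp (elW sxN m) pid := by
    simp [kerCode, Nat.mod_eq_of_lt hm64, Nat.div_eq_of_lt hm64]
  rw [hr.unique (hk ▸ (hxr.comp repr_pid)), mul_one]
  exact hx

/-- Every element of the group of order 64 comes from E. -/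
theorem exists_E (hz : kap d zsC = z) {g : Equiv.Perm GolayPt} (hg : g ∈ elGr sxN) :
    ∃ e, ∃ he : e ∈ E, (d.θ ⟨e, c.E_norm_V o.hA he⟩).1 = g := by
  classical
  let f : ↥E →* ↥M24 := d.θ.comp (Subgroup.inclusion fun x hx => c.E_norm_V o.hA hx)
  have hker : f.ker = (c.fixB A).subgroupOf E := by
    ext x
    rw [MonoidHom.mem_ker, mem_subgroupOf]
    exact ⟨fun h => c.vGrp_inf_E o.hA.1 ((d.theta_one _).mp h) x.2, fun h => (d.theta_one _).mpr (mem_sup_left h)⟩
  have hr : f.range ≤ (elGr sxN).subgroupOf M24 := by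
    rintro _ ⟨x, rfl⟩
    exact theta_E d hz x.2
  have hcard : Nat.card ↥((elGr sxN).subgroupOf M24) ≤ Nat.card f.range := by
    have h := card_mul_index f.ker
    rw [Subgroup.index_ker, hker, Nat.card_congr (subgroupOfEquivOfLe (c.fixB_le A)).toEquiv,
      (c.hex_fix o.hA.1).1, c.hE] at h
    rw [Nat.card_congr (subgroupOfEquivOfLe (elGr_le sxN_ok.1)).toEquiv, card_elGr sxN_ok.1]
    omega
  obtain ⟨x, hx⟩ := (eq_of_le_of_card_ge hr hcard).ge
    (show (⟨g, elGr_le sxN_ok.1 hg⟩ : ↥M24) ∈ (elGr sxN).subgroupOf M24 from hg)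
  exact ⟨x, x.2, congrArg Subtype.val hx⟩

theorem P_norm (hp : ∀ p ∈ P, p ∈ c.cen) {p : G} (hpP : p ∈ P) : p ∈ normalizer (c.vGrp A o.hA.1.1 : Set G) :=
  c.cen_norm_V o.hA.1 (hp p hpP) (by rw [c.val_P hpP]; exact one_mem _)

/-- Normal coordinates: the centre and a generator of P in standard position. -/
theorem exists_std (o : c.Orb A) : ∃ (d : o.Duads) (p : G) (hp : p ∈ P), P = zpowers p ∧ kap d zsC = z ∧
    Repr k3C (d.θ ⟨p, P_norm (o := o) (fun _ h => c.P_le_cen h) hp⟩).1 := by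
  classical
  obtain ⟨d, hz⟩ := exists_z_std o
  obtain ⟨p, hp, hp1, hgen⟩ := c.exists_gen
  obtain ⟨hW, hin⟩ := W_std d hz
  set n : ↥(normalizer (c.vGrp A o.hA.1.1 : Set G)) := ⟨p, P_norm (o := o) (fun _ h => c.P_le_cen h) hp⟩ with hn
  have hfix : ∀ t ∈ S0, (d.θ n).1 • t = t := by
    refine theta_fix d n fun x hx => ?_
    obtain ⟨i, j, hij, hi, hcj, hii⟩ := pair_image d (n := n) hx
    have hx1 := (hin x hx).2
    have hcls : ∀ y ∈ c.Tset (c.vGrp A o.hA.1.1) ∩ (c.fixB A : Set G), ∀ i j, j < i → i < 24 →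
        y = kap d (pcl (i, j)) → (i, j) ∈ inTet := by
      rintro y ⟨hyT, hyW⟩ i j hij hi rfl
      have h1 := (kap_pcl d hij hi).1
      have hzt : kap d (((pcl (i, j)) ^^^ zsC)) ∈ c.Tset (c.vGrp A o.hA.1.1) := by
        rw [kap_zmul d hz h1, c.Z_comm (c.vGrp_cent o.hA hyT.1) (mem_zpowers z)]
        exact c.T_zmul o.hA hyT hyW
      have h5 := List.all_eq_true.mp (List.all_eq_true.mp twin_ok.1 i (List.mem_range.mpr hi)) j
        (List.mem_range.mpr hij)
      rw [(kap_T d (Nat.xor_lt_two_pow (n := 11) h1 zs_ok.2.1)).mp hzt] at h5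
      simp only [inTet, List.mem_filter, List.mem_flatMap, List.mem_map, List.mem_range]
      exact ⟨⟨i, hi, j, hij, rfl⟩, by simpa using h5⟩
    have hy1 : (n : G) * kap d (pcl x) * (n : G)⁻¹ ∈ c.Tset (c.vGrp A o.hA.1.1) ∩ (c.fixB A : Set G) :=
      ⟨c.norm_T n.2 (hin x hx).1, c.fixB_P hp hx1⟩
    have hm1 := hcls _ hy1 i j hij hi hcj
    obtain ⟨i', j', hij', hi', hcj', -⟩ := pair_image d (n := n) hm1
    have hm2 := hcls _ ⟨c.norm_T n.2 (hin _ hm1).1, c.fixB_P hp (hin _ hm1).2⟩ i' j' hij' hi' hcj'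
    have hprod := c.orbit_prod_Z o.hA.1 hp hgen hx1
    rw [show p * kap d (pcl x) * p⁻¹ = kap d (pcl (i, j)) from hcj,
      show p * kap d (pcl (i, j)) * p⁻¹ = kap d (pcl (i', j')) from hcj'] at hprod
    obtain ⟨a21, a1⟩ := pcl_lt hx
    have b1 := (kap_pcl d hij hi).1
    have b2 := (kap_pcl d hij' hi').1
    have b0 : pcl x < 2048 := (kap_pcl d a21 a1).1
    rw [← kap_xor d b0 b1, ← kap_xor d (Nat.xor_lt_two_pow (n := 11) b0 b1) b2] at hprod
    have hl := Nat.xor_lt_two_pow (n := 11) (Nat.xor_lt_two_pow (n := 11) b0 b1) b2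
    have h6 := tri_ok
    simp only [triOK, List.all_map, List.all_eq_true, Function.comp_apply] at h6
    have h7 := h6 x hx (i, j) hm1 (i', j') hm2
    have hb : (Nat.beq ((pcl x ^^^ pcl (i, j) ^^^ pcl (i', j'))) 0 ||
        Nat.beq ((pcl x ^^^ pcl (i, j) ^^^ pcl (i', j'))) zsC) = true := by
      rcases c.mem_Z.mp hprod with h | h
      · simp [show (pcl x ^^^ pcl (i, j) ^^^ pcl (i', j')) = 0 from (kap_one d hl).mp h]
      · simp [show (pcl x ^^^ pcl (i, j) ^^^ pcl (i', j')) = zsC from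
          kap_inj d hl zs_ok.2.1 (h.trans hz.symm)]
    rw [hb] at h7
    simp only [Bool.not_true, Bool.false_or] at h7
    have hij2 : sameT i j = true := (List.mem_filter.mp hm1).2
    have hx2 : sameT x.1 x.2 = true := (List.mem_filter.mp hx).2
    -- all four indices lie in one tetrad
    rw [sameT] at h7
    obtain ⟨t, ht, htb⟩ := List.any_eq_true.mp h7
    rw [Bool.and_eq_true] at htb
    have htj := sameT_of ht hi (by omega) htb.2 hij2
    have ht2 := sameT_of ht a1 (by omega) htb.1 hx2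
    have mk : ∀ a b, bitF t a = true → bitF t b = true → sameT a b = true := fun a b ha hb =>
      by rw [sameT]; exact List.any_eq_true.mpr ⟨t, ht, by rw [ha, hb]; rfl⟩
    rcases hii with ⟨e1, e2⟩ | ⟨e1, e2⟩ <;> rw [← e1, ← e2]
    · exact ⟨mk _ _ htb.1 htb.2, mk _ _ ht2 htj⟩
    · exact ⟨mk _ _ htb.1 htj, mk _ _ ht2 htb.2⟩
  obtain ⟨m, hm, hr⟩ := sextKer_code (d.θ n).2 hfix
  have h3 : d.θ n * (d.θ n * d.θ n) = 1 := by
    rw [← map_mul, ← map_mul, show n * (n * n) = 1 from Subtype.ext (by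
      show p * (p * p) = 1
      rw [← mul_assoc, c.P_cube hp]), map_one]
  have h3' : pcomp (kerCode m) (pcomp (kerCode m) (kerCode m)) = pid :=
    eq_of_papp (pcomp_lt _ _) pid_lt fun i hi => by
      have h1 := (hr.comp (hr.comp hr)) (pt i)
      have h2 := repr_pid (pt i)
      rw [idx_pt hi] at h1 h2
      rw [← h1, ← h2]
      exact congrArg idx (by rw [show (d.θ n).1 * ((d.θ n).1 * (d.θ n).1) = 1 from congrArg Subtype.val h3])
  have hne : kerCode m ≠ pid := fun e => by
    have h1 : (d.θ n).1 = 1 := hr.unique (e ▸ repr_pid)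
    have h2 : p ∈ c.vGrp A o.hA.1.1 := (d.theta_one n).mp (Subtype.ext h1)
    have h4 := c.vGrp_sq o.hA.1 h2
    have h5 := c.P_cube hp
    rw [h4, one_mul] at h5
    exact hp1 h5
  have hk := List.all_eq_true.mp ker_ok.2.2.2 m (List.mem_range.mpr hm)
  rw [h3', show Nat.beq (kerCode m) pid = false from by
    by_contra h; exact hne (Nat.eq_of_beq_eq_true (by simpa using h))] at hk
  simp only [Nat.beq_refl, Bool.not_true, Bool.false_or, List.any_eq_true, List.mem_range, Bool.or_eq_true] at hk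
  obtain ⟨l, -, hl⟩ := hk
  obtain ⟨x, hx, hxr⟩ := elW_repr sxN (fun c hc => ((elOK_data sxN_ok.1).2.1 c hc).1) l
  have hxx : x * x = 1 := elGr_invol sxN_ok.1 hx
  have hconj := (hxr.comp hr).comp hxr
  have hz' : kap (relabel d (elGr_le sxN_ok.1 hx)) zsC = z := by
    rw [← prodD_tetr, prodD_relabel d _ (by rw [card_toSet]; decide +kernel), ← smul_set_pts]
    have : x • (toSet 8388615) = toSet 8388615 :=
      elGr_fix hx _ tetr0_mem
    rw [this, prodD_tetr, hz]
  have hθ : ∀ q : ↥(normalizer (c.vGrp A o.hA.1.1 : Set G)),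
      ((relabel d (elGr_le sxN_ok.1 hx)).θ q).1 = x * (d.θ q).1 * x := fun q => by
    rw [relabel_theta, inv_eq_of_mul_eq_one_right hxx]
  rcases hl with hl | hl
  · refine ⟨relabel d (elGr_le sxN_ok.1 hx), p, hp, hgen, hz', ?_⟩
    rw [hθ]
    exact Nat.eq_of_beq_eq_true hl ▸ hconj
  · refine ⟨relabel d (elGr_le sxN_ok.1 hx), p * p, mul_mem hp hp, ?_, hz', ?_⟩
    · refine le_antisymm ?_ (zpowers_le.mpr (mul_mem hp hp))
      rw [hgen, zpowers_le, mem_zpowers_iff]
      exact ⟨2, by rw [zpow_two, show p * p * (p * p) = p * p * p * p by group, c.P_cube hp, one_mul]⟩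
    · rw [hθ, show (⟨p * p, P_norm (o := o) (fun _ h => c.P_le_cen h) (mul_mem hp hp)⟩ :
        ↥(normalizer (c.vGrp A o.hA.1.1 : Set G))) = n * n from rfl, map_mul]
      have h2 : Repr (pcomp k3C k3C) (x * (d.θ n).1 * x) := Nat.eq_of_beq_eq_true hl ▸ hconj
      have h4 := h2.comp h2
      rw [show x * (d.θ n).1 * x * (x * (d.θ n).1 * x) = x * ((d.θ n).1 * (d.θ n).1) * x by
        simp only [mul_assoc]; rw [← mul_assoc x x, hxx, one_mul]] at h4
      have e4 : pcomp (pcomp k3C k3C) (pcomp k3C k3C) = k3C := by decide +kernel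
      rw [e4] at h4
      exact h4

end CfsgLib.J4Order
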