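/-
The normalizer of the group of order 2^11 as pairs of a class and a permutation code.
-/
import Cfsg.Agent.Lib.J4Order.Base

set_option autoImplicit false

namespace CfsgLib.J4Order

open Cfsg Subgroup CfsgGolay CfsgLib.JankoFour

attribute [local irreducible] codeL octadL dodecadL slpCodes pcomp pmask cls

/-- The code of an element of M24. -/
def Kc (c : ℕ) : Prop := c < 2 ^ 120 ∧ ∃ g ∈ M24, Repr c g

/-- The check for a code of an element of M24. -/
def kcB (c : ℕ) : Bool := Nat.blt c (2 ^ 120) && permOK c && gensKept c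

theorem kc_of_check {c : ℕ} (h : kcB c = true) : Kc c := by
  simp only [kcB, Bool.and_eq_true, Nat.blt_eq] at h
  obtain ⟨g, hg⟩ := exists_repr_of_permOK h.1.2
  exact ⟨h.1.1, g, mem_M24_of_gensKept hg h.2, hg⟩

theorem Kc.comp {a b : ℕ} (ha : Kc a) (hb : Kc b) : Kc (pcomp a b) := by
  obtain ⟨-, g, hg, hr⟩ := ha
  obtain ⟨-, h, hh, hs⟩ := hb
  exact ⟨pcomp_lt _ _, g * h, mul_mem hg hh, hr.comp hs⟩

theorem kc_pid : Kc pid := ⟨pid_lt, 1, one_mem _, repr_pid⟩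

theorem repr_code_eq {a b : ℕ} (ha : a < 2 ^ 120) (hb : b < 2 ^ 120) {g : Equiv.Perm GolayPt} (h : Repr a g)
    (h' : Repr b g) : a = b :=
  eq_of_papp ha hb fun i hi => by
    have h1 := h (pt i)
    have h2 := h' (pt i)
    rw [idx_pt hi] at h1 h2
    rw [← h1, ← h2]

/-- The code of a permutation. -/
def codeOf (g : Equiv.Perm GolayPt) : ℕ := pack (fun i => idx (g (pt i)) % 32) 24

theorem codeOf_spec (g : Equiv.Perm GolayPt) : codeOf g < 2 ^ 120 ∧ Repr (codeOf g) g := by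
  have h := pack_spec (fun i => idx (g (pt i)) % 32) (fun i => Nat.mod_lt _ (by norm_num)) 24
  refine ⟨h.1, fun p => ?_⟩
  rw [codeOf, h.2 _ (idx_lt p), pt_idx, Nat.mod_eq_of_lt]
  have := idx_lt (g p)
  omega

theorem xorCols_linear (f : ℕ → ℕ) (n : ℕ) (hf : ∀ a b, a < 2 ^ n → b < 2 ^ n → f (a ^^^ b) = f a ^^^ f b) :
    ∀ m k s, k + m ≤ n → s < 2 ^ m → xorCols ((List.range' k m).map fun i => f (2 ^ i)) s = f (2 ^ k * s) := by
  have h0 : f 0 = 0 := by
    have := hf 0 0 (Nat.two_pow_pos n) (Nat.two_pow_pos n)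
    rwa [Nat.xor_self, Nat.xor_self] at this
  intro m
  induction m with
  | zero =>
    intro k s _ hs
    obtain rfl : s = 0 := by simpa using hs
    simp [xorCols, h0]
  | succ m ih =>
    intro k s hk hs
    rw [List.range'_succ, List.map_cons, xorCols, ih (k + 1) (s / 2) (by omega) (by rw [pow_succ] at hs; omega)]
    have hhi : 2 ^ (k + 1) * (s / 2) < 2 ^ n :=
      calc 2 ^ (k + 1) * (s / 2) < 2 ^ (k + 1) * 2 ^ m := by
            refine Nat.mul_lt_mul_of_pos_left ?_ (Nat.two_pow_pos _)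
            rw [pow_succ] at hs; omega
        _ ≤ 2 ^ n := by rw [← pow_add]; exact Nat.pow_le_pow_right (by norm_num) (by omega)
    rcases Nat.mod_two_eq_zero_or_one s with h | h
    · rw [if_neg (by omega), Nat.zero_xor]
      congr 1
      rw [pow_succ, mul_assoc]; congr 1; omega
    · rw [if_pos h, ← hf _ _ (Nat.pow_lt_pow_right (by norm_num) (by omega)) hhi]
      congr 1
      have e : 2 ^ k * s = 2 ^ (k + 1) * (s / 2) + 2 ^ k := by
        rw [pow_succ, mul_assoc]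
        conv_lhs => rw [show s = 2 * (s / 2) + 1 by omega, mul_add, mul_one]
      rw [e, Nat.two_pow_add_eq_or_of_lt (Nat.pow_lt_pow_right (by norm_num) (by omega))]
      apply Nat.eq_of_testBit_eq
      intro i
      rw [Nat.testBit_xor, Nat.testBit_or, Nat.testBit_two_pow, Nat.testBit_two_pow_mul]
      by_cases hi : k + 1 ≤ i
      · simp [hi, show k ≠ i by omega]
      · simp [hi]

theorem xorCols_linear' (f : ℕ → ℕ) {n : ℕ} (hf : ∀ a b, a < 2 ^ n → b < 2 ^ n → f (a ^^^ b) = f a ^^^ f b)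
    {s : ℕ} (hs : s < 2 ^ n) : xorCols ((List.range n).map fun i => f (2 ^ i)) s = f s := by
  have := xorCols_linear f n hf n 0 s (by omega) hs
  rwa [← List.range_eq_range', pow_zero, one_mul] at this

universe u

variable {G : Type u} [Group G] [Finite G] {z : G} {P E : Subgroup G} {c : Ctx z P E} {A : Subgroup MTwoTwo}

/-- Coordinates: duads and a complement. -/
structure Frame (o : c.Orb A) : Type u where
  d : o.Duads
  K : Subgroup G
  hKN : K ≤ normalizer (c.vGrp A o.hA.1.1 : Set G)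
  hKV : K ⊓ c.vGrp A o.hA.1.1 = ⊥
  hKsup : K ⊔ c.vGrp A o.hA.1.1 = normalizer (c.vGrp A o.hA.1.1 : Set G)
  hz : kap d zsC = z

namespace Frame

variable {o : c.Orb A} (F : Frame o)

theorem theta_inj {a b : G} (ha : a ∈ F.K) (hb : b ∈ F.K) (h : F.d.θ ⟨a, F.hKN ha⟩ = F.d.θ ⟨b, F.hKN hb⟩) : a = b := by
  have h1 : F.d.θ (⟨a, F.hKN ha⟩ * ⟨b, F.hKN hb⟩⁻¹) = 1 := by rw [map_mul, map_inv, h, mul_inv_cancel]
  have h2 := (F.d.theta_one _).mp h1
  have h3 : a * b⁻¹ ∈ (⊥ : Subgroup G) := F.hKV ▸ mem_inf.mpr ⟨mul_mem ha (inv_mem hb), h2⟩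
  exact mul_inv_eq_one.mp (mem_bot.mp h3)

theorem exists_K {g : Equiv.Perm GolayPt} (hg : g ∈ M24) :
    ∃ k, ∃ hk : k ∈ F.K, (F.d.θ ⟨k, F.hKN hk⟩).1 = g := by
  obtain ⟨n, hn⟩ := F.d.surj ⟨g, hg⟩
  obtain ⟨v, hv, k, hk, e⟩ := o.decomp_K F.hKN F.hKsup n.2
  refine ⟨k, hk, ?_⟩
  rw [show n = (⟨v, le_normalizer hv⟩ : ↥(normalizer (c.vGrp A o.hA.1.1 : Set G))) * ⟨k, F.hKN hk⟩ from Subtype.ext e,
    map_mul, (F.d.theta_one ⟨v, le_normalizer hv⟩).mpr hv, one_mul] at hn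
  exact congrArg Subtype.val hn

open Classical in
/-- The element of the complement with the given code. -/
noncomputable def lift (a : ℕ) : G :=
  if h : ∃ k, ∃ hk : k ∈ F.K, Repr a (F.d.θ ⟨k, F.hKN hk⟩).1 then h.choose else 1

theorem lift_spec {a : ℕ} (h : Kc a) : ∃ hk : F.lift a ∈ F.K, Repr a (F.d.θ ⟨F.lift a, F.hKN hk⟩).1 := by
  classical
  obtain ⟨-, g, hg, hr⟩ := h
  have hex : ∃ k, ∃ hk : k ∈ F.K, Repr a (F.d.θ ⟨k, F.hKN hk⟩).1 := by
    obtain ⟨k, hk, e⟩ := F.exists_K hg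
    exact ⟨k, hk, by rw [e]; exact hr⟩
  rw [lift, dif_pos hex]
  exact hex.choose_spec

theorem lift_mem {a : ℕ} (h : Kc a) : F.lift a ∈ F.K := (F.lift_spec h).1

theorem lift_eq {a : ℕ} {k : G} (hk : k ∈ F.K) (h : Repr a (F.d.θ ⟨k, F.hKN hk⟩).1) (ha : Kc a) : F.lift a = k := by
  obtain ⟨hm, hr⟩ := F.lift_spec ha
  exact F.theta_inj hm hk (Subtype.ext (hr.unique h))

theorem lift_mul {a b : ℕ} (ha : Kc a) (hb : Kc b) : F.lift a * F.lift b = F.lift (pcomp a b) := by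
  obtain ⟨ha', hra⟩ := F.lift_spec ha
  obtain ⟨hb', hrb⟩ := F.lift_spec hb
  refine (F.lift_eq (mul_mem ha' hb') ?_ (ha.comp hb)).symm
  rw [show (⟨F.lift a * F.lift b, F.hKN (mul_mem ha' hb')⟩ : ↥(normalizer (c.vGrp A o.hA.1.1 : Set G))) =
    ⟨F.lift a, F.hKN ha'⟩ * ⟨F.lift b, F.hKN hb'⟩ from rfl, map_mul]
  exact hra.comp hrb

theorem lift_pid : F.lift pid = 1 :=
  F.lift_eq (one_mem _) (by
    rw [show (⟨1, F.hKN (one_mem _)⟩ : ↥(normalizer (c.vGrp A o.hA.1.1 : Set G))) = 1 from rfl, map_one]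
    exact repr_pid) kc_pid

theorem lift_conj {a : ℕ} (ha : Kc a) {s : ℕ} (hs : s < 2048) :
    actC a s < 2048 ∧ F.lift a * kap F.d s * (F.lift a)⁻¹ = kap F.d (actC a s) := by
  obtain ⟨hm, hr⟩ := F.lift_spec ha
  exact kap_actC F.d (n := ⟨F.lift a, F.hKN hm⟩) hr hs

/-- The element with given class and code. -/
noncomputable def el (v a : ℕ) : G := kap F.d v * F.lift a

theorem el_mem {v a : ℕ} (ha : Kc a) : F.el v a ∈ normalizer (c.vGrp A o.hA.1.1 : Set G) :=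
  mul_mem (le_normalizer (kap_mem F.d v)) (F.hKN (F.lift_mem ha))

theorem el_mul {v w a b : ℕ} (hv : v < 2048) (hw : w < 2048) (ha : Kc a) (hb : Kc b) :
    F.el v a * F.el w b = F.el (v ^^^ actC a w) (pcomp a b) := by
  obtain ⟨h1, h2⟩ := F.lift_conj ha hw
  rw [el, el, el, kap_xor F.d hv h1, ← h2, ← F.lift_mul ha hb]
  group

theorem el_pid {v : ℕ} : F.el v pid = kap F.d v := by rw [el, lift_pid, mul_one]

theorem el_one : F.el 0 pid = 1 := by rw [el_pid, kap_zero]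

theorem el_inj {v w a b : ℕ} (hv : v < 2048) (hw : w < 2048) (ha : Kc a) (hb : Kc b) (h : F.el v a = F.el w b) :
    v = w ∧ a = b := by
  have h0 : (kap F.d w)⁻¹ * kap F.d v = F.lift b * (F.lift a)⁻¹ := by
    rw [el, el] at h
    rw [eq_mul_inv_iff_mul_eq, mul_assoc, h, inv_mul_cancel_left]
  have h1 : F.lift b * (F.lift a)⁻¹ ∈ (⊥ : Subgroup G) := F.hKV ▸ mem_inf.mpr
    ⟨mul_mem (F.lift_mem hb) (inv_mem (F.lift_mem ha)), h0 ▸ mul_mem (inv_mem (kap_mem F.d w)) (kap_mem F.d v)⟩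
  rw [mem_bot] at h1
  rw [h1] at h0
  refine ⟨kap_inj F.d hv hw (inv_mul_eq_one.mp h0).symm, ?_⟩
  obtain ⟨ha', hra⟩ := F.lift_spec ha
  obtain ⟨hb', hrb⟩ := F.lift_spec hb
  have e : F.lift a = F.lift b := (mul_inv_eq_one.mp h1).symm
  refine repr_code_eq ha.1 hb.1 hra ?_
  simp only [e]
  exact hrb

theorem el_surj {n : G} (hn : n ∈ normalizer (c.vGrp A o.hA.1.1 : Set G)) :
    ∃ v < 2048, ∃ a, Kc a ∧ F.el v a = n := by
  obtain ⟨v, hv, k, hk, rfl⟩ := o.decomp_K F.hKN F.hKsup hn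
  obtain ⟨s, hs, rfl⟩ := kap_surj F.d hv
  set g := F.d.θ ⟨k, F.hKN hk⟩
  obtain ⟨h1, h2⟩ := codeOf_spec g.1
  have ha : Kc (codeOf g.1) := ⟨h1, g.1, g.2, h2⟩
  exact ⟨s, hs, _, ha, by rw [el, F.lift_eq hk h2 ha]⟩

include F in
theorem actC_xor {a x y : ℕ} (ha : Kc a) (hx : x < 2048) (hy : y < 2048) :
    actC a (x ^^^ y) = actC a x ^^^ actC a y := by
  obtain ⟨h1, e1⟩ := F.lift_conj ha (Nat.xor_lt_two_pow (n := 11) hx hy)
  obtain ⟨h2, e2⟩ := F.lift_conj ha hx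
  obtain ⟨h3, e3⟩ := F.lift_conj ha hy
  refine kap_inj F.d h1 (Nat.xor_lt_two_pow (n := 11) h2 h3) ?_
  rw [← e1, kap_xor F.d hx hy, kap_xor F.d h2 h3, ← e2, ← e3]
  group

include F in
theorem amul_eq {a s : ℕ} (ha : Kc a) (hs : s < 2048) : amul (colC a) s = actC a s :=
  xorCols_linear' (actC a) (n := 11) (fun x y hx hy => F.actC_xor ha hx hy) hs

include F in
theorem actC_pid {s : ℕ} (hs : s < 2048) : actC pid s = s := by
  obtain ⟨h1, h2⟩ := F.lift_conj kc_pid hs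
  rw [F.lift_pid, one_mul, inv_one, mul_one] at h2
  exact (kap_inj F.d hs h1 h2).symm

/-- The square of an element. -/
theorem el_sq {v a : ℕ} (hv : v < 2048) (ha : Kc a) :
    F.el v a * F.el v a = 1 ↔ pcomp a a = pid ∧ actC a v = v := by
  rw [F.el_mul hv hv ha ha, ← F.el_one]
  have hl := Nat.xor_lt_two_pow (n := 11) hv (F.lift_conj ha hv).1
  constructor
  · intro h
    obtain ⟨h1, h2⟩ := F.el_inj hl (by norm_num) (ha.comp ha) kc_pid h
    exact ⟨h2, xor_left_inj' (a := v) (by rw [h1, Nat.xor_self])⟩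
  · rintro ⟨h1, h2⟩
    rw [h1, h2, Nat.xor_self]

end Frame

end CfsgLib.J4Order
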