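/-
Kernel checks for the two classes of involutions above the group of order 2^11.
-/
import Cfsg.Agent.Lib.J4Order.Elem

set_option autoImplicit false
set_option maxRecDepth 20000

namespace CfsgLib.J4Order

open Cfsg CfsgGolay

attribute [local irreducible] codeL octadL dodecadL slpCodes

/-- A set of small numbers as a bit mask. -/
def maskOf : List ℕ → ℕ
  | [] => 0
  | a :: l => Nat.lor (Nat.pow 2 a) (maskOf l)

theorem bitF_maskOf {v : ℕ} : ∀ l : List ℕ, bitF (maskOf l) v = true ↔ v ∈ l
  | [] => by simp [maskOf, bitF_eq]
  | a :: l => by
    have ih := bitF_maskOf (v := v) l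
    rw [bitF_eq] at ih ⊢
    rw [show maskOf (a :: l) = 2 ^ a ||| maskOf l from rfl, Nat.testBit_or, Bool.or_eq_true, ih, Nat.testBit_two_pow,
      decide_eq_true_iff, List.mem_cons, eq_comm (a := a)]

theorem mem_spanList' {x : ℕ} : ∀ {l : List ℕ}, x ∈ spanList l ↔ ∃ u < 2 ^ l.length, xorCols l u = x
  | [] => by simp [spanList, xorCols, eq_comm]
  | e :: l => by
    simp only [spanList, List.mem_flatMap, List.mem_cons, List.not_mem_nil, or_false, List.length_cons]
    constructor
    · rintro ⟨y, hy, rfl | rfl⟩
      all_goals obtain ⟨u, hu, rfl⟩ := mem_spanList'.mp hy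
      · exact ⟨2 * u, by rw [pow_succ]; omega, by simp [xorCols]⟩
      · exact ⟨2 * u + 1, by rw [pow_succ]; omega, by
          simp [xorCols, show (2 * u + 1) % 2 = 1 by omega, show (2 * u + 1) / 2 = u by omega]⟩
    · rintro ⟨u, hu, rfl⟩
      refine ⟨xorCols l (u / 2), mem_spanList'.mpr ⟨u / 2, by rw [pow_succ] at hu; omega, rfl⟩, ?_⟩
      simp only [xorCols]
      split_ifs
      · exact Or.inr rfl
      · exact Or.inl (Nat.zero_xor _)

/-- The classes moved by the code. -/
def rMask (a : ℕ) : ℕ := maskOf (spanList ((List.range 11).map fun i => Nat.xor (actC a (2 ^ i)) (2 ^ i)))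

/-- The class is a commutator with the code. -/
def inR (a v : ℕ) : Bool := bitF (rMask a) v

/-- The element with the code and class is conjugate to the central involution. -/
def zRule (a v : ℕ) : Bool := cond (Nat.beq a pid) (!isPair v) (inR a v)

/-- An involution of the group of order 64 fixing eight points. -/
def aEight : ℕ := elW sxN 1

/-- An involution of the group of order 64 fixing no point. -/
def bZero : ℕ := elW sxN 21

/-- Elements of the centralizer of the first moving the exceptional class to each other one. -/
def cEight : List ℕ := [984818244535754528103549039458486304, 982204230148157964156395913153165473,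
  981855572344017766078842453814753317, 235787273298335735970928916361722593,
  967363445419354855912330005628224514, 593731423104205564844836258963375840,
  983107670700361518401687052903036995]

/-- The classes of the group W. -/
def wList : List ℕ := (List.range 64).flatMap fun n => [wv n, wv n ^^^ zsC]

/-- The six kinds of involutions of E outside the centre. -/
def kindE (n a : ℕ) (cols : List ℕ) (m s : ℕ) : ℕ :=
  cond (Nat.beq n 0) (cond (Nat.beq s 0 || Nat.beq s zsC) 6 (cond (isPair s) 0 1))
    (cond (Nat.beq (amul cols s) s)
      (cond (Nat.beq (pc (fixedMask a)) 8) (cond (bitF m s) 2 3) (cond (bitF m s) 4 5)) 6)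

/-- The kinds over the fibre of one element. -/
def kindsOf (n a : ℕ) (cols : List ℕ) (m : ℕ) : List ℕ := wList.map (kindE n a cols m)

/-- All kinds. -/
def kindsE : List ℕ := (List.range 64).flatMap fun n => kindsOf n (elW sxN n) (colC (elW sxN n)) (rMask (elW sxN n))

theorem reps_ok : kcB aEight = true ∧ kcB bZero = true ∧ Nat.beq (pcomp aEight aEight) pid = true ∧
    Nat.beq (pcomp bZero bZero) pid = true ∧
    Nat.beq aEight pid = false ∧ Nat.beq bZero pid = false ∧
    pc (fixedMask aEight) = 8 ∧ pc (fixedMask bZero) = 0 ∧
    (cEight.all fun e => kcB e && Nat.beq (pcomp e aEight) (pcomp aEight e)) = true := by decide +kernel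

theorem cosets_eight : ((List.range 2048).all fun v => !(Nat.beq (amul (colC aEight) v) v) || inR aEight v ||
    cEight.any fun e => inR aEight (Nat.xor (actC e 13) v)) = true ∧
    Nat.beq (amul (colC aEight) 13) 13 = true := by decide +kernel

theorem cosets_zero : ((List.range 2048).all fun v => !(Nat.beq (amul (colC bZero) v) v) || inR bZero v ||
    inR bZero (Nat.xor 100 v)) = true ∧ Nat.beq (amul (colC bZero) 100) 100 = true ∧ inR bZero 100 = false := by
  decide +kernel

theorem twist_ok : pcl (max 0 (papp bZero 0), min 0 (papp bZero 0)) = 1506 ∧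
    Nat.beq (amul (colC bZero) 1506) 1506 = true ∧ inR bZero 1506 = false := by decide +kernel

theorem kinds_ok : [0, 1, 2, 3, 4, 5].map (fun k => kindsE.count k) = [36, 90, 720, 2160, 576, 576] ∧
    kindsE.all (fun k => Nat.ble k 6) = true := by decide +kernel

end CfsgLib.J4Order
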