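/-
Computable pieces of the count of pairs of involutions with product powering to a pair element.
-/
import Cfsg.Agent.Lib.J4Order.Elem
import Cfsg.Agent.Lib.J4Order.Rep

set_option autoImplicit false

namespace CfsgLib.J4Order

open Cfsg CfsgGolay

/-- The mask of the chosen pair. -/
def tM : ℕ := 8388609

/-- The class of the chosen pair. -/
def tS : ℕ := cls tM

/-- The code fixes the chosen pair. -/
def fixT (a : ℕ) : Bool := Nat.beq (pmask a tM) tM

/-- A table of distinct numbers. -/
inductive NTree where
  | leaf
  | node (l : NTree) (v : ℕ) (r : NTree)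

/-- Membership by search. -/
def NTree.has : NTree → ℕ → Bool
  | .leaf, _ => false
  | .node l v r, y => cond (Nat.blt y v) (NTree.has l y) (cond (Nat.blt v y) (NTree.has r y) true)

/-- Insertion. -/
def NTree.ins : NTree → ℕ → NTree
  | .leaf, y => .node .leaf y .leaf
  | .node l v r, y =>
    cond (Nat.blt y v) (.node (NTree.ins l y) v r) (cond (Nat.blt v y) (.node l v (NTree.ins r y)) (.node l v r))

/-- All entries are new to the table and distinct. -/
def distinctB : NTree → List ℕ → Bool
  | _, [] => true
  | t, x :: xs => !(t.has x) && distinctB (t.ins x) xs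

/-- Conjugate of a code. -/
def conjC (g : ℕ × ℕ) (x : ℕ) : ℕ := pcomp g.1 (pcomp x g.2)

/-- One step of a depth-first walk: go back, then conjugate by a generator. -/
def stepW (gens : List (ℕ × ℕ)) (st : List ℕ × List ℕ) (m : ℕ) : List ℕ × List ℕ :=
  match st.1.drop (m / 8) with
  | [] => st
  | x :: xs => (conjC (gens.getD (m % 8) (pid, pid)) x :: x :: xs, conjC (gens.getD (m % 8) (pid, pid)) x :: st.2)

/-- The steps stored in a number. -/
def digitsW (D n : ℕ) : List ℕ :=
  (List.range n).map fun i => Nat.land (Nat.shiftRight D (16 * i)) 65535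

/-- The codes met on a walk. -/
def walkL (gens : List (ℕ × ℕ)) (root D n : ℕ) : List ℕ :=
  ((digitsW D n).foldl (stepW gens) ([root], [root])).2

/-- The order of a code, up to a bound. -/
def ordW (h : ℕ) : ℕ → ℕ → ℕ → ℕ
  | 0, _, _ => 0
  | fuel + 1, x, i => cond (Nat.beq x pid) i (ordW h fuel (pcomp h x) (i + 1))

/-- The order of a code. -/
def ordC (h : ℕ) : ℕ := ordW h 32 h 1

/-- Sum over the first powers. -/
def sumS (cols : List ℕ) : ℕ → ℕ → ℕ
  | 0, _ => 0
  | n + 1, w => Nat.xor w (sumS cols n (amul cols w))

/-- The columns of the sum of the powers of a product, after the first factor. -/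
def scols (a b : ℕ) : List ℕ :=
  (List.range 11).map fun j => sumS (colC (pcomp a b)) (ordC (pcomp a b)) (actC a (2 ^ j))

/-- Classes of the second factor. -/
def okY (cb : List ℕ) (b y : ℕ) : Bool := Nat.beq (amul cb y) y && !(zRule b y)

/-- Classes of the first factor over the identity. -/
def okO (x : ℕ) : Bool := !(Nat.beq x 0) && !(isPair x)

/-- The number of successful classes over a pair of codes. -/
def nVal (a b : ℕ) : ℕ :=
  cond (Nat.beq a pid)
    (cond (Nat.beq b pid) ((List.range 2048).countP fun x => okO x && isPair (Nat.xor x tS))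
      (((List.range 2048).countP fun y => okY (colC b) b y) *
        ((List.range 2048).countP fun x => okO x && Nat.beq (Nat.xor x (amul (colC b) x)) tS)))
    (((List.range 2048).countP fun v => inR a v) *
      ((List.range 2048).countP fun y => okY (colC b) b y && Nat.beq (amul (scols a b) y) tS))

/-- The generators are codes with given inverses fixing the pair and commuting with the given code. -/
def gensW (a : ℕ) (gens : List (ℕ × ℕ)) : Bool :=
  gens.all fun g => kcB g.1 && kcB g.2 &&
    Nat.beq (pcomp g.1 g.2) pid && fixT g.1 && Nat.beq (pcomp g.1 a) (pcomp a g.1)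

/-- An orbit of second codes: root, steps, their number, the value. -/
structure RowT where
  /-- the root -/
  b : ℕ
  /-- the steps -/
  D : ℕ
  /-- the number of steps -/
  n : ℕ
  /-- the value -/
  val : ℕ

/-- The value of a row is right. -/
def rowVal (a : ℕ) (R : RowT) : Bool := Nat.beq (nVal a R.b) R.val

/-- All codes of the rows. -/
def rowsList (gens : List (ℕ × ℕ)) (rows : List RowT) : List ℕ :=
  rows.flatMap fun R => walkL gens R.b R.D R.n

/-- The rows list distinct codes, one for each member. -/
def rowsOK (gens : List (ℕ × ℕ)) (rows : List RowT) : Bool :=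
  distinctB .leaf (rowsList gens rows) && Nat.beq (rowsList gens rows).length 2872 &&
    rows.all fun R => Nat.beq (walkL gens R.b R.D R.n).length (R.n + 1) && Nat.beq (pcomp R.b R.b) pid && fixT R.b &&
      kcB R.b

end CfsgLib.J4Order
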