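/-
The number of involutions of M24 fixing a pair of points.
-/
import Cfsg.Agent.Lib.Golay.ElemCent
import Cfsg.Agent.Lib.JankoFour.PairTrans

set_option autoImplicit false

namespace CfsgLib.J4Order

open Cfsg CfsgGolay
open scoped Pointwise

attribute [local irreducible] codeL octadL dodecadL slpCodes pmask pcomp

/-- The involutions of M24. -/
def invSet : Set (Equiv.Perm GolayPt) := {g | g ∈ M24 ∧ g * g = 1 ∧ g ≠ 1}

theorem class_card {r : Equiv.Perm GolayPt} (hr : r ∈ M24) :
    {g : Equiv.Perm GolayPt | ∃ k ∈ M24, k * r * k⁻¹ = g}.ncard * Nat.card ↥(centM r) = Nat.card ↥M24 := by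
  classical
  let f : ↥M24 → Equiv.Perm GolayPt := fun k => (k : Equiv.Perm GolayPt) * r * (k : Equiv.Perm GolayPt)⁻¹
  have hset : {g : Equiv.Perm GolayPt | ∃ k ∈ M24, k * r * k⁻¹ = g} = Set.range f := by
    ext g
    exact ⟨fun ⟨k, hk, e⟩ => ⟨⟨k, hk⟩, e⟩, fun ⟨k, e⟩ => ⟨k, k.2, e⟩⟩
  rw [hset, ← Nat.card_coe_set_eq]
  have hker : ∀ a b : ↥M24, f a = f b ↔ ((a⁻¹ * b : ↥M24) : Equiv.Perm GolayPt) ∈ centM r := fun a b => by
    rw [mem_centM]
    simp only [Subgroup.coe_mul, Subgroup.coe_inv, f]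
    constructor
    · intro h
      refine ⟨mul_mem (inv_mem a.2) b.2, ?_⟩
      calc (a : Equiv.Perm GolayPt)⁻¹ * b * r
          = (a : Equiv.Perm GolayPt)⁻¹ * ((b : Equiv.Perm GolayPt) * r * (b : Equiv.Perm GolayPt)⁻¹) * b := by group
        _ = r * ((a : Equiv.Perm GolayPt)⁻¹ * b) := by rw [← h]; group
    · rintro ⟨-, h⟩
      calc (a : Equiv.Perm GolayPt) * r * (a : Equiv.Perm GolayPt)⁻¹
          = (a : Equiv.Perm GolayPt) * (r * ((a : Equiv.Perm GolayPt)⁻¹ * b)) * (b : Equiv.Perm GolayPt)⁻¹ := by group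
        _ = (b : Equiv.Perm GolayPt) * r * (b : Equiv.Perm GolayPt)⁻¹ := by rw [← h]; group
  let C : Subgroup ↥M24 := (centM r).subgroupOf M24
  have hC : Nat.card C = Nat.card ↥(centM r) :=
    Nat.card_congr (Subgroup.subgroupOfEquivOfLe (fun x hx => (mem_centM.mp hx).1)).toEquiv
  let φ : ↥M24 ⧸ C → Set.range f := Quotient.lift (fun a => ⟨f a, a, rfl⟩) fun a b hab =>
    Subtype.ext ((hker a b).mpr (Subgroup.mem_subgroupOf.mp (QuotientGroup.leftRel_apply.mp (hab : (QuotientGroup.leftRel C) a b))))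
  have hφ : Function.Bijective φ := by
    refine ⟨fun x y => ?_, fun ⟨_, a, rfl⟩ => ⟨(a : ↥M24 ⧸ C), rfl⟩⟩
    induction x using QuotientGroup.induction_on with | H a => ?_
    induction y using QuotientGroup.induction_on with | H b => ?_
    intro h
    exact QuotientGroup.eq.mpr ((hker a b).mp (congrArg Subtype.val h))
  rw [← Nat.card_congr (Equiv.ofBijective φ hφ), ← hC, ← Subgroup.index_eq_card, Subgroup.index_mul_card]

theorem conj_mem {r g : Equiv.Perm GolayPt} (hr : r ∈ invSet) (h : ∃ k ∈ M24, k * r * k⁻¹ = g) : g ∈ invSet := by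
  obtain ⟨k, hk, rfl⟩ := h
  refine ⟨mul_mem (mul_mem hk hr.1) (inv_mem hk), ?_, fun e => hr.2.2 (conj_eq_one_iff.mp e)⟩
  rw [show k * r * k⁻¹ * (k * r * k⁻¹) = k * (r * r) * k⁻¹ by group, hr.2.1]; group

theorem sq_checked : pcomp e2A e2A = pid ∧ pcomp e2B e2B = pid := by decide +kernel

theorem reps_inv : r2A ∈ invSet ∧ r2B ∈ invSet := by
  refine ⟨⟨mem_r2A, ?_, fun e => ?_⟩, ⟨mem_r2B, ?_, fun e => ?_⟩⟩
  · have h := good_2A.1.comp good_2A.1
    rw [show f2A.c = e2A from rfl, sq_checked.1] at h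
    exact h.unique repr_pid
  · have := card_fix_2A
    rw [e, show fixF (1 : Equiv.Perm GolayPt) = Finset.univ from
      Finset.eq_univ_of_forall fun x => mem_fixF.mpr (by simp), Finset.card_univ] at this
    simp at this
  · have h := good_2B.1.comp good_2B.1
    rw [show f2B.c = e2B from rfl, sq_checked.2] at h
    exact h.unique repr_pid
  · have := card_fix_2B
    rw [e, show fixF (1 : Equiv.Perm GolayPt) = Finset.univ from
      Finset.eq_univ_of_forall fun x => mem_fixF.mpr (by simp), Finset.card_univ] at this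
    simp at this

/-- The pairs of points fixed by a code. -/
def fixPairs (c : ℕ) : ℕ :=
  ((List.range 24).flatMap fun i => (List.range i).map fun j => (2 ^ i ||| 2 ^ j)).countP fun m => Nat.beq (pmask c m) m

theorem fixPairs_reps : fixPairs e2A = 36 ∧ fixPairs e2B = 12 ∧ e2A < 2 ^ 120 := by decide +kernel

theorem pairs_ncard (P : Finset GolayPt → Prop) [DecidablePred P] :
    ((Finset.univ : Finset GolayPt).powersetCard 2 |>.filter P).card =
      ((List.range 24).flatMap fun i => (List.range i).map fun j => (2 ^ i ||| 2 ^ j)).countP fun m => decide (P (toSet m)) := by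
  set l := (List.range 24).flatMap fun i => (List.range i).map fun j => (2 ^ i ||| 2 ^ j) with hl
  have hnd : l.Nodup ∧ (∀ m ∈ l, m < 2 ^ 24 ∧ pc m = 2) ∧ l.length = 276 := by
    refine ⟨?_, ?_⟩
    · rw [hl]; decide +kernel
    · have h : (l.all fun m => Nat.blt m (2 ^ 24) && Nat.beq (pc m) 2) = true ∧ l.length = 276 := by
        rw [hl]; decide +kernel
      refine ⟨fun m hm => ?_, h.2⟩
      have := List.all_eq_true.mp h.1 m hm
      rw [Bool.and_eq_true, Nat.blt_eq] at this
      exact ⟨this.1, Nat.eq_of_beq_eq_true this.2⟩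
  obtain ⟨h1, h2, h3⟩ := hnd
  have himg : l.toFinset.image toSet = (Finset.univ : Finset GolayPt).powersetCard 2 := by
    refine Finset.eq_of_subset_of_card_le (fun s hs => ?_) ?_
    · obtain ⟨m, hm, rfl⟩ := Finset.mem_image.mp hs
      rw [Finset.mem_powersetCard_univ, card_toSet, (h2 m (List.mem_toFinset.mp hm)).2]
    · rw [Finset.card_powersetCard, Finset.card_univ, Finset.card_image_of_injOn fun a ha b hb e =>
        toSet_injOn (h2 a (List.mem_toFinset.mp ha)).1 (h2 b (List.mem_toFinset.mp hb)).1 e,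
        List.toFinset_card_of_nodup h1, h3]
      simp only [Fintype.card_option, ZMod.card]
      decide
  clear_value l
  rw [← himg, Finset.filter_image, Finset.card_image_of_injOn fun a ha b hb e =>
    toSet_injOn (h2 a (List.mem_toFinset.mp (Finset.mem_filter.mp ha).1)).1
      (h2 b (List.mem_toFinset.mp (Finset.mem_filter.mp hb).1)).1 e,
    List.countP_eq_length_filter, ← List.toFinset_card_of_nodup (h1.filter _), List.toFinset_filter]
  congr 1
  ext m
  simp

/-- 2871 involutions fix a given pair. -/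
theorem inv_pair_card {s : Finset GolayPt} (hs : s.card = 2) :
    {g | g ∈ invSet ∧ g • s = s}.ncard = 2871 := by
  classical
  set I := (Set.toFinite invSet).toFinset with hI
  set PS := (Finset.univ : Finset GolayPt).powersetCard 2 with hPS
  have hIm : ∀ g, g ∈ I ↔ g ∈ invSet := fun g => Set.Finite.mem_toFinset _
  have hX : ∀ t ∈ PS, (I.filter fun g => g • t = t).card = (I.filter fun g => g • s = s).card := by
    intro t ht
    rw [hPS, Finset.mem_powersetCard_univ] at ht
    obtain ⟨a, b, hab, rfl⟩ := Finset.card_eq_two.mp hs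
    obtain ⟨p, q, hpq, rfl⟩ := Finset.card_eq_two.mp ht
    obtain ⟨k, hk, hkx⟩ := exists_M24_map (by norm_num : 2 ≤ 5)
      (⟨![p, q], by intro i j; fin_cases i <;> fin_cases j <;> simp [hpq, hpq.symm]⟩ : Fin 2 ↪ GolayPt)
      (⟨![a, b], by intro i j; fin_cases i <;> fin_cases j <;> simp [hab, hab.symm]⟩ : Fin 2 ↪ GolayPt)
    have k0 : k p = a := hkx 0
    have k1 : k q = b := hkx 1
    have hks : k • ({p, q} : Finset GolayPt) = {a, b} := by
      rw [smul_set_pts, Finset.image_insert, Finset.image_singleton, k0, k1]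
    refine Finset.card_bij (fun g _ => k * g * k⁻¹) (fun g hg => ?_) (fun g _ g' _ e => mul_left_cancel (mul_right_cancel e))
      fun g hg => ⟨k⁻¹ * g * k, ?_, by group⟩
    · rw [Finset.mem_filter, hIm] at hg ⊢
      obtain ⟨⟨h1, h2, h3⟩, h4⟩ := hg
      refine ⟨⟨mul_mem (mul_mem hk h1) (inv_mem hk), by rw [show k * g * k⁻¹ * (k * g * k⁻¹) = k * (g * g) * k⁻¹ by group, h2]; group, fun e => h3 (conj_eq_one_iff.mp e)⟩, ?_⟩
      rw [mul_smul, mul_smul, ← hks, inv_smul_smul, h4]
    · rw [Finset.mem_filter, hIm] at hg ⊢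
      obtain ⟨⟨h1, h2, h3⟩, h4⟩ := hg
      refine ⟨⟨mul_mem (mul_mem (inv_mem hk) h1) hk, by rw [show k⁻¹ * g * k * (k⁻¹ * g * k) = k⁻¹ * (g * g) * k by group, h2]; group, fun e => h3 ?_⟩, ?_⟩
      · rw [show g = k * (k⁻¹ * g * k) * k⁻¹ by group, e]; group
      · rw [mul_smul, mul_smul, hks, h4, ← hks, inv_smul_smul]
  have hswap : ∑ g ∈ I, (PS.filter fun t => g • t = t).card = ∑ t ∈ PS, (I.filter fun g => g • t = t).card := by
    simp only [Finset.card_filter]
    exact Finset.sum_comm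
  rw [Finset.sum_congr rfl hX, Finset.sum_const, hPS, Finset.card_powersetCard, Finset.card_univ, smul_eq_mul] at hswap
  -- split by class
  set IA := I.filter (fun g => ∃ k ∈ M24, k * r2A * k⁻¹ = g) with hIA
  set IB := I.filter (fun g => ∃ k ∈ M24, k * r2B * k⁻¹ = g) with hIB
  obtain ⟨hA, hB⟩ := reps_inv
  have hsplit : I = IA ∪ IB ∧ Disjoint IA IB := by
    refine ⟨Finset.ext fun g => ?_, ?_⟩
    · simp only [hIA, hIB, Finset.mem_union, Finset.mem_filter]
      refine ⟨fun hg => ?_, fun h => h.elim And.left And.left⟩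
      obtain ⟨h1, h2, h3⟩ := (hIm g).mp hg
      obtain ⟨k, hk, e | e⟩ := class_two h1 (orderOf_eq_prime (by rw [sq]; exact h2) h3)
      · exact Or.inl ⟨hg, k⁻¹, inv_mem hk, by rw [← e]; group⟩
      · exact Or.inr ⟨hg, k⁻¹, inv_mem hk, by rw [← e]; group⟩
    · rw [hIA, hIB, Finset.disjoint_filter]
      rintro g - ⟨a, -, ea⟩ ⟨b, -, eb⟩
      have := congrArg (fun x => (fixF x).card) (ea.trans eb.symm)
      simp only [card_fixF_conj, card_fix_2A, card_fix_2B] at this
      omega
  have hcl : ∀ r ∈ invSet, (I.filter fun g => ∃ k ∈ M24, k * r * k⁻¹ = g).card * Nat.card ↥(centM r) = 244823040 := by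
    intro r hr
    rw [← card_M24, ← class_card hr.1, ← Set.ncard_coe_finset]
    congr 2
    ext g
    simp only [Finset.coe_filter, Set.mem_setOf_eq, hIm]
    exact ⟨And.right, fun h => ⟨conj_mem hr h, h⟩⟩
  have hper : ∀ r g : Equiv.Perm GolayPt, (∃ k ∈ M24, k * r * k⁻¹ = g) →
      (PS.filter fun t => g • t = t).card = (PS.filter fun t => r • t = t).card := by
    rintro r g ⟨k, -, rfl⟩
    refine Finset.card_bij (fun t _ => k⁻¹ • t) (fun t ht => ?_) (fun t _ t' _ e => smul_left_cancel _ e)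
      fun t ht => ⟨k • t, ?_, inv_smul_smul _ _⟩
    · rw [Finset.mem_filter, hPS, Finset.mem_powersetCard_univ] at ht ⊢
      refine ⟨by rw [smul_set_pts, Finset.card_image_of_injective _ (Equiv.injective _)]; exact ht.1, ?_⟩
      conv_rhs => rw [← ht.2]
      simp only [← mul_smul]
      congr 1
      group
    · rw [Finset.mem_filter, hPS, Finset.mem_powersetCard_univ] at ht ⊢
      refine ⟨by rw [smul_set_pts, Finset.card_image_of_injective _ (Equiv.injective _)]; exact ht.1, ?_⟩
      rw [mul_smul, mul_smul, inv_smul_smul, ht.2]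
  have hsum : ∀ (J : Finset (Equiv.Perm GolayPt)) (r : Equiv.Perm GolayPt) (c : ℕ), Repr c r →
      (∀ g ∈ J, ∃ k ∈ M24, k * r * k⁻¹ = g) →
      ∑ g ∈ J, (PS.filter fun t => g • t = t).card = J.card * fixPairs c := by
    intro J r c hc hJ
    rw [Finset.sum_congr rfl (fun g hg => hper r g (hJ g hg)), Finset.sum_const, smul_eq_mul, hPS, pairs_ncard]
    congr 1
    unfold fixPairs
    refine List.countP_congr fun m hm => ?_
    obtain ⟨i, hi, hm⟩ := List.mem_flatMap.mp hm
    obtain ⟨j, hj, rfl⟩ := List.mem_map.mp hm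
    rw [List.mem_range] at hi hj
    have hlt : (2 ^ i ||| 2 ^ j) < 2 ^ 24 := Nat.or_lt_two_pow
      (Nat.pow_lt_pow_right (by norm_num) hi) (Nat.pow_lt_pow_right (by norm_num) (by omega))
    rw [decide_eq_true_eq, Nat.beq_eq, smul_set_pts, ← hc.toSet_pmask]
    exact ⟨fun e => eq_of_toSet_eq (hc.pmask_lt _) hlt e, congrArg toSet⟩
  rw [hsplit.1, Finset.sum_union hsplit.2, hsum IA r2A e2A good_2A.1 (fun g hg => (Finset.mem_filter.mp hg).2),
    hsum IB r2B e2B good_2B.1 (fun g hg => (Finset.mem_filter.mp hg).2), fixPairs_reps.1, fixPairs_reps.2.1] at hswap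
  have cA := hcl r2A hA
  have cB := hcl r2B hB
  rw [← hIA, card_cent_2A] at cA
  rw [← hIB, card_cent_2B] at cB
  have hfin : (↑(I.filter fun g => g • s = s) : Set (Equiv.Perm GolayPt)) = {g | g ∈ invSet ∧ g • s = s} := by
    ext g
    simp only [Finset.coe_filter, Set.mem_setOf_eq, hIm]
  rw [show Nat.choose (Fintype.card GolayPt) 2 = 276 by
    simp only [Fintype.card_option, ZMod.card]; decide] at hswap
  rw [← hsplit.1] at hswap
  rw [← hfin, Set.ncard_coe_finset]
  omega

end CfsgLib.J4Order
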