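/-
The class of an involution of the normalizer of the group of order 2^11, in coordinates.
-/
import Cfsg.Agent.Lib.J4Order.Rep

set_option autoImplicit false

namespace CfsgLib.J4Order

open Cfsg Subgroup CfsgGolay CfsgLib.JankoFour

attribute [local irreducible] codeL octadL dodecadL slpCodes pcomp pmask cls inR rMask wv inW elW isPair colC kindE fixedMask

theorem cond_lt {t : Bool} {a x m : ℕ} (ha : a < m) (hx : x < m) : cond t a x < m := by
  cases t <;> assumption

theorem elW_lt' (B : List ℕ) : ∀ n, elW B n < 2 ^ 120 := by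
  induction B with
  | nil => intro n; rw [elW]; exact pid_lt
  | cons b B ih => intro n; rw [elW]; exact cond_lt (pcomp_lt _ _) (ih _)

theorem elW_lt (n : ℕ) : elW sxN n < 2 ^ 120 := elW_lt' sxN n

theorem Kc.inv {a : ℕ} (ha : Kc a) : Kc (pinv a) ∧ pcomp a (pinv a) = pid ∧ pcomp (pinv a) a = pid := by
  obtain ⟨hlt, g, hg, hr⟩ := ha
  have h := hr.inv
  refine ⟨⟨(pack_spec _ (fun _ => Nat.mod_lt _ (by norm_num)) 24).1, g⁻¹, inv_mem hg, h⟩, ?_, ?_⟩
  · refine repr_code_eq (pcomp_lt _ _) pid_lt (g := 1) ?_ repr_pid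
    have := hr.comp h
    rwa [mul_inv_cancel] at this
  · refine repr_code_eq (pcomp_lt _ _) pid_lt (g := 1) ?_ repr_pid
    have := h.comp hr
    rwa [inv_mul_cancel] at this

universe u

variable {G : Type u} [Group G] [Finite G] {z : G} {P E : Subgroup G} {c : Ctx z P E} {A : Subgroup MTwoTwo}
variable {o : c.Orb A} (F : Frame o)

namespace Frame

include F in
theorem actC_lt {a s : ℕ} (ha : Kc a) (hs : s < 2048) : actC a s < 2048 := (F.lift_conj ha hs).1

include F in
theorem actC_comp {a b s : ℕ} (ha : Kc a) (hb : Kc b) (hs : s < 2048) :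
    actC (pcomp a b) s = actC a (actC b s) := by
  obtain ⟨h1, e1⟩ := F.lift_conj (ha.comp hb) hs
  obtain ⟨h2, e2⟩ := F.lift_conj hb hs
  obtain ⟨h3, e3⟩ := F.lift_conj ha h2
  refine kap_inj F.d h1 h3 ?_
  rw [← e1, ← e3, ← e2, ← F.lift_mul ha hb]
  group

include F in
theorem actC_zero {a : ℕ} (ha : Kc a) : actC a 0 = 0 := by
  have h := F.actC_xor ha (show 0 < 2048 by norm_num) (show 0 < 2048 by norm_num)
  rwa [Nat.xor_self, Nat.xor_self] at h

include F in
theorem inR_iff {a v : ℕ} (ha : Kc a) : inR a v = true ↔ ∃ u < 2048, u ^^^ actC a u = v := by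
  have hlin : ∀ u < 2048, xorCols ((List.range 11).map fun i => actC a (2 ^ i) ^^^ 2 ^ i) u = actC a u ^^^ u :=
    fun u hu => xorCols_linear' (fun s => actC a s ^^^ s) (n := 11) (fun x y hx hy => by
      show actC a (x ^^^ y) ^^^ (x ^^^ y) = actC a x ^^^ x ^^^ (actC a y ^^^ y)
      rw [F.actC_xor ha hx hy, Nat.xor_assoc, Nat.xor_assoc, ← Nat.xor_assoc (actC a y), Nat.xor_comm (actC a y) x,
        Nat.xor_assoc x]) hu
  unfold inR rMask
  rw [bitF_maskOf, mem_spanList', List.length_map, List.length_range]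
  refine exists_congr fun u => and_congr_right fun hu => ?_
  rw [show (List.range 11).map (fun i => Nat.xor (actC a (2 ^ i)) (2 ^ i)) =
    (List.range 11).map fun i => actC a (2 ^ i) ^^^ 2 ^ i from rfl, hlin u hu, Nat.xor_comm]

theorem isZ_coset {a v w : ℕ} (ha : Kc a) (hv : v < 2048) (hw : w < 2048) (h : inR a (v ^^^ w) = true) :
    c.IsZ (F.el v a) ↔ c.IsZ (F.el w a) := by
  obtain ⟨u, hu, e⟩ := (F.inR_iff ha).mp h
  have hau := F.actC_lt ha hu
  have hid : F.el u pid * F.el v a * (F.el u pid)⁻¹ = F.el w a := by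
    have hinv : (F.el u pid)⁻¹ = F.el u pid := by
      rw [el_pid]; exact inv_eq_of_mul_eq_one_right (c.vGrp_sq o.hA.1 (kap_mem F.d u))
    rw [hinv, F.el_mul hu hv kc_pid ha, F.el_mul (Nat.xor_lt_two_pow (n := 11) hu (F.actC_lt kc_pid hv)) hu
      (kc_pid.comp ha) kc_pid, F.actC_pid hv]
    have e1 : pcomp pid a = a := by
      obtain ⟨hlt, g, hg, hr⟩ := ha
      exact repr_code_eq (pcomp_lt _ _) hlt (by rw [← one_mul g]; exact repr_pid.comp hr) hr
    have e2 : pcomp a pid = a := by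
      obtain ⟨hlt, g, hg, hr⟩ := ha
      exact repr_code_eq (pcomp_lt _ _) hlt (by rw [← mul_one g]; exact hr.comp repr_pid) hr
    rw [e1, e2, Nat.xor_assoc, Nat.xor_comm v, ← Nat.xor_assoc, e, Nat.xor_assoc, Nat.xor_comm w, ← Nat.xor_assoc,
      Nat.xor_self, Nat.zero_xor]
  rw [← hid, c.isZ_iff]

theorem el_conj {a r e v : ℕ} (ha : Kc a) (hr : Kc r) (he : Kc e) (hv : v < 2048)
    (h : pcomp e a = pcomp r e) : F.el 0 e * F.el v a * (F.el 0 e)⁻¹ = F.el (actC e v) r := by
  rw [mul_inv_eq_iff_eq_mul, F.el_mul (by norm_num) hv he ha, F.el_mul (F.actC_lt he hv) (by norm_num) hr he,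
    F.actC_zero hr, Nat.zero_xor, Nat.xor_zero, h]

include F in
theorem inR_conj {a r e v : ℕ} (ha : Kc a) (hr : Kc r) (he : Kc e) (hv : v < 2048) (h : pcomp e a = pcomp r e) :
    inR r (actC e v) = inR a v := by
  have key : ∀ {a r e v : ℕ}, Kc a → Kc r → Kc e → v < 2048 → pcomp e a = pcomp r e → inR a v = true →
      inR r (actC e v) = true := by
    intro a r e v ha hr he hv h hR
    obtain ⟨u, hu, rfl⟩ := (F.inR_iff ha).mp hR
    refine (F.inR_iff hr).mpr ⟨actC e u, F.actC_lt he hu, ?_⟩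
    rw [F.actC_xor he hu (F.actC_lt ha hu), ← F.actC_comp he ha hu, h, F.actC_comp hr he hu]
  rw [Bool.eq_iff_iff]
  refine ⟨fun hR => ?_, key ha hr he hv h⟩
  obtain ⟨hi, h1, h2⟩ := he.inv
  have hconj : pcomp (pinv e) r = pcomp a (pinv e) := by
    obtain ⟨-, g, hg, hge⟩ := he
    obtain ⟨-, x, hx, hxa⟩ := ha
    obtain ⟨-, y, hy, hyr⟩ := hr
    have hee := (hge.comp hxa).unique (h ▸ hyr.comp hge)
    refine repr_code_eq (pcomp_lt _ _) (pcomp_lt _ _) (hge.inv.comp hyr) ?_
    have e2 : g⁻¹ * y = x * g⁻¹ := by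
      rw [inv_mul_eq_iff_eq_mul, ← mul_assoc, hee, mul_inv_cancel_right]
    rw [e2]; exact hxa.comp hge.inv
  have := key hr ha hi (F.actC_lt he hv) hconj hR
  rwa [← F.actC_comp hi he hv, h2, F.actC_pid hv] at this

/-- The four types. -/
def Ty (F : Frame o) (k : ℕ) : Prop :=
  match k with
  | 0 => ¬ True
  | 1 => True
  | 2 => c.IsZ (F.el 0 aEight)
  | 3 => c.IsZ (F.el 13 aEight)
  | 4 => c.IsZ (F.el 0 bZero)
  | _ => c.IsZ (F.el 100 bZero)

theorem kc_reps : Kc aEight ∧ Kc bZero := ⟨kc_of_check reps_ok.1, kc_of_check reps_ok.2.1⟩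

theorem isZ_eight {v : ℕ} (hv : v < 2048) (hfix : actC aEight v = v) :
    c.IsZ (F.el v aEight) ↔ Ty F (if inR aEight v then 2 else 3) := by
  obtain ⟨ha, -⟩ := kc_reps
  by_cases h : inR aEight v = true
  · rw [if_pos h]
    exact F.isZ_coset ha hv (by norm_num) (by rwa [Nat.xor_zero])
  · rw [if_neg h]
    have hc := List.all_eq_true.mp cosets_eight.1 v (List.mem_range.mpr hv)
    rw [F.amul_eq ha hv, hfix, Nat.beq_refl, Bool.eq_false_iff.mpr h] at hc
    simp only [Bool.not_true, Bool.false_or, List.any_eq_true] at hc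
    obtain ⟨e, he, hR⟩ := hc
    obtain ⟨hek, hcomm⟩ := Bool.and_eq_true_iff.mp (List.all_eq_true.mp reps_ok.2.2.2.2.2.2.2.2 e he)
    have hek := kc_of_check hek
    have h1 := F.el_conj ha ha hek (show 13 < 2048 by norm_num) (Nat.eq_of_beq_eq_true hcomm)
    show c.IsZ (F.el v aEight) ↔ c.IsZ (F.el 13 aEight)
    rw [← c.isZ_iff (F.el 0 e) (F.el 13 aEight), h1]
    exact F.isZ_coset ha hv (F.actC_lt hek (by norm_num)) (by rw [Nat.xor_comm]; exact hR)

theorem isZ_zero {v : ℕ} (hv : v < 2048) (hfix : actC bZero v = v) :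
    c.IsZ (F.el v bZero) ↔ Ty F (if inR bZero v then 4 else 5) := by
  obtain ⟨-, hb⟩ := kc_reps
  by_cases h : inR bZero v = true
  · rw [if_pos h]
    exact F.isZ_coset hb hv (by norm_num) (by rwa [Nat.xor_zero])
  · rw [if_neg h]
    have hc := List.all_eq_true.mp cosets_zero.1 v (List.mem_range.mpr hv)
    rw [F.amul_eq hb hv, hfix, Nat.beq_refl, Bool.eq_false_iff.mpr h] at hc
    simp only [Bool.not_true, Bool.false_or] at hc
    exact F.isZ_coset hb hv (by norm_num) (by rw [Nat.xor_comm]; exact hc)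

/-- Every involution outside V is conjugate to one above the two representatives. -/
theorem isZ_kind {a v : ℕ} (ha : Kc a) (hv : v < 2048) (hne : a ≠ pid) (haa : pcomp a a = pid) (hfix : actC a v = v) :
    c.IsZ (F.el v a) ↔
      Ty F (if pc (fixedMask a) = 8 then (if inR a v then 2 else 3) else (if inR a v then 4 else 5)) ∧
      (pc (fixedMask a) = 8 ∨ pc (fixedMask a) = 0) := by
  obtain ⟨hlt, g, hg, hr⟩ := id ha
  have hg2 : g * g = 1 := (hr.comp hr).unique (haa.symm ▸ repr_pid)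
  have hg1 : g ≠ 1 := fun e => hne (repr_code_eq hlt pid_lt hr (e ▸ repr_pid))
  have hcard : (fixF g).card = pc (fixedMask a) := by rw [fixF_repr hr, card_toSet]
  have h80 := invol_fix_card hg hg2 hg1
  rw [hcard] at h80
  have tran : ∀ (r : ℕ), Kc r → pcomp r r = pid → r ≠ pid → pc (fixedMask r) = pc (fixedMask a) →
      ∃ e, Kc e ∧ pcomp e a = pcomp r e := by
    intro r hrk hrr hrne hrc
    obtain ⟨hrl, y, hy, hyr⟩ := hrk
    have hy2 : y * y = 1 := (hyr.comp hyr).unique (hrr.symm ▸ repr_pid)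
    have hy1 : y ≠ 1 := fun e => hrne (repr_code_eq hrl pid_lt hyr (e ▸ repr_pid))
    obtain ⟨x, hx, hxy⟩ := invol_conj_of_fix hg hg2 hg1 hy hy2 hy1
      (by rw [hcard, fixF_repr hyr, card_toSet, hrc])
    obtain ⟨h1, h2⟩ := codeOf_spec x
    refine ⟨codeOf x, ⟨h1, x, hx, h2⟩, repr_code_eq (pcomp_lt _ _) (pcomp_lt _ _) (h2.comp hr) ?_⟩
    rw [show x * g = y * x by rw [← hxy]; group]
    exact hyr.comp h2
  have hb1 : ∀ {b : Bool}, b = false → ¬ b = true := fun h => by simp [h]
  rcases h80 with h8 | h0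
  · obtain ⟨ha8, -⟩ := kc_reps
    obtain ⟨e, he, hcomm⟩ := tran aEight ha8 (Nat.eq_of_beq_eq_true reps_ok.2.2.1)
      (fun e => by have := reps_ok.2.2.2.2.1; rw [e, Nat.beq_refl] at this; exact absurd this (by simp))
      (by rw [h8]; exact reps_ok.2.2.2.2.2.2.1)
    have hf2 : actC aEight (actC e v) = actC e v := by
      rw [← F.actC_comp ha8 he hv, ← hcomm, F.actC_comp he ha hv, hfix]
    rw [← c.isZ_iff (F.el 0 e), F.el_conj ha ha8 he hv hcomm, F.isZ_eight (F.actC_lt he hv) hf2,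
      F.inR_conj ha ha8 he hv hcomm, if_pos h8]
    exact ⟨fun h => ⟨h, Or.inl h8⟩, And.left⟩
  · obtain ⟨-, hb⟩ := kc_reps
    obtain ⟨e, he, hcomm⟩ := tran bZero hb (Nat.eq_of_beq_eq_true reps_ok.2.2.2.1)
      (fun e => by have := reps_ok.2.2.2.2.2.1; rw [e, Nat.beq_refl] at this; exact absurd this (by simp))
      (by rw [h0]; exact reps_ok.2.2.2.2.2.2.2.1)
    have hf2 : actC bZero (actC e v) = actC e v := by
      rw [← F.actC_comp hb he hv, ← hcomm, F.actC_comp he ha hv, hfix]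
    rw [← c.isZ_iff (F.el 0 e), F.el_conj ha hb he hv hcomm, F.isZ_zero (F.actC_lt he hv) hf2,
      F.inR_conj ha hb he hv hcomm, if_neg (show ¬ pc (fixedMask a) = 8 by omega)]
    exact ⟨fun h => ⟨h, Or.inr h0⟩, And.left⟩

/-- The elements of E in coordinates. -/
theorem E_form {e : G} (he : e ∈ E) : ∃ s, inW s = true ∧ ∃ n < 64, F.el s (elW sxN n) = e := by
  classical
  obtain ⟨hW, -⟩ := W_std F.d F.hz
  obtain ⟨l, hl, hlE, hlW⟩ := o.E_in_K F.hKN F.hKV F.hKsup he
  obtain ⟨n, hn, hr⟩ := elGr_mem sxN_ok.1 (theta_E F.d F.hz hlE)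
  have hk : Kc (elW sxN n) := ⟨elW_lt n, _, (F.d.θ _).2, hr⟩
  have hlift : F.lift (elW sxN n) = l := F.lift_eq hl hr hk
  have hel : e * l⁻¹ ∈ c.fixB A := by
    rw [show e * l⁻¹ = l * (l⁻¹ * e) * l⁻¹ by group]
    exact c.vGrp_inf_E o.hA.1 ((mem_normalizer_iff.mp (c.E_norm_V o.hA hlE) _).mp (mem_sup_left hlW))
      (c.conj_E (c.Ez hlE) (c.fixB_le A hlW))
  obtain ⟨s, hs, hse⟩ := kap_surj F.d (mem_sup_left hel : e * l⁻¹ ∈ c.vGrp A o.hA.1.1)
  exact ⟨s, (hW s hs).mp (hse ▸ hel), n, hn, by rw [el, hlift, hse, inv_mul_cancel_right]⟩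

open Classical in
/-- The decided types. -/
noncomputable def tyB (F : Frame o) (k : ℕ) : Bool := decide (Ty F k)

theorem countP_kinds (f : ℕ → Bool) : ∀ l : List ℕ, (∀ k ∈ l, k ≤ 6) → f 6 = false →
    l.countP f = (([0, 1, 2, 3, 4, 5] : List ℕ).map fun k => if f k then l.count k else 0).sum
  | [], _, _ => by simp
  | a :: l, hl, h6 => by
    have ih := countP_kinds f l (fun k hk => hl k (List.mem_cons_of_mem _ hk)) h6
    have ha := hl a List.mem_cons_self
    simp only [List.countP_cons, ih, List.map_cons, List.map_nil, List.sum_cons, List.sum_nil, List.count_cons]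
    interval_cases a <;> simp [h6] <;> split_ifs <;> omega

theorem wList_iff {s : ℕ} : s ∈ wList ↔ inW s = true := by
  rw [inW_iff]; simp [wList]

/-- The four types: exactly two options. -/
theorem types (F : Frame o) : Ty F 2 ∧ ¬ Ty F 3 ∧ (Ty F 4 ↔ ¬ Ty F 5) := by
  classical
  obtain ⟨hT, hZ⟩ := o.hex_count
  set L : List (ℕ × ℕ) := (List.range 64).flatMap fun n => wList.map fun s => (n, s)
  set kd : ℕ × ℕ → ℕ := fun x => kindE x.1 (elW sxN x.1) (colC (elW sxN x.1)) (rMask (elW sxN x.1)) x.2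
  have hmap : L.map kd = kindsE := by
    simp only [L, kindsE, kindsOf, List.map_flatMap, List.map_map]
    rfl
  have hkey : ∀ (e : G), e ∈ E → e * e = 1 → e ∉ zpowers z →
      ∃ x ∈ L, F.el x.2 (elW sxN x.1) = e ∧ kd x < 6 ∧ (c.IsZ e ↔ Ty F (kd x)) := by
    intro e he hee heZ
    obtain ⟨s, hs, n, hn, rfl⟩ := F.E_form he
    refine ⟨(n, s), by simp [L, hn, wList_iff, hs], rfl, ?_⟩
    have hsl := inW_lt hs
    obtain ⟨g, hg, hr⟩ := elW_repr sxN (fun b hb => ((elOK_data sxN_ok.1).2.1 b hb).1) n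
    have ha : Kc (elW sxN n) := ⟨elW_lt n, g, elGr_le sxN_ok.1 hg, hr⟩
    obtain ⟨haa, hfix⟩ := (F.el_sq hsl ha).mp hee
    show kd (n, s) < 6 ∧ (c.IsZ (F.el s (elW sxN n)) ↔ Ty F (kd (n, s)))
    by_cases hn0 : n = 0
    · subst hn0
      have e0 : elW sxN 0 = pid := elW_zero _
      rw [e0, el_pid] at heZ hee ⊢
      have hkd : kd (0, s) = if isPair s then 0 else 1 := by
        have hb : (Nat.beq s 0 || Nat.beq s zsC) = false := by
          by_contra hb
          simp only [Bool.not_eq_false, Bool.or_eq_true] at hb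
          rcases hb with hb | hb <;> rw [Nat.eq_of_beq_eq_true hb] at heZ
          · exact heZ (by rw [kap_zero]; exact one_mem _)
          · exact heZ (by rw [F.hz]; exact mem_zpowers z)
        simp only [kd]
        unfold kindE
        rw [hb]
        cases isPair s <;> rfl
      rw [hkd]
      have hTs := kap_T F.d hsl
      by_cases hp : isPair s = true
      · rw [if_pos hp]
        exact ⟨by norm_num, ⟨fun h => absurd h (hTs.mpr hp).2.2, fun h => absurd trivial h⟩⟩
      · rw [if_neg hp]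
        refine ⟨by norm_num, ⟨fun _ => trivial, fun _ => ?_⟩⟩
        by_contra h
        exact hp (hTs.mp ⟨kap_mem F.d s, fun e => heZ (by rw [e]; exact one_mem _), h⟩)
    · have hne : elW sxN n ≠ pid := by
        intro e
        refine hn0 (List.inj_on_of_nodup_map (elOK_data sxN_ok.1).2.2.2 (List.mem_range.mpr hn)
          (List.mem_range.mpr (by norm_num)) (e.trans (elW_zero _).symm))
      have hkd : kd (n, s) = if pc (fixedMask (elW sxN n)) = 8 then (if inR (elW sxN n) s then 2 else 3)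
          else (if inR (elW sxN n) s then 4 else 5) := by
        simp only [kd]
        unfold kindE inR
        rw [F.amul_eq ha hsl, hfix, Nat.beq_refl,
          show Nat.beq n 0 = false from Bool.eq_false_iff.mpr fun h => hn0 (Nat.eq_of_beq_eq_true h)]
        by_cases h8 : pc (fixedMask (elW sxN n)) = 8
        · rw [h8]; cases bitF (rMask (elW sxN n)) s <;> rfl
        · rw [if_neg h8, show Nat.beq (pc (fixedMask (elW sxN n))) 8 = false from
            Bool.eq_false_iff.mpr fun h => h8 (Nat.eq_of_beq_eq_true h)]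
          cases bitF (rMask (elW sxN n)) s <;> rfl
      rw [hkd]
      refine ⟨by split_ifs <;> norm_num, ?_⟩
      rw [F.isZ_kind ha hsl hne haa hfix]
      refine ⟨And.left, fun h => ⟨h, ?_⟩⟩
      have hcard : (fixF g).card = pc (fixedMask (elW sxN n)) := by rw [fixF_repr hr, card_toSet]
      rw [← hcard]
      exact invol_fix_card (elGr_le sxN_ok.1 hg) (elGr_invol sxN_ok.1 hg)
        fun e => hne (repr_code_eq ha.1 pid_lt hr (e ▸ repr_pid))
  have hbound : ∀ (b : Bool) (S : Set G),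
      (∀ e ∈ S, e ∈ E ∧ e * e = 1 ∧ e ∉ zpowers z ∧ (c.IsZ e ↔ b = true)) →
      S.ncard ≤ (([0, 1, 2, 3, 4, 5] : List ℕ).map fun k => if tyB F k == b then kindsE.count k else 0).sum := by
    intro b S hS
    let f : ℕ → Bool := fun k => Nat.blt k 6 && (tyB F k == b)
    have h1 : S.ncard ≤ (L.filter fun x => f (kd x)).length := by
      have hsub : S ⊆ (((L.filter fun x => f (kd x)).map fun x => F.el x.2 (elW sxN x.1)).toFinset : Set G) := by
        intro e he
        obtain ⟨heE, hee, heZ, hty⟩ := hS e he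
        obtain ⟨x, hx, hxe, hlt, hiff⟩ := hkey e heE hee heZ
        simp only [List.coe_toFinset, List.mem_map, List.mem_filter, Set.mem_setOf_eq]
        refine ⟨x, ⟨hx, ?_⟩, hxe⟩
        simp only [f, Bool.and_eq_true, Nat.blt_eq, beq_iff_eq]
        refine ⟨hlt, ?_⟩
        cases b
        · exact decide_eq_false fun h => Bool.noConfusion (hty.mp (hiff.mpr h))
        · exact decide_eq_true (hiff.mp (hty.mpr rfl))
      refine (Set.ncard_le_ncard hsub (Finset.finite_toSet _)).trans ?_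
      rw [Set.ncard_coe_finset]
      exact (List.toFinset_card_le _).trans (List.length_map _).le
    refine h1.trans (le_of_eq ?_)
    rw [← List.countP_eq_length_filter, ← Function.comp_def f kd, ← List.countP_map, hmap,
      countP_kinds f kindsE (fun k hk => Nat.le_of_ble_eq_true (List.all_eq_true.mp kinds_ok.2 k hk)) rfl]
    simp [f]
  have hU : ∀ e : G, (∃ B : Subgroup MTwoTwo, HexData B ∧ e ∈ c.fixB B ∧ e ∉ zpowers z) →
      e ∈ E ∧ e * e = 1 ∧ e ∉ zpowers z := fun e ⟨B, hB, heB, heZ⟩ =>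
    ⟨c.fixB_le B heB, (c.hex_fix hB.1).2.2.1 e heB, heZ⟩
  have hT' := hT.trans (hbound false _ fun e he => ⟨(hU e he.1).1, (hU e he.1).2.1, (hU e he.1).2.2,
    ⟨fun h => absurd h he.2, fun h => absurd h (by simp)⟩⟩)
  have hZ' := hZ.trans (hbound true _ fun e he => ⟨(hU e he.1).1, (hU e he.1).2.1, (hU e he.1).2.2,
    ⟨fun _ => rfl, fun _ => he.2⟩⟩)
  have hc := kinds_ok.1
  simp only [List.map_cons, List.map_nil, List.cons.injEq, and_true] at hc
  obtain ⟨c0, c1, c2, c3, c4, c5⟩ := hc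
  simp only [List.map_cons, List.map_nil, List.sum_cons, List.sum_nil, c0, c1, c2, c3, c4, c5, beq_iff_eq] at hT' hZ'
  have t0 : tyB F 0 = false := decide_eq_false (fun h => h trivial)
  have t1 : tyB F 1 = true := decide_eq_true trivial
  rw [t0, t1] at hT' hZ'
  have e2 : ∀ k, tyB F k = true ↔ Ty F k := fun k => decide_eq_true_iff
  rw [← e2, ← e2, ← e2, ← e2]
  revert hT' hZ'
  cases tyB F 2 <;> cases tyB F 3 <;> cases tyB F 4 <;> cases tyB F 5 <;> simp

/-- The normalised property of a complement. -/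
def Normal (F : Frame o) : Prop := Ty F 4

/-- The rule. -/
theorem zRule_iff (hF : F.Normal) {a v : ℕ} (ha : Kc a) (hv : v < 2048) (hsq : F.el v a * F.el v a = 1)
    (h1 : F.el v a ≠ 1) : c.IsZ (F.el v a) ↔ zRule a v = true := by
  obtain ⟨hty2, hty3, hty45⟩ := types F
  have hty5 : ¬ Ty F 5 := fun h => hty45.mp hF h
  by_cases hp : a = pid
  · subst hp
    rw [zRule, Nat.beq_refl, cond_true, el_pid]
    rw [el_pid] at h1
    constructor
    · intro h
      rw [Bool.not_eq_true', ← Bool.not_eq_true]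
      exact fun hpr => ((kap_T F.d hv).mpr hpr).2.2 h
    · intro h
      by_contra hn
      rw [(kap_T F.d hv).mp ⟨kap_mem F.d v, h1, hn⟩] at h
      exact absurd h (by simp)
  · obtain ⟨haa, hfix⟩ := (F.el_sq hv ha).mp hsq
    rw [zRule, show Nat.beq a pid = false from Bool.eq_false_iff.mpr fun h => hp (Nat.eq_of_beq_eq_true h),
      cond_false, F.isZ_kind ha hv hp haa hfix]
    obtain ⟨hlt, g, hg, hr⟩ := id ha
    have h80 := invol_fix_card hg ((hr.comp hr).unique (haa.symm ▸ repr_pid))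
      fun e => hp (repr_code_eq hlt pid_lt hr (e ▸ repr_pid))
    rw [fixF_repr hr, card_toSet] at h80
    by_cases hR : inR a v = true <;> by_cases h8 : pc (fixedMask a) = 8 <;>
      simp [hR, h8, hty2, hty3, hF, hty5, h80, Normal] at * <;> tauto

end Frame

end CfsgLib.J4Order
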