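/-
Walks over the involutions fixing a pair: completeness and sums.
-/
import Cfsg.Agent.Lib.J4Order.CountDefs
import Cfsg.Agent.Lib.J4Order.Types
import Cfsg.Agent.Lib.J4Order.InvPair

set_option autoImplicit false

namespace CfsgLib.J4Order

open Cfsg CfsgGolay
open scoped Pointwise

attribute [local irreducible] codeL octadL dodecadL slpCodes pcomp pmask cls inR rMask isPair colC fixedMask

theorem NTree.has_ins : ∀ (t : NTree) (x y : ℕ), (t.ins x).has y = true ↔ y = x ∨ t.has y = true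
  | .leaf, x, y => by
    simp only [NTree.ins, NTree.has]
    rcases lt_trichotomy y x with h | h | h
    · rw [show Nat.blt y x = true from Nat.blt_eq ▸ h]; simp; omega
    · subst h; simp [show Nat.blt y y = false by rw [Bool.eq_false_iff, ne_eq, Nat.blt_eq]; omega]
    · rw [show Nat.blt x y = true from Nat.blt_eq ▸ h, show Nat.blt y x = false by
        rw [Bool.eq_false_iff, ne_eq, Nat.blt_eq]; omega]
      simp; omega
  | .node l v r, x, y => by
    have hl := NTree.has_ins l x y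
    have hr := NTree.has_ins r x y
    have hb : ∀ a b : ℕ, (Nat.blt a b = true ∧ a < b) ∨ (Nat.blt a b = false ∧ ¬ a < b) := fun a b => by
      by_cases h : a < b
      · exact Or.inl ⟨Nat.blt_eq ▸ h, h⟩
      · exact Or.inr ⟨by rw [Bool.eq_false_iff, ne_eq, Nat.blt_eq]; exact h, h⟩
    rcases hb x v with ⟨e1, h1⟩ | ⟨e1, h1⟩ <;> rcases hb v x with ⟨e2, h2⟩ | ⟨e2, h2⟩ <;>
      rcases hb y v with ⟨e3, h3⟩ | ⟨e3, h3⟩ <;> rcases hb v y with ⟨e4, h4⟩ | ⟨e4, h4⟩ <;>
      simp only [NTree.ins, NTree.has, e1, e2, e3, e4, cond_true, cond_false, hl, hr] <;>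
      first
        | omega
        | (constructor <;> intro h <;> first | exact Or.inr h | (rcases h with h | h <;> first | omega | exact h))
        | (simp; omega)
        | simp

theorem distinctB_spec : ∀ (l : List ℕ) (t : NTree), distinctB t l = true → l.Nodup ∧ ∀ x ∈ l, t.has x = false
  | [], _, _ => ⟨List.nodup_nil, by simp⟩
  | x :: xs, t, h => by
    rw [distinctB, Bool.and_eq_true, Bool.not_eq_true'] at h
    obtain ⟨hn, hh⟩ := distinctB_spec xs _ h.2
    refine ⟨List.nodup_cons.mpr ⟨fun hx => ?_, hn⟩, fun y hy => ?_⟩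
    · have := hh x hx
      rw [(NTree.has_ins t x x).mpr (Or.inl rfl)] at this
      simp at this
    · rcases List.mem_cons.mp hy with rfl | hy
      · exact h.1
      · rw [Bool.eq_false_iff]
        intro e
        have := hh y hy
        rw [(NTree.has_ins t x y).mpr (Or.inr e)] at this
        simp at this

theorem kc_repr {a : ℕ} (ha : Kc a) : Repr a (permDec a) ∧ permDec a ∈ M24 := by
  obtain ⟨-, g, hg, hr⟩ := ha
  rw [permDec_eq hr]; exact ⟨hr, hg⟩

theorem pg_mul {a b : ℕ} (ha : Kc a) (hb : Kc b) : permDec (pcomp a b) = permDec a * permDec b :=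
  permDec_eq ((kc_repr ha).1.comp (kc_repr hb).1)

theorem pg_inj {a b : ℕ} (ha : Kc a) (hb : Kc b) (h : permDec a = permDec b) : a = b :=
  repr_code_eq ha.1 hb.1 (kc_repr ha).1 (h ▸ (kc_repr hb).1)

theorem pg_pid : permDec pid = 1 := permDec_eq repr_pid

theorem fixT_iff {a : ℕ} (ha : Kc a) : fixT a = true ↔ permDec a • toSet tM = toSet tM := by
  rw [fixT, Nat.beq_eq, smul_set_pts, ← (kc_repr ha).1.toSet_pmask]
  exact ⟨congrArg toSet, eq_of_toSet_eq ((kc_repr ha).1.pmask_lt _) (by decide)⟩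

/-- The stabiliser of the pair centralising a code. -/
noncomputable def cT (a : ℕ) : Subgroup (Equiv.Perm GolayPt) :=
  centM (permDec a) ⊓ MulAction.stabilizer (Equiv.Perm GolayPt) (toSet tM)

/-- A member: an involution or the identity, fixing the pair. -/
def TCode (x : ℕ) : Prop := Kc x ∧ fixT x = true ∧ pcomp x x = pid

theorem gensW_spec {a : ℕ} {gens : List (ℕ × ℕ)} (ha : Kc a) (h : gensW a gens = true) (i : ℕ) :
    Kc (gens.getD i (pid, pid)).1 ∧ Kc (gens.getD i (pid, pid)).2 ∧ permDec (gens.getD i (pid, pid)).1 ∈ cT a ∧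
      permDec (gens.getD i (pid, pid)).2 = (permDec (gens.getD i (pid, pid)).1)⁻¹ := by
  by_cases hi : i < gens.length
  · rw [List.getD_eq_getElem _ _ hi]
    have hg := List.all_eq_true.mp h gens[i] (List.getElem_mem hi)
    simp only [Bool.and_eq_true] at hg
    obtain ⟨⟨⟨⟨h1, h2⟩, h5⟩, h6⟩, h7⟩ := hg
    have k1 := kc_of_check h1
    have k2 := kc_of_check h2
    refine ⟨k1, k2, Subgroup.mem_inf.mpr ⟨mem_centM.mpr ⟨(kc_repr k1).2, ?_⟩, ?_⟩, ?_⟩
    · rw [← pg_mul k1 ha, ← pg_mul ha k1, Nat.eq_of_beq_eq_true h7]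
    · rw [MulAction.mem_stabilizer_iff]; exact (fixT_iff k1).mp h6
    · rw [eq_comm, inv_eq_iff_mul_eq_one, ← pg_mul k1 k2, Nat.eq_of_beq_eq_true h5, pg_pid]
  · rw [List.getD_eq_default _ _ (not_lt.mp hi)]
    exact ⟨kc_pid, kc_pid, by rw [pg_pid]; exact one_mem _, by rw [pg_pid, inv_one]⟩

theorem walk_spec {a b : ℕ} {gens : List (ℕ × ℕ)} (ha : Kc a) (h : gensW a gens = true) (hb : Kc b) (D n : ℕ) :
    ∀ x ∈ walkL gens b D n, Kc x ∧ ∃ g ∈ cT a, g * permDec b * g⁻¹ = permDec x := by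
  let Q : ℕ → Prop := fun x => Kc x ∧ ∃ g ∈ cT a, g * permDec b * g⁻¹ = permDec x
  suffices key : ∀ (ms : List ℕ) (st : List ℕ × List ℕ), (∀ x ∈ st.1, Q x) → (∀ x ∈ st.2, Q x) →
      ∀ x ∈ (ms.foldl (stepW gens) st).2, Q x by
    refine key _ _ ?_ ?_ <;>
    · intro x hx
      rw [List.mem_singleton] at hx
      subst hx
      exact ⟨hb, 1, one_mem _, by simp⟩
  intro ms
  induction ms with
  | nil => exact fun st _ h2 => h2
  | cons m ms ih =>
    intro st h1 h2
    rw [List.foldl_cons]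
    obtain ⟨s1, s2⟩ := st
    cases hd : s1.drop (m / 8) with
    | nil => simp only [stepW, hd]; exact ih _ h1 h2
    | cons x xs =>
      simp only [stepW, hd]
      have hsub : ∀ y ∈ x :: xs, Q y := fun y hy => h1 y (List.mem_of_mem_drop (hd ▸ hy))
      have hnew : Q (conjC (gens.getD (m % 8) (pid, pid)) x) := by
        obtain ⟨k1, k2, hc, hi⟩ := gensW_spec ha h (m % 8)
        obtain ⟨kx, g, hg, e⟩ := hsub x List.mem_cons_self
        refine ⟨k1.comp (kx.comp k2), _, mul_mem hc hg, ?_⟩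
        rw [conjC, pg_mul k1 (kx.comp k2), pg_mul kx k2, hi, ← e]
        group
      refine ih _ (fun y hy => ?_) fun y hy => ?_
      · rcases List.mem_cons.mp hy with rfl | hy
        · exact hnew
        · exact hsub y hy
      · rcases List.mem_cons.mp hy with rfl | hy
        · exact hnew
        · exact h2 y hy

theorem tcode_conj {a x y : ℕ} (hy : Kc y) (hx : TCode x) {g : Equiv.Perm GolayPt} (hg : g ∈ cT a)
    (e : g * permDec x * g⁻¹ = permDec y) : TCode y := by
  obtain ⟨kx, fx, sx⟩ := hx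
  refine ⟨hy, (fixT_iff hy).mpr ?_, pg_inj (hy.comp hy) kc_pid ?_⟩
  · have hs : g • toSet tM = toSet tM := MulAction.mem_stabilizer_iff.mp (Subgroup.mem_inf.mp hg).2
    rw [← e, mul_smul, mul_smul, inv_smul_eq_iff.mpr hs.symm, (fixT_iff kx).mp fx, hs]
  · rw [pg_mul hy hy, ← e, show g * permDec x * g⁻¹ * (g * permDec x * g⁻¹) = g * (permDec x * permDec x) * g⁻¹ by group,
      ← pg_mul kx kx, sx, pg_pid]
    group

theorem tcode_count : {x | TCode x}.Finite ∧ {x | TCode x}.ncard ≤ 2872 := by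
  classical
  have hfin : {x | TCode x}.Finite := (Set.finite_Iio (2 ^ 120)).subset fun x hx => hx.1.1
  refine ⟨hfin, ?_⟩
  have hs : (toSet tM).card = 2 := by rw [card_toSet]; decide +kernel
  calc {x | TCode x}.ncard
      ≤ ({1} ∪ {g | g ∈ invSet ∧ g • toSet tM = toSet tM} : Set (Equiv.Perm GolayPt)).ncard := by
        refine Set.ncard_le_ncard_of_injOn permDec (fun x hx => ?_) (fun x hx y hy e => pg_inj hx.1 hy.1 e)
          (Set.toFinite _)
        by_cases h1 : permDec x = 1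
        · exact Or.inl h1
        · exact Or.inr ⟨⟨(kc_repr hx.1).2, by rw [← pg_mul hx.1 hx.1, hx.2.2, pg_pid], h1⟩, (fixT_iff hx.1).mp hx.2.1⟩
    _ ≤ 1 + 2871 := by
        refine (Set.ncard_union_le _ _).trans ?_
        rw [Set.ncard_singleton, inv_pair_card hs]

/-- What the check of a list of rows gives. -/
theorem rows_spec {a : ℕ} {gens : List (ℕ × ℕ)} {rows : List RowT} (ha : Kc a) (h : gensW a gens = true)
    (hrows : rowsOK gens rows = true) :
    (rowsList gens rows).Nodup ∧ (∀ x, x ∈ rowsList gens rows ↔ TCode x) ∧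
      ∀ R ∈ rows, TCode R.b ∧ (walkL gens R.b R.D R.n).length = R.n + 1 := by
  simp only [rowsOK, Bool.and_eq_true] at hrows
  obtain ⟨⟨hd, hlen⟩, hall⟩ := hrows
  have hnd := (distinctB_spec _ _ hd).1
  have hR : ∀ R ∈ rows, TCode R.b ∧ (walkL gens R.b R.D R.n).length = R.n + 1 := fun R hR => by
    have := List.all_eq_true.mp hall R hR
    simp only [Bool.and_eq_true] at this
    obtain ⟨⟨⟨h1, h2⟩, h3⟩, h4⟩ := this
    exact ⟨⟨kc_of_check h4, h3, Nat.eq_of_beq_eq_true h2⟩, Nat.eq_of_beq_eq_true h1⟩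
  have hsub : ∀ x ∈ rowsList gens rows, TCode x := by
    intro x hx
    obtain ⟨R, hRm, hxR⟩ := List.mem_flatMap.mp hx
    obtain ⟨kx, g, hg, e⟩ := walk_spec ha h (hR R hRm).1.1 R.D R.n x hxR
    exact tcode_conj kx (hR R hRm).1 hg e
  refine ⟨hnd, fun x => ⟨hsub x, fun hx => ?_⟩, hR⟩
  have heq : (↑(rowsList gens rows).toFinset : Set ℕ) = {x | TCode x} := by
    refine Set.eq_of_subset_of_ncard_le (fun y hy => hsub y (List.mem_toFinset.mp hy)) ?_ tcode_count.1
    rw [Set.ncard_coe_finset, List.toFinset_card_of_nodup hnd, Nat.eq_of_beq_eq_true hlen]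
    exact tcode_count.2
  exact List.mem_toFinset.mp (heq ▸ hx : x ∈ (↑(rowsList gens rows).toFinset : Set ℕ))

/-- Summing a function constant on the rows. -/
theorem rows_sum {a : ℕ} {gens : List (ℕ × ℕ)} {rows : List RowT} (ha : Kc a) (h : gensW a gens = true)
    (hrows : rowsOK gens rows = true) (f : ℕ → ℕ)
    (hf : ∀ x y, TCode x → TCode y → ∀ g ∈ cT a, g * permDec x * g⁻¹ = permDec y → f y = f x)
    (hv : ∀ R ∈ rows, f R.b = R.val) {S : Finset ℕ} (hS : ∀ x, x ∈ S ↔ TCode x) :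
    ∑ x ∈ S, f x = (rows.map fun R => (R.n + 1) * R.val).sum := by
  obtain ⟨hnd, hmem, hR⟩ := rows_spec ha h hrows
  rw [show S = (rowsList gens rows).toFinset from Finset.ext fun x => by rw [hS, List.mem_toFinset, hmem],
    List.sum_toFinset _ hnd, rowsList, List.map_flatMap, List.flatMap_def, List.sum_flatten, List.map_map]
  congr 1
  refine List.map_congr_left fun R hRm => ?_
  show ((walkL gens R.b R.D R.n).map f).sum = _
  rw [List.eq_replicate_of_mem (a := R.val) (l := (walkL gens R.b R.D R.n).map f) fun y hy => ?_,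
    List.sum_replicate, List.length_map, (hR R hRm).2, smul_eq_mul]
  obtain ⟨x, hx, rfl⟩ := List.mem_map.mp hy
  obtain ⟨kx, g, hg, e⟩ := walk_spec ha h (hR R hRm).1.1 R.D R.n x hx
  rw [hf R.b x (hR R hRm).1 (tcode_conj kx (hR R hRm).1 hg e) g hg e, hv R hRm]

end CfsgLib.J4Order
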