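/-
Pairs of involutions of the two classes with product powering to a pair element.
-/
import Cfsg.Agent.Lib.J4Order.Walk
import Cfsg.Agent.Lib.J4Order.Hit
import Cfsg.Agent.Lib.JankoFour.OrbCent
import Cfsg.Agent.Lib.JankoFour.OrbFuse

set_option autoImplicit false

namespace CfsgLib.J4Order

open Cfsg Subgroup CfsgGolay CfsgLib.JankoFour
open scoped Pointwise

attribute [local irreducible] codeL octadL dodecadL slpCodes pcomp pmask cls inR rMask wv inW elW isPair colC fixedMask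

theorem tS_ok : tS < 2048 ∧ isPair tS = true ∧ tM < 2 ^ 24 ∧ pc tM = 2 ∧
    ((List.range 24).all fun i => (List.range i).all fun j =>
      !(Nat.beq (cls (2 ^ i ||| 2 ^ j)) tS) || Nat.beq (2 ^ i ||| 2 ^ j) tM) = true := by decide +kernel

universe u

variable {G : Type u} [Group G] [Finite G] {z : G} {P E : Subgroup G} {c : Ctx z P E} {A : Subgroup MTwoTwo}
variable {o : c.Orb A} (F : Frame o)

namespace Frame

/-- The chosen pair element. -/
noncomputable def tT : G := kap F.d tS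

theorem tT_mem : F.tT ∈ c.Tset (c.vGrp A o.hA.1.1) := (kap_T F.d tS_ok.1).mpr tS_ok.2.1

theorem tT_inv : F.tT * F.tT = 1 ∧ F.tT ≠ 1 := ⟨o.hA.1 |> fun h => c.vGrp_sq h F.tT_mem.1, F.tT_mem.2.1⟩

theorem tT_el : F.tT = F.el tS pid := (F.el_pid).symm

include F in
theorem fixT_act {a : ℕ} (ha : Kc a) : fixT a = true ↔ actC a tS = tS := by
  obtain ⟨hlt, g, hg, hr⟩ := id ha
  have hm : pmask a tM < 2 ^ 24 := hr.pmask_lt _
  have hc : (toSet (pmask a tM)).card = 2 := by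
    rw [hr.toSet_pmask, Finset.card_image_of_injective _ g.injective, card_toSet, tS_ok.2.2.2.1]
  have he : cls (pmask a tM) < 2048 := (cls_even hm).mpr (by rw [hc])
  have hk : cls (pmask a tM) = actC a tS := by
    obtain ⟨h1, h2⟩ := F.lift_conj ha tS_ok.1
    refine kap_inj F.d he h1 ?_
    rw [← h2, kap_cls F.d hm he]
    have h3 : kap F.d tS = phi F.d tM := kap_cls F.d tS_ok.2.2.1 tS_ok.1
    rw [h3, phi, phi]
    obtain ⟨hk', hr'⟩ := F.lift_spec ha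
    rw [hr'.toSet_pmask]
    exact (prodD_conj F.d ⟨F.lift a, F.hKN hk'⟩ (by rw [card_toSet, tS_ok.2.2.2.1])).symm
  rw [← hk, fixT, Nat.beq_eq]
  refine ⟨fun h => by rw [h]; rfl, fun h => ?_⟩
  obtain ⟨p, q, hpq, hset⟩ := Finset.card_eq_two.mp hc
  obtain ⟨i, j, hi, hj, hset'⟩ : ∃ i j, i < 24 ∧ j < i ∧ toSet (pmask a tM) = toSet (2 ^ i ||| 2 ^ j) := by
    rcases lt_trichotomy (idx q) (idx p) with hlt' | heq | hlt'
    · exact ⟨idx p, idx q, idx_lt p, hlt', by rw [pair_mask_pt, hset]⟩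
    · exact absurd (idx_injective heq) (Ne.symm hpq)
    · exact ⟨idx q, idx p, idx_lt q, hlt', by rw [pair_mask_pt, hset, Finset.pair_comm]⟩
  have hlt' : 2 ^ i ||| 2 ^ j < 2 ^ 24 := Nat.or_lt_two_pow (Nat.pow_lt_pow_right (by norm_num) hi)
    (Nat.pow_lt_pow_right (by norm_num) (by omega))
  have hmeq := eq_of_toSet_eq hm hlt' hset'
  have := List.all_eq_true.mp (List.all_eq_true.mp tS_ok.2.2.2.2 i (List.mem_range.mpr hi)) j (List.mem_range.mpr hj)
  rw [← hmeq, h, Nat.beq_refl, Bool.not_true, Bool.false_or] at this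
  exact Nat.eq_of_beq_eq_true this

theorem el_comm {x a : ℕ} (hx : x < 2048) (ha : Kc a) : F.el x a * F.tT = F.tT * F.el x a ↔ fixT a = true := by
  rw [tT_el, F.el_mul hx tS_ok.1 ha kc_pid, F.el_mul tS_ok.1 hx kc_pid ha, F.actC_pid hx, F.fixT_act ha]
  have e : pcomp a pid = pcomp pid a := pg_inj (ha.comp kc_pid) (kc_pid.comp ha) (by
    rw [pg_mul ha kc_pid, pg_mul kc_pid ha, pg_pid, one_mul, mul_one])
  have hl := Nat.xor_lt_two_pow (n := 11) hx (F.actC_lt ha tS_ok.1)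
  constructor
  · intro h
    have h1 := (F.el_inj hl (Nat.xor_lt_two_pow (n := 11) tS_ok.1 hx) (ha.comp kc_pid) (kc_pid.comp ha) h).1
    rw [Nat.xor_comm tS x] at h1
    exact xor_left_inj' h1
  · intro h
    rw [h, e, Nat.xor_comm]

/-- A pair counted in Thompson's formula. -/
def Hit (p : G × G) : Prop :=
  c.IsZ p.1 ∧ (p.2 * p.2 = 1 ∧ p.2 ≠ 1 ∧ ¬ c.IsZ p.2) ∧ F.tT ∈ zpowers (p.1 * p.2)

include F in
theorem isZ_invol {x : G} (h : c.IsZ x) : x * x = 1 ∧ x ≠ 1 := by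
  refine ⟨?_, c.isZ_ne h⟩
  obtain ⟨g, rfl⟩ := h
  rw [show g * z * g⁻¹ * (g * z * g⁻¹) = g * (z * z) * g⁻¹ by group, c.zz]; group

theorem hit_norm {p : G × G} (h : F.Hit p) : ∃ x < 2048, ∃ a, TCode a ∧ F.el x a = p.1 ∧
    ∃ y < 2048, ∃ b, TCode b ∧ F.el y b = p.2 := by
  obtain ⟨hu, ⟨hv, hv1, -⟩, ht⟩ := h
  obtain ⟨hu2, -⟩ := F.isZ_invol hu
  obtain ⟨cu, cv⟩ := dih_cent hu2 hv F.tT_inv.1 ht
  have hmem : ∀ {w : G}, w * F.tT = F.tT * w → w ∈ normalizer (c.vGrp A o.hA.1.1 : Set G) := fun hw =>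
    o.cent_T F.tT_mem (mem_centralizer_singleton_iff.mpr hw)
  obtain ⟨x, hx, a, ha, ea⟩ := F.el_surj (hmem cu)
  obtain ⟨y, hy, b, hb, eb⟩ := F.el_surj (hmem cv)
  rw [← ea] at hu2 cu
  rw [← eb] at hv cv
  exact ⟨x, hx, a, ⟨ha, (F.el_comm hx ha).mp cu, ((F.el_sq hx ha).mp hu2).1⟩, ea,
    y, hy, b, ⟨hb, (F.el_comm hy hb).mp cv, ((F.el_sq hy hb).mp hv).1⟩, eb⟩

theorem hit_conj {p : G × G} {g : G} (hg : g * F.tT * g⁻¹ = F.tT) :
    F.Hit (g * p.1 * g⁻¹, g * p.2 * g⁻¹) ↔ F.Hit p := by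
  unfold Hit
  simp only [c.isZ_iff]
  have e1 : g * p.2 * g⁻¹ * (g * p.2 * g⁻¹) = 1 ↔ p.2 * p.2 = 1 := by
    rw [show g * p.2 * g⁻¹ * (g * p.2 * g⁻¹) = g * (p.2 * p.2) * g⁻¹ by group, conj_eq_one_iff]
  have e2 : F.tT ∈ zpowers (g * p.1 * g⁻¹ * (g * p.2 * g⁻¹)) ↔ F.tT ∈ zpowers (p.1 * p.2) := by
    rw [show g * p.1 * g⁻¹ * (g * p.2 * g⁻¹) = g * (p.1 * p.2) * g⁻¹ by group, mem_zpowers_iff, mem_zpowers_iff]
    refine exists_congr fun k => ?_
    rw [conj_zpow]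
    exact ⟨fun h => mul_left_cancel (mul_right_cancel (h.trans hg.symm)), fun h => by rw [h, hg]⟩
  rw [e1, e2, ne_eq, conj_eq_one_iff, ← ne_eq]

/-- The code of an element of the normalizer. -/
noncomputable def code (n : G) : ℕ :=
  open Classical in if h : ∃ a, Kc a ∧ ∃ x < 2048, F.el x a = n then h.choose else 0

theorem code_el {x a : ℕ} (hx : x < 2048) (ha : Kc a) : F.code (F.el x a) = a := by
  classical
  have h : ∃ b, Kc b ∧ ∃ y < 2048, F.el y b = F.el x a := ⟨a, ha, x, hx, rfl⟩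
  rw [code, dif_pos h]
  obtain ⟨hb, y, hy, e⟩ := h.choose_spec
  exact (F.el_inj hy hx hb ha e).2

open Classical in
/-- The hits over a pair of codes. -/
noncomputable def fib (a b : ℕ) : Finset (G × G) :=
  (Set.toFinite {p | F.Hit p}).toFinset.filter fun p => F.code p.1 = a ∧ F.code p.2 = b

theorem mem_fib {a b : ℕ} (ha : Kc a) (hb : Kc b) {p : G × G} :
    p ∈ F.fib a b ↔ F.Hit p ∧ (∃ x < 2048, F.el x a = p.1) ∧ ∃ y < 2048, F.el y b = p.2 := by
  classical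
  rw [fib, Finset.mem_filter, Set.Finite.mem_toFinset]
  constructor
  · rintro ⟨h, e1, e2⟩
    obtain ⟨x, hx, a', ha', ex, y, hy, b', hb', ey⟩ := F.hit_norm h
    rw [← ex, F.code_el hx ha'.1] at e1
    rw [← ey, F.code_el hy hb'.1] at e2
    subst e1 e2
    exact ⟨h, ⟨x, hx, ex⟩, y, hy, ey⟩
  · rintro ⟨h, ⟨x, hx, ex⟩, y, hy, ey⟩
    exact ⟨h, by rw [← ex, F.code_el hx ha], by rw [← ey, F.code_el hy hb]⟩

theorem hit_card {S : Finset ℕ} (hS : ∀ x, x ∈ S ↔ TCode x) :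
    Nat.card {p : G × G // F.Hit p} = ∑ a ∈ S, ∑ b ∈ S, (F.fib a b).card := by
  classical
  rw [show Nat.card {p : G × G // F.Hit p} = (Set.toFinite {p | F.Hit p}).toFinset.card from
    Nat.card_eq_card_finite_toFinset (Set.toFinite {p | F.Hit p}), ← Finset.sum_product',
    Finset.card_eq_sum_card_fiberwise (f := fun p => (F.code p.1, F.code p.2)) (t := S ×ˢ S)]
  · refine Finset.sum_congr rfl fun q _ => ?_
    rw [fib]
    congr 1
    exact Finset.filter_congr fun p _ => Prod.ext_iff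
  · intro p hp
    rw [Finset.mem_coe, Set.Finite.mem_toFinset] at hp
    obtain ⟨x, hx, a', ha', ex, y, hy, b', hb', ey⟩ := F.hit_norm hp
    rw [Finset.mem_coe, Finset.mem_product]
    dsimp only
    refine ⟨?_, ?_⟩
    · rw [hS, ← ex, F.code_el hx ha'.1]; exact ha'
    · rw [hS, ← ey, F.code_el hy hb'.1]; exact hb'

theorem fib_le {e a a' b b' : ℕ} (he : Kc e) (hf : fixT e = true) (ha : Kc a) (ha' : Kc a') (hb : Kc b) (hb' : Kc b')
    (h1 : pcomp e a = pcomp a' e) (h2 : pcomp e b = pcomp b' e) : (F.fib a b).card ≤ (F.fib a' b').card := by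
  classical
  set g := F.el 0 e
  have hg : g * F.tT * g⁻¹ = F.tT := by
    rw [(F.el_comm (by norm_num) he).mpr hf, mul_inv_cancel_right]
  refine Finset.card_le_card_of_injOn (fun p => (g * p.1 * g⁻¹, g * p.2 * g⁻¹)) (fun p hp => ?_) ?_
  · rw [Finset.mem_coe, F.mem_fib ha hb] at hp
    obtain ⟨h, ⟨x, hx, ex⟩, y, hy, ey⟩ := hp
    rw [Finset.mem_coe, F.mem_fib ha' hb']
    exact ⟨(F.hit_conj hg).mpr h, ⟨_, F.actC_lt he hx, by rw [← F.el_conj ha ha' he hx h1, ex]⟩,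
      _, F.actC_lt he hy, by rw [← F.el_conj hb hb' he hy h2, ey]⟩
  · intro p _ q _ h
    simp only [Prod.mk.injEq, mul_left_inj, mul_right_inj] at h
    exact Prod.ext h.1 h.2

theorem fib_conj {g : Equiv.Perm GolayPt} (hg : g ∈ M24) (hs : g • toSet tM = toSet tM) {a a' b b' : ℕ}
    (ha : Kc a) (ha' : Kc a') (hb : Kc b) (hb' : Kc b') (h1 : g * permDec a * g⁻¹ = permDec a')
    (h2 : g * permDec b * g⁻¹ = permDec b') : (F.fib a b).card = (F.fib a' b').card := by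
  have key : ∀ {g : Equiv.Perm GolayPt}, g ∈ M24 → g • toSet tM = toSet tM → ∀ {a a' b b' : ℕ}, Kc a → Kc a' →
      Kc b → Kc b' → g * permDec a * g⁻¹ = permDec a' → g * permDec b * g⁻¹ = permDec b' →
      (F.fib a b).card ≤ (F.fib a' b').card := by
    intro g hg hs a a' b b' ha ha' hb hb' h1 h2
    obtain ⟨hlt, hr⟩ := codeOf_spec g
    have he : Kc (codeOf g) := ⟨hlt, g, hg, hr⟩
    have hp : permDec (codeOf g) = g := permDec_eq hr
    refine F.fib_le he ((fixT_iff he).mpr (by rw [hp]; exact hs)) ha ha' hb hb' ?_ ?_ <;>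
      refine pg_inj (he.comp ‹_›) (Kc.comp ‹_› he) ?_
    · rw [pg_mul he ha, pg_mul ha' he, hp, ← h1, inv_mul_cancel_right]
    · rw [pg_mul he hb, pg_mul hb' he, hp, ← h2, inv_mul_cancel_right]
  exact le_antisymm (key hg hs ha ha' hb hb' h1 h2) (key (inv_mem hg) (inv_smul_eq_iff.mpr hs.symm) ha' ha hb' hb
    (by rw [← h1]; group) (by rw [← h2]; group))

end Frame

end CfsgLib.J4Order
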