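/-
The number of hits over a pair of codes.
-/
import Cfsg.Agent.Lib.J4Order.Fib

set_option autoImplicit false

namespace CfsgLib.J4Order

open Cfsg Subgroup CfsgGolay CfsgLib.JankoFour
open scoped Pointwise

attribute [local irreducible] Finset.range List.range codeL octadL dodecadL slpCodes pcomp pmask cls inR rMask wv inW elW isPair colC fixedMask tS tM actC

theorem isPair_zero : isPair 0 = false := by decide +kernel

theorem ordW_spec {h : ℕ} (hh : Kc h) : ∀ (fuel x i : ℕ), 0 < i → Kc x → permDec x = permDec h ^ i →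
    (∀ j, 0 < j → j < i → permDec h ^ j ≠ 1) → ordW h fuel x i ≠ 0 →
      0 < ordW h fuel x i ∧ permDec h ^ ordW h fuel x i = 1 ∧
        ∀ j, 0 < j → j < ordW h fuel x i → permDec h ^ j ≠ 1
  | 0, _, _, _, _, _, _, h0 => absurd rfl h0
  | fuel + 1, x, i, hi, hx, he, hlow, h0 => by
    rw [ordW] at h0 ⊢
    by_cases hp : x = pid
    · subst hp
      rw [Nat.beq_refl, cond_true] at h0 ⊢
      exact ⟨hi, by rw [← he, pg_pid], hlow⟩
    · rw [show Nat.beq x pid = false from Bool.eq_false_iff.mpr fun e => hp (Nat.eq_of_beq_eq_true e), cond_false] at h0 ⊢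
      refine ordW_spec hh fuel _ _ (Nat.succ_pos _) (hh.comp hx) (by rw [pg_mul hh hx, he, pow_succ']) ?_ h0
      intro j hj hji
      rcases Nat.lt_succ_iff_lt_or_eq.mp hji with h | rfl
      · exact hlow j hj h
      · rw [← he]; exact fun e => hp (pg_inj hx kc_pid (by rw [e, pg_pid]))

theorem ordC_spec {h : ℕ} (hh : Kc h) (h0 : ordC h ≠ 0) :
    0 < ordC h ∧ permDec h ^ ordC h = 1 ∧ orderOf (permDec h) = ordC h := by
  obtain ⟨h1, h2, h3⟩ := ordW_spec hh 32 h 1 one_pos hh (pow_one _).symm (fun j hj hj1 => by omega) h0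
  refine ⟨h1, h2, le_antisymm (Nat.le_of_dvd h1 (orderOf_dvd_of_pow_eq_one h2)) ?_⟩
  by_contra hlt
  push Not at hlt
  exact h3 _ (orderOf_pos_iff.mpr (isOfFinOrder_of_finite _)) hlt (pow_orderOf_eq_one _)

universe u

variable {G : Type u} [Group G] [Finite G] {z : G} {P E : Subgroup G} {c : Ctx z P E} {A : Subgroup MTwoTwo}
variable {o : c.Orb A} (F : Frame o)

namespace Frame

include F in
theorem sumS_lt {h : ℕ} (hh : Kc h) : ∀ n, ∀ w < 2048, sumS (colC h) n w < 2048
  | 0, _, _ => by simp [sumS]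
  | n + 1, w, hw => by
    rw [sumS, F.amul_eq hh hw]
    exact Nat.xor_lt_two_pow (n := 11) hw (sumS_lt hh n _ (F.actC_lt hh hw))

include F in
theorem sumS_act {h : ℕ} (hh : Kc h) : ∀ n, ∀ w < 2048, sumS (colC h) n (actC h w) = actC h (sumS (colC h) n w)
  | 0, _, _ => by simp [sumS, F.actC_zero hh]
  | n + 1, w, hw => by
    rw [sumS, sumS, F.amul_eq hh hw, F.amul_eq hh (F.actC_lt hh hw), sumS_act hh n _ (F.actC_lt hh hw)]
    show actC h w ^^^ _ = actC h (w ^^^ _)
    rw [F.actC_xor hh hw (F.sumS_lt hh n _ (F.actC_lt hh hw))]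

include F in
theorem sumS_xor {h : ℕ} (hh : Kc h) : ∀ n, ∀ v w, v < 2048 → w < 2048 →
    sumS (colC h) n (v ^^^ w) = sumS (colC h) n v ^^^ sumS (colC h) n w
  | 0, _, _, _, _ => by simp [sumS]
  | n + 1, v, w, hv, hw => by
    rw [sumS, sumS, sumS, F.amul_eq hh hv, F.amul_eq hh hw, F.amul_eq hh (Nat.xor_lt_two_pow (n := 11) hv hw),
      F.actC_xor hh hv hw, sumS_xor hh n _ _ (F.actC_lt hh hv) (F.actC_lt hh hw)]
    show (v ^^^ w) ^^^ _ = (v ^^^ _) ^^^ (w ^^^ _)
    simp only [Nat.xor_assoc]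
    congr 1
    rw [← Nat.xor_assoc, Nat.xor_comm w, Nat.xor_assoc]

theorem el_pow {h : ℕ} (hh : Kc h) : ∀ n, ∀ w < 2048, ∃ hn, Kc hn ∧ permDec hn = permDec h ^ n ∧
    F.el w h ^ n = F.el (sumS (colC h) n w) hn
  | 0, _, _ => ⟨pid, kc_pid, by rw [pow_zero, pg_pid], by rw [pow_zero, sumS, F.el_one]⟩
  | n + 1, w, hw => by
    obtain ⟨hn, kn, en, e⟩ := el_pow hh n w hw
    refine ⟨pcomp h hn, hh.comp kn, by rw [pg_mul hh kn, en, pow_succ'], ?_⟩
    rw [pow_succ', e, F.el_mul hw (F.sumS_lt hh n w hw) hh kn, sumS, F.amul_eq hh hw, F.sumS_act hh n w hw]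
    rfl

/-- The criterion. -/
theorem hit_power {h w : ℕ} (hh : Kc h) (hw : w < 2048) (h0 : ordC h ≠ 0) :
    F.tT ∈ zpowers (F.el w h) ↔ sumS (colC h) (ordC h) w = tS := by
  obtain ⟨hpos, hp1, hord⟩ := ordC_spec hh h0
  obtain ⟨hn, kn, en, e⟩ := F.el_pow hh (ordC h) w hw
  have hnp : hn = pid := pg_inj kn kc_pid (by rw [en, hp1, pg_pid])
  subst hnp
  have hlt := F.sumS_lt hh (ordC h) w hw
  constructor
  · intro ht
    obtain ⟨i, hi⟩ := mem_powers_iff_mem_zpowers.mpr ht
    have hi' : F.el w h ^ i = F.tT := hi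
    obtain ⟨hm, km, em, e'⟩ := F.el_pow hh i w hw
    rw [e', tT_el] at hi'
    obtain ⟨-, hmp⟩ := F.el_inj (F.sumS_lt hh i w hw) tS_ok.1 km kc_pid hi'
    obtain ⟨k, hk⟩ : ordC h ∣ i := hord ▸ orderOf_dvd_of_pow_eq_one (by rw [← em, hmp, pg_pid])
    by_cases hS : sumS (colC h) (ordC h) w = 0
    · exfalso
      refine F.tT_inv.2 ?_
      rw [← show F.el w h ^ i = F.tT from hi, show F.el w h ^ i = (F.el w h ^ ordC h) ^ k by rw [← pow_mul, hk], e, hS, F.el_one, one_pow]
    · have hpow : F.el w h ^ ordC h = kap F.d (sumS (colC h) (ordC h) w) := by rw [e, F.el_pid]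
      have hinv := c.vGrp_sq o.hA.1 (kap_mem F.d (sumS (colC h) (ordC h) w))
      have := (hit_of_invol (g := F.el w h) (n := ordC h) (by rw [hpow]; exact hinv)
        (by rw [hpow, ne_eq, kap_one F.d hlt]; exact hS) F.tT_inv.1 F.tT_inv.2).mp ht
      rw [hpow] at this
      exact kap_inj F.d hlt tS_ok.1 this
  · intro hS
    rw [tT, ← hS, ← F.el_pid, ← e]
    exact pow_mem (mem_zpowers _) _

variable (hF : F.Normal)

include hF in
/-- The condition on the first class. -/
theorem fst_iff {a x : ℕ} (ha : TCode a) (hx : x < 2048) :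
    c.IsZ (F.el x a) ↔ actC a x = x ∧ zRule a x = true ∧ (a = pid → x ≠ 0) := by
  have key : F.el x a ≠ 1 ↔ (a = pid → x ≠ 0) := by
    rw [ne_eq, ← F.el_one]
    constructor
    · rintro h rfl rfl; exact h rfl
    · intro h e
      obtain ⟨e1, e2⟩ := F.el_inj hx (by norm_num) ha.1 kc_pid e
      exact h e2 e1
  constructor
  · intro h
    obtain ⟨h2, h1⟩ := F.isZ_invol h
    exact ⟨((F.el_sq hx ha.1).mp h2).2, (F.zRule_iff hF ha.1 hx h2 h1).mp h, key.mp h1⟩
  · rintro ⟨h1, h2, h3⟩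
    exact (F.zRule_iff hF ha.1 hx ((F.el_sq hx ha.1).mpr ⟨ha.2.2, h1⟩) (key.mpr h3)).mpr h2

include hF in
/-- The condition on the second class. -/
theorem snd_iff {b y : ℕ} (hb : TCode b) (hy : y < 2048) :
    (F.el y b * F.el y b = 1 ∧ F.el y b ≠ 1 ∧ ¬ c.IsZ (F.el y b)) ↔ okY (colC b) b y = true := by
  rw [okY, Bool.and_eq_true, Bool.not_eq_true', Nat.beq_eq, F.amul_eq hb.1 hy, F.el_sq hy hb.1, and_iff_right hb.2.2]
  constructor
  · rintro ⟨h1, h2, h3⟩
    exact ⟨h1, Bool.eq_false_iff.mpr fun h => h3 ((F.zRule_iff hF hb.1 hy ((F.el_sq hy hb.1).mpr ⟨hb.2.2, h1⟩) h2).mpr h)⟩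
  · rintro ⟨h1, h2⟩
    have hne : F.el y b ≠ 1 := by
      rw [ne_eq, ← F.el_one]
      intro e
      obtain ⟨rfl, rfl⟩ := F.el_inj hy (by norm_num) hb.1 kc_pid e
      rw [zRule, Nat.beq_refl, cond_true, isPair_zero] at h2
      simp at h2
    exact ⟨h1, hne, fun h => Bool.eq_false_iff.mp h2 ((F.zRule_iff hF hb.1 hy ((F.el_sq hy hb.1).mpr ⟨hb.2.2, h1⟩) hne).mp h)⟩

include hF in
/-- A hit in coordinates. -/
theorem hit_el {a b x y : ℕ} (ha : TCode a) (hb : TCode b) (hx : x < 2048) (hy : y < 2048)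
    (h0 : ordC (pcomp a b) ≠ 0) :
    F.Hit (F.el x a, F.el y b) ↔ (actC a x = x ∧ zRule a x = true ∧ (a = pid → x ≠ 0)) ∧ okY (colC b) b y = true ∧
      sumS (colC (pcomp a b)) (ordC (pcomp a b)) (x ^^^ actC a y) = tS := by
  rw [Hit, F.fst_iff hF ha hx, F.snd_iff hF hb hy, F.el_mul hx hy ha.1 hb.1,
    F.hit_power (ha.1.comp hb.1) (Nat.xor_lt_two_pow (n := 11) hx (F.actC_lt ha.1 hy)) h0]

open Classical in
theorem fib_sum {a b : ℕ} (ha : Kc a) (hb : Kc b) :
    (F.fib a b).card = ∑ x ∈ Finset.range 2048,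
      ((Finset.range 2048).filter fun y => F.Hit (F.el x a, F.el y b)).card := by
  rw [← Finset.card_sigma]
  symm
  refine Finset.card_bij (fun q _ => (F.el q.1 a, F.el q.2 b)) (fun q hq => ?_) (fun q hq r hr e => ?_) fun p hp => ?_
  · simp only [Finset.mem_sigma, Finset.mem_filter, Finset.mem_range] at hq
    exact (F.mem_fib ha hb).mpr ⟨hq.2.2, ⟨_, hq.1, rfl⟩, _, hq.2.1, rfl⟩
  · simp only [Finset.mem_sigma, Finset.mem_filter, Finset.mem_range] at hq hr
    obtain ⟨q1, q2⟩ := q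
    obtain ⟨r1, r2⟩ := r
    rw [Prod.mk.injEq] at e
    obtain ⟨rfl, -⟩ := F.el_inj hq.1 hr.1 ha ha e.1
    obtain ⟨rfl, -⟩ := F.el_inj hq.2.1 hr.2.1 hb hb e.2
    rfl
  · obtain ⟨h, ⟨x, hx, ex⟩, y, hy, ey⟩ := (F.mem_fib ha hb).mp hp
    refine ⟨⟨x, y⟩, ?_, by rw [ex, ey]⟩
    simp only [Finset.mem_sigma, Finset.mem_filter, Finset.mem_range]
    exact ⟨hx, hy, by rw [ex, ey]; exact h⟩

theorem shift_el {a x u : ℕ} (ha : Kc a) (hx : x < 2048) (hu : u < 2048) :
    kap F.d u * F.el x a * (kap F.d u)⁻¹ = F.el (x ^^^ (u ^^^ actC a u)) a := by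
  rw [inv_eq_of_mul_eq_one_right (c.vGrp_sq o.hA.1 (kap_mem F.d u))]
  have e1 : pcomp pid a = a := pg_inj (kc_pid.comp ha) ha (by rw [pg_mul kc_pid ha, pg_pid, one_mul])
  have e2 : pcomp a pid = a := pg_inj (ha.comp kc_pid) ha (by rw [pg_mul ha kc_pid, pg_pid, mul_one])
  rw [← F.el_pid, F.el_mul hu hx kc_pid ha, F.actC_pid hx, F.el_mul (Nat.xor_lt_two_pow (n := 11) hu hx) hu
    (kc_pid.comp ha) kc_pid, e1, e2]
  congr 1
  rw [Nat.xor_comm u x, Nat.xor_assoc]

open Classical in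
theorem slice_shift {a b x u : ℕ} (ha : Kc a) (hb : Kc b) (hx : x < 2048) (hu : u < 2048) :
    ((Finset.range 2048).filter fun y => F.Hit (F.el x a, F.el y b)).card =
      ((Finset.range 2048).filter fun y => F.Hit (F.el (x ^^^ (u ^^^ actC a u)) a, F.el y b)).card := by
  have hg : kap F.d u * F.tT * (kap F.d u)⁻¹ = F.tT := by
    rw [o.Vcomm _ (kap_mem F.d u) _ F.tT_mem.1, mul_inv_cancel_right]
  have hd : u ^^^ actC b u < 2048 := Nat.xor_lt_two_pow (n := 11) hu (F.actC_lt hb hu)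
  have hcan : ∀ y, y ^^^ (u ^^^ actC b u) ^^^ (u ^^^ actC b u) = y := fun y => by
    rw [Nat.xor_assoc, Nat.xor_self, Nat.xor_zero]
  refine Finset.card_bij (fun y _ => y ^^^ (u ^^^ actC b u)) (fun y hy => ?_) (fun y _ y' _ e => ?_) fun y hy => ?_
  · rw [Finset.mem_filter, Finset.mem_range] at hy ⊢
    refine ⟨Nat.xor_lt_two_pow (n := 11) hy.1 hd, ?_⟩
    rw [← F.shift_el ha hx hu, ← F.shift_el hb hy.1 hu]
    exact (F.hit_conj (p := (F.el x a, F.el y b)) hg).mpr hy.2
  · rw [← hcan y, e, hcan]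
  · rw [Finset.mem_filter, Finset.mem_range] at hy
    have hy' := Nat.xor_lt_two_pow (n := 11) hy.1 hd
    refine ⟨y ^^^ (u ^^^ actC b u), ?_, hcan y⟩
    rw [Finset.mem_filter, Finset.mem_range]
    refine ⟨hy', (F.hit_conj (p := (F.el x a, F.el (y ^^^ (u ^^^ actC b u)) b)) hg).mp ?_⟩
    show F.Hit (kap F.d u * F.el x a * (kap F.d u)⁻¹, kap F.d u * F.el (y ^^^ (u ^^^ actC b u)) b * (kap F.d u)⁻¹)
    rw [F.shift_el ha hx hu, F.shift_el hb hy' hu, hcan]
    exact hy.2

omit [Finite G] in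
theorem card_countP (p : ℕ → Bool) (n : ℕ) :
    ((Finset.range n).filter fun y => p y = true).card = (List.range n).countP p := by
  rw [List.countP_eq_length_filter, ← List.toFinset_card_of_nodup (List.nodup_range.filter _)]
  congr 1
  ext y
  simp

include F in
theorem scols_eq {a b y : ℕ} (ha : Kc a) (hb : Kc b) (hy : y < 2048) :
    amul (scols a b) y = sumS (colC (pcomp a b)) (ordC (pcomp a b)) (actC a y) :=
  xorCols_linear' (fun s => sumS (colC (pcomp a b)) (ordC (pcomp a b)) (actC a s)) (n := 11)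
    (fun v w hv hw => by
      show sumS _ _ (actC a (v ^^^ w)) = _
      rw [F.actC_xor ha hv hw, F.sumS_xor (ha.comp hb) _ _ _ (F.actC_lt ha hv) (F.actC_lt ha hw)]) hy

include hF in
open Classical in
/-- The value. -/
theorem fib_val {a b : ℕ} (ha : TCode a) (hb : TCode b) (h0 : ordC (pcomp a b) ≠ 0) :
    (F.fib a b).card = nVal a b := by
  rw [F.fib_sum ha.1 hb.1, nVal]
  set h := pcomp a b with hhdef
  have hh : Kc h := ha.1.comp hb.1
  by_cases hap : a = pid
  · subst hap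
    rw [Nat.beq_refl, cond_true]
    have hz : ∀ {x}, (zRule pid x = true ∧ x ≠ 0) ↔ okO x = true := by
      intro x
      rw [zRule, Nat.beq_refl, cond_true, okO, Bool.and_eq_true]
      constructor
      · rintro ⟨h1, h2⟩
        exact ⟨by rw [Bool.not_eq_true', Bool.eq_false_iff]; exact fun e => h2 (Nat.eq_of_beq_eq_true e), h1⟩
      · rintro ⟨h1, h2⟩
        exact ⟨h2, fun e => by rw [e, Nat.beq_refl] at h1; simp at h1⟩
    have hh' : h = b := pg_inj hh hb.1 (by rw [hhdef, pg_mul kc_pid hb.1, pg_pid, one_mul])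
    have hit : ∀ x y, x < 2048 → y < 2048 → (F.Hit (F.el x pid, F.el y b) ↔ okO x = true ∧
        okY (colC b) b y = true ∧ sumS (colC b) (ordC b) (x ^^^ y) = tS) := by
      intro x y hx hy
      rw [F.hit_el hF ha hb hx hy h0, ← hhdef, hh', F.actC_pid hy]
      refine and_congr_left' ⟨fun h => hz.mp ⟨h.2.1, h.2.2 rfl⟩, fun h => ⟨F.actC_pid hx, (hz.mpr h).1, fun _ => (hz.mpr h).2⟩⟩
    by_cases hbp : b = pid
    · subst hbp
      rw [Nat.beq_refl, cond_true, ← card_countP, Finset.card_filter]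
      refine Finset.sum_congr rfl fun x hx => ?_
      rw [Finset.mem_range] at hx
      have hy : ∀ y, y < 2048 → (F.Hit (F.el x pid, F.el y pid) ↔ okO x = true ∧ isPair y = true ∧ y = x ^^^ tS) := by
        intro y hy
        rw [hit x y hx hy, okY, F.amul_eq kc_pid hy, F.actC_pid hy, Nat.beq_refl, zRule, Nat.beq_refl, cond_true,
          Bool.true_and, Bool.not_not, show ordC pid = 1 by rw [ordC, ordW, Nat.beq_refl, cond_true]]
        refine and_congr_right fun _ => and_congr_right fun _ => ?_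
        show Nat.xor (x ^^^ y) 0 = tS ↔ _
        rw [show Nat.xor (x ^^^ y) 0 = x ^^^ y from Nat.xor_zero _]
        constructor
        · intro e; rw [← e, xor_self_cancel]
        · intro e; rw [e, xor_self_cancel]
      by_cases hc : (okO x && isPair (Nat.xor x tS)) = true
      · rw [if_pos hc, Finset.card_eq_one]
        rw [Bool.and_eq_true] at hc
        refine ⟨x ^^^ tS, Finset.ext fun y => ?_⟩
        rw [Finset.mem_filter, Finset.mem_range, Finset.mem_singleton]
        exact ⟨fun h => ((hy y h.1).mp h.2).2.2, fun h => ⟨h ▸ Nat.xor_lt_two_pow (n := 11) hx tS_ok.1,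
          (hy y (h ▸ Nat.xor_lt_two_pow (n := 11) hx tS_ok.1)).mpr ⟨hc.1, h ▸ hc.2, h⟩⟩⟩
      · rw [if_neg hc, Finset.card_eq_zero, Finset.filter_eq_empty_iff]
        intro y hy' h
        obtain ⟨h1, h2, h3⟩ := (hy y (Finset.mem_range.mp hy')).mp h
        rw [h3] at h2
        exact hc (Bool.and_eq_true_iff.mpr ⟨h1, h2⟩)
    · rw [show Nat.beq b pid = false from Bool.eq_false_iff.mpr fun e => hbp (Nat.eq_of_beq_eq_true e), cond_false,
        ← card_countP, ← card_countP, ← Finset.card_product, ← Finset.card_sigma]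
      have hord : ordC b = 2 := by
        have hne : permDec b ≠ 1 := fun e => hbp (pg_inj hb.1 kc_pid (by rw [e, pg_pid]))
        rw [← (ordC_spec hb.1 (hh' ▸ h0)).2.2]
        exact orderOf_eq_prime (by rw [sq, ← pg_mul hb.1 hb.1, hb.2.2, pg_pid]) hne
      have hy : ∀ x y, x < 2048 → y < 2048 → (F.Hit (F.el x pid, F.el y b) ↔
          okY (colC b) b y = true ∧ (okO x && Nat.beq (Nat.xor x (amul (colC b) x)) tS) = true) := by
        intro x y hx hy
        rw [hit x y hx hy, hord, Bool.and_eq_true, Nat.beq_eq]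
        have hw := Nat.xor_lt_two_pow (n := 11) hx hy
        rw [sumS, sumS, sumS, F.amul_eq hb.1 hw, F.actC_xor hb.1 hx hy, F.amul_eq hb.1 hx]
        constructor
        · rintro ⟨h1, h2, h3⟩
          have hfix : actC b y = y := by
            rw [okY, Bool.and_eq_true, Nat.beq_eq, F.amul_eq hb.1 hy] at h2
            exact h2.1
          rw [hfix] at h3
          refine ⟨h2, h1, ?_⟩
          rw [← h3]
          show x ^^^ actC b x = (x ^^^ y) ^^^ ((actC b x ^^^ y) ^^^ 0)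
          rw [Nat.xor_zero, Nat.xor_comm (actC b x) y, Nat.xor_assoc, ← Nat.xor_assoc y, Nat.xor_self, Nat.zero_xor]
        · rintro ⟨h2, h1, h3⟩
          have hfix : actC b y = y := by
            rw [okY, Bool.and_eq_true, Nat.beq_eq, F.amul_eq hb.1 hy] at h2
            exact h2.1
          refine ⟨h1, h2, ?_⟩
          rw [← h3, hfix]
          show (x ^^^ y) ^^^ ((actC b x ^^^ y) ^^^ 0) = x ^^^ actC b x
          rw [Nat.xor_zero, Nat.xor_comm (actC b x) y, Nat.xor_assoc, ← Nat.xor_assoc y, Nat.xor_self, Nat.zero_xor]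
      refine Finset.card_bij (fun q _ => (q.2, q.1)) (fun q hq => ?_) (fun q _ r _ e => ?_) fun q hq => ⟨⟨q.2, q.1⟩, ?_, rfl⟩
      · simp only [Finset.mem_sigma, Finset.mem_filter, Finset.mem_range] at hq
        obtain ⟨h1, h2⟩ := (hy _ _ hq.1 hq.2.1).mp hq.2.2
        simp only [Finset.mem_product, Finset.mem_filter, Finset.mem_range]
        exact ⟨⟨hq.2.1, h1⟩, hq.1, h2⟩
      · obtain ⟨q1, q2⟩ := q
        obtain ⟨r1, r2⟩ := r
        rw [Prod.mk.injEq] at e
        obtain ⟨rfl, rfl⟩ := e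
        rfl
      · simp only [Finset.mem_product, Finset.mem_filter, Finset.mem_range] at hq
        simp only [Finset.mem_sigma, Finset.mem_filter, Finset.mem_range]
        exact ⟨hq.2.1, hq.1.1, (hy _ _ hq.2.1 hq.1.1).mpr ⟨hq.1.2, hq.2.2⟩⟩
  · rw [show Nat.beq a pid = false from Bool.eq_false_iff.mpr fun e => hap (Nat.eq_of_beq_eq_true e), cond_false,
      ← card_countP, ← card_countP]
    have hz : ∀ x, zRule a x = inR a x := fun x => by
      rw [zRule, show Nat.beq a pid = false from Bool.eq_false_iff.mpr fun e => hap (Nat.eq_of_beq_eq_true e), cond_false]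
    have hzero : ((Finset.range 2048).filter fun y => F.Hit (F.el 0 a, F.el y b)) =
        (Finset.range 2048).filter fun y => (okY (colC b) b y && Nat.beq (amul (scols a b) y) tS) = true := by
      refine Finset.filter_congr fun y hy => ?_
      rw [Finset.mem_range] at hy
      rw [F.hit_el hF ha hb (by norm_num) hy h0, Bool.and_eq_true, Nat.beq_eq, F.scols_eq ha.1 hb.1 hy, Nat.zero_xor]
      refine ⟨fun h => h.2, fun h => ⟨⟨F.actC_zero ha.1, ?_, fun e => absurd e hap⟩, h⟩⟩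
      rw [hz, F.inR_iff ha.1]
      exact ⟨0, by norm_num, by rw [F.actC_zero ha.1, Nat.xor_self]⟩
    rw [← hzero, Finset.card_filter (fun v => inR a v = true), Finset.sum_mul]
    refine Finset.sum_congr rfl fun x hx => ?_
    rw [Finset.mem_range] at hx
    by_cases hR : inR a x = true
    · rw [if_pos hR, one_mul]
      obtain ⟨u, hu, e⟩ := (F.inR_iff ha.1).mp hR
      rw [F.slice_shift ha.1 hb.1 hx hu, e, Nat.xor_self]
    · rw [if_neg hR, zero_mul, Finset.card_eq_zero, Finset.filter_eq_empty_iff]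
      intro y hy h
      exact hR (hz x ▸ ((F.hit_el hF ha hb hx (Finset.mem_range.mp hy) h0).mp h).1.2.1)

end Frame

end CfsgLib.J4Order
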