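/-
The number of pairs with product powering to a pair element.
-/
import Cfsg.Agent.Lib.J4Order.Eval
import Cfsg.Agent.Lib.J4Order.CountCheck0
import Cfsg.Agent.Lib.J4Order.CountCheck1
import Cfsg.Agent.Lib.J4Order.CountCheck2
import Cfsg.Agent.Lib.J4Order.CountCheck3

set_option autoImplicit false

namespace CfsgLib.J4Order

open Cfsg Subgroup CfsgGolay CfsgLib.JankoFour
open scoped Pointwise

attribute [local irreducible] codeL octadL dodecadL slpCodes pcomp pmask cls inR rMask wv inW elW isPair colC fixedMask tS tM actC gensT mainT rowsT0 rowsT1 rowsT2 rowsT3 gensT0 gensT1 gensT2 gensT3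

theorem gensT_ok : gensW pid gensT = true ∧ rowsOK gensT mainT = true := by decide +kernel

theorem totals_ok : (mainT.map fun R => (R.n + 1) * R.val).sum = 1544188503 ∧
    mainT.map (fun R => (R.b, R.val)) = [(rootT0, (rowsT0.map fun R => (R.n + 1) * R.val).sum),
      (rootT1, (rowsT1.map fun R => (R.n + 1) * R.val).sum), (rootT2, (rowsT2.map fun R => (R.n + 1) * R.val).sum),
      (rootT3, (rowsT3.map fun R => (R.n + 1) * R.val).sum)] := by decide +kernel

theorem cT_stab {a : ℕ} {g : Equiv.Perm GolayPt} (hg : g ∈ cT a) : g ∈ M24 ∧ g • toSet tM = toSet tM :=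
  ⟨(mem_centM.mp (Subgroup.mem_inf.mp hg).1).1, MulAction.mem_stabilizer_iff.mp (Subgroup.mem_inf.mp hg).2⟩

/-- The members. -/
def tSet : Finset ℕ := (rowsList gensT mainT).toFinset

theorem mem_tSet {x : ℕ} : x ∈ tSet ↔ TCode x := by
  rw [tSet, List.mem_toFinset]
  exact (rows_spec kc_pid gensT_ok.1 gensT_ok.2).2.1 x

universe u

variable {G : Type u} [Group G] [Finite G] {z : G} {P E : Subgroup G} {c : Ctx z P E} {A : Subgroup MTwoTwo}
variable {o : c.Orb A} (F : Frame o)

namespace Frame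

theorem row_total (hF : F.Normal) {a : ℕ} {gens : List (ℕ × ℕ)} {rows : List RowT} (ha : TCode a)
    (h : gensW a gens = true ∧ rowsOK gens rows = true)
    (hv : rows.all (fun R => rowVal a R && !(Nat.beq (ordC (pcomp a R.b)) 0)) = true) :
    ∑ b ∈ tSet, (F.fib a b).card = (rows.map fun R => (R.n + 1) * R.val).sum := by
  refine rows_sum ha.1 h.1 h.2 _ (fun x y hx hy g hg e => ?_) (fun R hR => ?_) fun x => mem_tSet
  · obtain ⟨hgM, hgs⟩ := cT_stab hg
    have hga : g * permDec a * g⁻¹ = permDec a := by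
      rw [(mem_centM.mp (Subgroup.mem_inf.mp hg).1).2, mul_inv_cancel_right]
    exact (F.fib_conj hgM hgs ha.1 ha.1 hx.1 hy.1 hga e).symm
  · have := List.all_eq_true.mp hv R hR
    rw [Bool.and_eq_true, Bool.not_eq_true', rowVal, Nat.beq_eq] at this
    rw [F.fib_val hF ha ((rows_spec ha.1 h.1 h.2).2.2 R hR).1 (fun e => by rw [e] at this; simp at this), this.1]

theorem first_invariant {x y : ℕ} (hx : TCode x) (hy : TCode y) {g : Equiv.Perm GolayPt} (hg : g ∈ cT pid)
    (e : g * permDec x * g⁻¹ = permDec y) : ∑ b ∈ tSet, (F.fib y b).card = ∑ b ∈ tSet, (F.fib x b).card := by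
  obtain ⟨hgM, hgs⟩ := cT_stab hg
  let φ : ℕ → ℕ := fun b => codeOf (g * permDec b * g⁻¹)
  have hφ : ∀ b, TCode b → TCode (φ b) ∧ permDec (φ b) = g * permDec b * g⁻¹ := by
    intro b hb
    obtain ⟨h1, h2⟩ := codeOf_spec (g * permDec b * g⁻¹)
    have hk : Kc (φ b) := ⟨h1, _, mul_mem (mul_mem hgM (kc_repr hb.1).2) (inv_mem hgM), h2⟩
    exact ⟨tcode_conj hk hb hg (permDec_eq h2).symm, permDec_eq h2⟩
  have hinj : Set.InjOn φ (tSet : Set ℕ) := by
    intro a ha b hb h
    have ha' := mem_tSet.mp ha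
    have hb' := mem_tSet.mp hb
    have h1 := congrArg permDec h
    rw [(hφ a ha').2, (hφ b hb').2] at h1
    exact pg_inj ha'.1 hb'.1 (mul_left_cancel (mul_right_cancel h1))
  have himg : tSet.image φ = tSet := by
    refine Finset.eq_of_subset_of_card_le (fun b hb => ?_) ?_
    · obtain ⟨a, ha, rfl⟩ := Finset.mem_image.mp hb
      exact mem_tSet.mpr (hφ a (mem_tSet.mp ha)).1
    · rw [Finset.card_image_of_injOn hinj]
  conv_lhs => rw [← himg]
  rw [Finset.sum_image hinj]
  refine Finset.sum_congr rfl fun b hb => ?_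
  obtain ⟨h1, h2⟩ := hφ b (mem_tSet.mp hb)
  exact (F.fib_conj hgM hgs hx.1 hy.1 (mem_tSet.mp hb).1 h1.1 e h2.symm).symm

/-- The count. -/
theorem count_T (hF : F.Normal) : Nat.card {p : G × G // F.Hit p} = 1544188503 := by
  have hspec := rows_spec kc_pid gensT_ok.1 gensT_ok.2
  rw [F.hit_card (fun _ => mem_tSet), rows_sum kc_pid gensT_ok.1 gensT_ok.2 (fun a => ∑ b ∈ tSet, (F.fib a b).card)
    (fun x y hx hy g hg e => F.first_invariant hx hy hg e) ?_ (fun _ => mem_tSet), totals_ok.1]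
  intro R hR
  have hm : (R.b, R.val) ∈ mainT.map (fun R => (R.b, R.val)) := List.mem_map.mpr ⟨R, hR, rfl⟩
  have hT := (hspec.2.2 R hR).1
  rw [totals_ok.2] at hm
  simp only [List.mem_cons, List.not_mem_nil, or_false, Prod.mk.injEq] at hm
  rcases hm with ⟨h1, h2⟩ | ⟨h1, h2⟩ | ⟨h1, h2⟩ | ⟨h1, h2⟩ <;> rw [h2] <;>
    (rw [h1] at hT; rw [h1])
  · exact F.row_total hF hT gensT0_ok valsT0_ok
  · exact F.row_total hF hT gensT1_ok valsT1_ok
  · exact F.row_total hF hT gensT2_ok valsT2_ok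
  · exact F.row_total hF hT gensT3_ok valsT3_ok

end Frame

end CfsgLib.J4Order
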