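/-
Checks of the reducers.
-/
import Cfsg.Agent.Lib.J4Order.GroupData

set_option autoImplicit false

namespace CfsgLib.J4Order

open Cfsg CfsgGolay

/-- The generators. -/
def genL : List ℕ := genSt.map (fun r => r.M) ++ [genM]

theorem redW_ok : redW.all redOK = true ∧
    ((List.range 64).all fun w => !(bitF teMask w) || redW.any fun r => Nat.beq (mApp r.M 1) w) = true := by
  decide +kernel

theorem redS_ok : redS.length = 1 ∧ (redS.all fun r => redOK r &&
    Nat.beq (mMul r.M pM) (mMul (mMul pM pM) r.M) && Nat.beq (mApp r.M 1) 1) = true := by decide +kernel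

theorem red1_ok : stageRed 1 red1 = true ∧ stageOK 1 red1 = true := by decide +kernel
theorem red2_ok : stageRed 2 red2 = true ∧ stageOK 2 red2 = true := by decide +kernel
theorem red3_ok : stageRed 3 red3 = true ∧ stageOK 3 red3 = true := by decide +kernel
theorem red4_ok : stageRed 4 red4 = true ∧ stageOK 4 red4 = true := by decide +kernel
theorem red5_ok : stageRed 5 red5 = true ∧ stageOK 5 red5 = true := by decide +kernel

theorem span_ok : (List.range 6).all (fun k => bitF teMask (basisG.getD k 0)) = true ∧
    ((List.range 12).all fun j => (List.range 4096).any fun u => Nat.beq (xorCols (domL 6) u) (2 ^ j)) = true := by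
  decide +kernel

theorem genM_ok : Nat.blt genM (2 ^ 144) = true ∧ Nat.blt genMi (2 ^ 144) = true ∧ Nat.beq (mMul genMi genM) mId = true ∧
    ((List.range 4096).all fun x => sameCls (mApp genM x) x) = true ∧
    Nat.beq (mMul genM pM) (mMul pM genM) = true ∧ genSt.all redOK = true := by decide +kernel

theorem teWalk_ok : Nat.beq (Nat.land teMask (maskOf ((walkM genL teWalkD 1385).map fun M => mApp M 1))) teMask = true := by
  decide +kernel

end CfsgLib.J4Order
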