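/-
The table is closed under the generators and sorted.
-/
import Cfsg.Agent.Lib.J4Order.GroupCheck
import Cfsg.Agent.Lib.J4Order.InvData

set_option autoImplicit false

namespace CfsgLib.J4Order

open Cfsg CfsgGolay

theorem sorted_ok : ((List.range 6303).all fun i => Nat.blt (tget 144 invA i) (tget 144 invA (i + 1))) = true := by
  decide +kernel

theorem closedA_ok : genL.length = 4 ∧ genLi.length = 4 ∧
    ((genL.zip genLi).all fun g => Nat.blt g.2 (2 ^ 144) && Nat.beq (mMul g.2 g.1) mId) = true := by
  decide +kernel

end CfsgLib.J4Order
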