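/-
The table is closed under conjugation by generator 1.
-/
import Cfsg.Agent.Lib.J4Order.GroupCheck
import Cfsg.Agent.Lib.J4Order.InvData

set_option autoImplicit false
set_option Elab.async false

namespace CfsgLib.J4Order

open Cfsg CfsgGolay

theorem closed1_0 : closedA invA (genL.getD 1 0) (genLi.getD 1 0) 0 788 = true := by decide +kernel
theorem closed1_1 : closedA invA (genL.getD 1 0) (genLi.getD 1 0) 788 788 = true := by decide +kernel
theorem closed1_2 : closedA invA (genL.getD 1 0) (genLi.getD 1 0) 1576 788 = true := by decide +kernel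
theorem closed1_3 : closedA invA (genL.getD 1 0) (genLi.getD 1 0) 2364 788 = true := by decide +kernel
theorem closed1_4 : closedA invA (genL.getD 1 0) (genLi.getD 1 0) 3152 788 = true := by decide +kernel
theorem closed1_5 : closedA invA (genL.getD 1 0) (genLi.getD 1 0) 3940 788 = true := by decide +kernel
theorem closed1_6 : closedA invA (genL.getD 1 0) (genLi.getD 1 0) 4728 788 = true := by decide +kernel
theorem closed1_7 : closedA invA (genL.getD 1 0) (genLi.getD 1 0) 5516 788 = true := by decide +kernel

theorem closed1_all {i : ℕ} (hi : i < 6304) :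
    memA invA (mMul (genL.getD 1 0) (mMul (tget 144 invA i) (genLi.getD 1 0))) = true := by
  have key : ∀ lo, closedA invA (genL.getD 1 0) (genLi.getD 1 0) lo 788 = true → lo ≤ i → i < lo + 788 →
      memA invA (mMul (genL.getD 1 0) (mMul (tget 144 invA i) (genLi.getD 1 0))) = true := fun lo h h1 h2 =>
    List.all_eq_true.mp h i (List.mem_range'_1.mpr ⟨h1, h2⟩)
  by_cases h1 : i < 788
  · exact key _ closed1_0 (by omega) (by omega)
  by_cases h2 : i < 1576
  · exact key _ closed1_1 (by omega) (by omega)
  by_cases h3 : i < 2364
  · exact key _ closed1_2 (by omega) (by omega)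
  by_cases h4 : i < 3152
  · exact key _ closed1_3 (by omega) (by omega)
  by_cases h5 : i < 3940
  · exact key _ closed1_4 (by omega) (by omega)
  by_cases h6 : i < 4728
  · exact key _ closed1_5 (by omega) (by omega)
  by_cases h7 : i < 5516
  · exact key _ closed1_6 (by omega) (by omega)
  exact key _ closed1_7 (by omega) (by omega)

end CfsgLib.J4Order
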