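/-
Standard coordinates: the complement contains P and its involutions are conjugate to the centre.
-/
import Cfsg.Agent.Lib.J4Order.Types

set_option autoImplicit false

namespace CfsgLib.J4Order

open Cfsg Subgroup CfsgGolay CfsgLib.JankoFour

attribute [local irreducible] codeL octadL dodecadL slpCodes pcomp pmask cls inR rMask wv inW elW isPair colC kindE fixedMask

theorem k3_ok : kcB k3C = true ∧ pcomp k3C (pcomp k3C k3C) = pid ∧ papp bZero 0 < 24 ∧ 0 < papp bZero 0 := by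
  decide +kernel

universe u

variable {G : Type u} [Group G] [Finite G] {z : G} {P E : Subgroup G} {c : Ctx z P E} {A : Subgroup MTwoTwo}

/-- Standard coordinates. -/
structure Std (o : c.Orb A) : Type u extends Frame o where
  p : G
  hp : p ∈ P
  hgen : P = zpowers p
  hel : toFrame.el 0 k3C = p
  normal : toFrame.Normal

variable {o : c.Orb A}

/-- Conjugating the complement by an element of V. -/
theorem exists_conj (F : Frame o) {v : G} (hv : v ∈ c.vGrp A o.hA.1.1) :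
    ∃ F' : Frame o, F'.d = F.d ∧ ∀ a, Kc a → F'.lift a = v * F.lift a * v⁻¹ := by
  classical
  set V := c.vGrp A o.hA.1.1
  have hvN : v ∈ normalizer (V : Set G) := le_normalizer hv
  let F' : Frame o :=
    { d := F.d
      K := F.K.map (MulAut.conj v).toMonoidHom
      hKN := by
        rintro _ ⟨k, hk, rfl⟩
        exact mul_mem (mul_mem hvN (F.hKN hk)) (inv_mem hvN)
      hKV := by
        rw [eq_bot_iff]
        rintro _ ⟨⟨k, hk, rfl⟩, hkV⟩
        have hkV' : k ∈ V := by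
          have hkV2 : v * k * v⁻¹ ∈ V := hkV
          have h : v⁻¹ * (v * k * v⁻¹) * v ∈ V := mul_mem (mul_mem (inv_mem hv) hkV2) hv
          rwa [show v⁻¹ * (v * k * v⁻¹) * v = k by group] at h
        have hk1 : k = 1 := mem_bot.mp (F.hKV ▸ mem_inf.mpr ⟨hk, hkV'⟩)
        rw [hk1, map_one]
        exact one_mem _
      hKsup := by
        refine le_antisymm (sup_le ?_ le_normalizer) fun n hn => ?_
        · rintro _ ⟨k, hk, rfl⟩
          exact mul_mem (mul_mem hvN (F.hKN hk)) (inv_mem hvN)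
        · obtain ⟨w, hw, k, hk, rfl⟩ := o.decomp_K F.hKN F.hKsup hn
          rw [show w * k = w * v⁻¹ * (v * k * v⁻¹) * v by group]
          exact mul_mem (mul_mem (mem_sup_right (mul_mem hw (inv_mem hv))) (mem_sup_left ⟨k, hk, rfl⟩))
            (mem_sup_right hv)
      hz := F.hz }
  refine ⟨F', rfl, fun a ha => ?_⟩
  obtain ⟨hm, hr⟩ := F.lift_spec ha
  have hm' : v * F.lift a * v⁻¹ ∈ F'.K := ⟨_, hm, rfl⟩
  refine F'.lift_eq hm' ?_ ha
  show Repr a (F.d.θ ⟨v * F.lift a * v⁻¹, F'.hKN hm'⟩).1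
  rw [show (⟨v * F.lift a * v⁻¹, F'.hKN hm'⟩ : ↥(normalizer (V : Set G))) = ⟨v, hvN⟩ * ⟨F.lift a, F.hKN hm⟩ * ⟨v, hvN⟩⁻¹
    from rfl, map_mul, map_mul, map_inv, (F.d.theta_one ⟨v, hvN⟩).mpr hv, one_mul, inv_one, mul_one]
  exact hr

/-- Twisting the complement by the duads at a point. -/
theorem exists_twist (F : Frame o) :
    ∃ F' : Frame o, F'.d = F.d ∧ ∀ a, Kc a → ∀ g : Equiv.Perm GolayPt, Repr a g →
      F'.lift a = F.d.D (pt 0) (g (pt 0)) * F.lift a := by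
  classical
  set V := c.vGrp A o.hA.1.1
  let τ : ↥F.K →* G :=
    { toFun := fun k => F.d.D (pt 0) ((F.d.θ ⟨k, F.hKN k.2⟩).1 (pt 0)) * k
      map_one' := by
        rw [show (⟨((1 : ↥F.K) : G), F.hKN (one_mem _)⟩ : ↥(normalizer (V : Set G))) = 1 from rfl, map_one]
        simp [F.d.self]
      map_mul' := fun a b => by
        have h := F.d.conj ⟨a, F.hKN a.2⟩ (pt 0) ((F.d.θ ⟨b, F.hKN b.2⟩).1 (pt 0))
        rw [show (⟨((a * b : ↥F.K) : G), F.hKN (a * b).2⟩ : ↥(normalizer (V : Set G))) =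
          ⟨a, F.hKN a.2⟩ * ⟨b, F.hKN b.2⟩ from rfl, map_mul]
        rw [Subgroup.coe_mul, Subgroup.coe_mul, Equiv.Perm.mul_apply, ← F.d.mul (pt 0) ((F.d.θ ⟨a, F.hKN a.2⟩).1 (pt 0)),
          ← h]
        group }
  have hθ : ∀ (k : ↥F.K) (h : τ k ∈ normalizer (V : Set G)), F.d.θ ⟨τ k, h⟩ = F.d.θ ⟨k, F.hKN k.2⟩ := fun k h => by
    rw [show (⟨τ k, h⟩ : ↥(normalizer (V : Set G))) =
      ⟨_, le_normalizer (F.d.memV (pt 0) ((F.d.θ ⟨k, F.hKN k.2⟩).1 (pt 0)))⟩ * ⟨k, F.hKN k.2⟩ from rfl,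
      map_mul, (F.d.theta_one ⟨_, le_normalizer (F.d.memV _ _)⟩).mpr (F.d.memV _ _), one_mul]
  have hN : τ.range ≤ normalizer (V : Set G) := by
    rintro _ ⟨k, rfl⟩
    exact mul_mem (le_normalizer (F.d.memV _ _)) (F.hKN k.2)
  let F' : Frame o :=
    { d := F.d
      K := τ.range
      hKN := hN
      hKV := by
        rw [eq_bot_iff]
        rintro _ ⟨⟨k, rfl⟩, hkV⟩
        have hkV' : (k : G) ∈ V := by
          have := mul_mem (inv_mem (F.d.memV (pt 0) ((F.d.θ ⟨k, F.hKN k.2⟩).1 (pt 0)))) (hkV : τ k ∈ V)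
          simpa [τ] using this
        have hk1 : k = 1 := Subtype.ext (mem_bot.mp (F.hKV ▸ mem_inf.mpr ⟨k.2, hkV'⟩))
        rw [hk1, map_one]; exact one_mem _
      hKsup := by
        refine le_antisymm (sup_le hN le_normalizer) fun n hn => ?_
        obtain ⟨w, hw, k, hk, rfl⟩ := o.decomp_K F.hKN F.hKsup hn
        have hk' : τ ⟨k, hk⟩ ∈ τ.range := ⟨_, rfl⟩
        rw [show w * k = w * (F.d.D (pt 0) ((F.d.θ ⟨k, F.hKN hk⟩).1 (pt 0)))⁻¹ * τ ⟨k, hk⟩ by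
          simp [τ, mul_assoc]]
        exact mul_mem (mem_sup_right (mul_mem hw (inv_mem (F.d.memV _ _)))) (mem_sup_left hk')
      hz := F.hz }
  refine ⟨F', rfl, fun a ha g hg => ?_⟩
  obtain ⟨hm, hr⟩ := F.lift_spec ha
  have h1 : F.d.D (pt 0) (g (pt 0)) * F.lift a = τ ⟨F.lift a, hm⟩ := by
    show _ = F.d.D (pt 0) ((F.d.θ ⟨F.lift a, F.hKN hm⟩).1 (pt 0)) * F.lift a
    rw [hr.unique hg]
  rw [h1]
  have hm' : τ ⟨F.lift a, hm⟩ ∈ F'.K := ⟨_, rfl⟩
  refine F'.lift_eq hm' ?_ ha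
  show Repr a (F.d.θ ⟨τ ⟨F.lift a, hm⟩, hN hm'⟩).1
  rw [hθ]
  exact hr

/-- Standard coordinates exist. -/
theorem exists_Std (o : c.Orb A) (hex : ∃ h ∈ centralizer ({z} : Set G), h ∉ c.H0)
    (hfaith : ∀ h ∈ centralizer ({z} : Set G), (∀ x ∈ c.cen, h * x * h⁻¹ * x⁻¹ ∈ c.N) → h ∈ c.N) :
    Nonempty (Std o) := by
  classical
  obtain ⟨d, p, hp, hgen, hz, hθ⟩ := exists_std o
  obtain ⟨K, hKN, hKV, hKsup, -⟩ := o.exists_compl hex hfaith
  let F0 : Frame o := ⟨d, K, hKN, hKV, hKsup, hz⟩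
  obtain ⟨hk3, hk33, hj, hj0⟩ := k3_ok
  have hk := kc_of_check hk3
  obtain ⟨F1, hd1, hn1⟩ : ∃ F1 : Frame o, F1.d = d ∧ F1.Normal := by
    by_cases h4 : F0.Normal
    · exact ⟨F0, rfl, h4⟩
    obtain ⟨-, -, h45⟩ := F0.types
    obtain ⟨F1, hd1, hl⟩ := exists_twist F0
    refine ⟨F1, hd1, ?_⟩
    have h5 : Frame.Ty F0 5 := by
      by_contra h
      exact h4 (h45.mpr h)
    obtain ⟨-, hb⟩ := Frame.kc_reps
    obtain ⟨-, g, hg, hgr⟩ := id hb
    show c.IsZ (F1.el 0 bZero)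
    have e : F1.el 0 bZero = F0.el 1506 bZero := by
      rw [Frame.el, Frame.el, hl bZero hb g hgr, kap_zero, one_mul]
      congr 1
      obtain ⟨tw, -, -⟩ := twist_ok
      have h0 : g (pt 0) = pt (papp bZero 0) := idx_injective (by rw [hgr, idx_pt (by norm_num), idx_pt hj])
      rw [h0, F0.d.symm, ← (kap_pcl F0.d hj0 hj).2, ← tw, max_eq_right (Nat.zero_le _), min_eq_left (Nat.zero_le _)]
    rw [e]
    obtain ⟨-, tw2, tw3⟩ := twist_ok
    rw [F0.amul_eq hb (by norm_num)] at tw2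
    exact (F0.isZ_zero (by norm_num) (Nat.eq_of_beq_eq_true tw2)).mpr (by
      rw [if_neg (by rw [tw3]; simp)]; exact h5)
  have hpN := P_norm (o := o) (fun _ h => c.P_le_cen h) hp
  obtain ⟨a, ha, b, hb, hab⟩ := F1.el_surj hpN
  have hb3 : b = k3C := by
    obtain ⟨hm, hr⟩ := F1.lift_spec hb
    have e : (⟨p, hpN⟩ : ↥(normalizer (c.vGrp A o.hA.1.1 : Set G))) =
        ⟨kap F1.d a, le_normalizer (kap_mem _ a)⟩ * ⟨F1.lift b, F1.hKN hm⟩ := Subtype.ext hab.symm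
    have h2 : F1.d.θ ⟨p, hpN⟩ = F1.d.θ ⟨F1.lift b, F1.hKN hm⟩ := by
      rw [e, map_mul, (F1.d.theta_one ⟨kap F1.d a, le_normalizer (kap_mem _ a)⟩).mpr (kap_mem _ a), one_mul]
    rw [← hd1] at hθ
    refine repr_code_eq hb.1 hk.1 hr ?_
    rw [← h2]
    exact hθ
  subst hb3
  set b1 := actC k3C a with hb1
  have hb1l : b1 < 2048 := F1.actC_lt hk ha
  set b2 := actC k3C b1 with hb2
  have hb2l : b2 < 2048 := F1.actC_lt hk hb1l
  have hsum : a ^^^ (b1 ^^^ b2) = 0 := by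
    have h3 : p * (p * p) = 1 := by rw [← mul_assoc, c.P_cube hp]
    rw [← hab, F1.el_mul ha ha hk hk, F1.el_mul ha (Nat.xor_lt_two_pow (n := 11) ha hb1l) hk (hk.comp hk), hk33,
      F1.el_pid, F1.actC_xor hk ha hb1l, ← hb1, ← hb2] at h3
    exact (kap_one F1.d (Nat.xor_lt_two_pow (n := 11) ha (Nat.xor_lt_two_pow (n := 11) hb1l hb2l))).mp h3
  obtain ⟨F2, hd2, hl2⟩ := exists_conj F1 (kap_mem F1.d b1)
  have hconj : ∀ s e, s < 2048 → Kc e → F2.el s e = F1.el (s ^^^ b1 ^^^ actC e b1) e := by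
    intro s e hs he
    obtain ⟨h1, h2⟩ := F1.lift_conj he hb1l
    rw [Frame.el, Frame.el, hl2 e he, hd2, kap_xor F1.d (Nat.xor_lt_two_pow (n := 11) hs hb1l) h1, ← h2,
      kap_xor F1.d hs hb1l, inv_eq_of_mul_eq_one_right (c.vGrp_sq o.hA.1 (kap_mem F1.d b1))]
    group
  refine ⟨{ toFrame := F2, p := p, hp := hp, hgen := hgen, hel := ?_, normal := ?_ }⟩
  · rw [hconj 0 k3C (by norm_num) hk, Nat.zero_xor, ← hb2, ← hab]
    congr 1
    exact (xor_left_inj' (a := a) (by rw [Nat.xor_self, hsum])).symm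
  · show c.IsZ (F2.el 0 bZero)
    obtain ⟨-, hb⟩ := Frame.kc_reps
    rw [Frame.el, hl2 bZero hb, kap_zero, one_mul, c.isZ_iff]
    have h : c.IsZ (F1.el 0 bZero) := hn1
    rwa [Frame.el, kap_zero, one_mul] at h

end CfsgLib.J4Order
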