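/-
The group E modulo the centre as words of twelve bits.
-/
import Cfsg.Agent.Lib.J4Order.Std
import Cfsg.Agent.Lib.J4Order.Walk

set_option autoImplicit false

namespace CfsgLib.J4Order

open Cfsg Subgroup CfsgGolay CfsgLib.JankoFour

attribute [local irreducible] codeL octadL dodecadL slpCodes pcomp pmask cls inR rMask inW elW isPair colC fixedMask actC

/-- The class part of a word. -/
def wsX (x : ℕ) : ℕ := wv (x % 64)

/-- The code part of a word. -/
def esX (x : ℕ) : ℕ := elW sxN (x / 64)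

/-- The lifts of the word square to the centre. -/
def sqZ (x : ℕ) : Bool := !(Nat.beq (amul (colC (esX x)) (wsX x)) (wsX x))

/-- The checks on one code of E. -/
def esOK (n : ℕ) : Bool :=
  kcB (elW sxN n) && Nat.beq (amul (colC (elW sxN n)) zsC) zsC && (!(Nat.beq (elW sxN n) pid) || Nat.beq n 0) &&
    (List.range 64).all fun m => Nat.beq (pcomp (elW sxN n) (elW sxN m)) (elW sxN (Nat.xor n m)) &&
      (Nat.beq (amul (colC (elW sxN n)) (wv m)) (wv m) || Nat.beq (amul (colC (elW sxN n)) (wv m)) (Nat.xor (wv m) zsC))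

theorem es_ok : ((List.range 64).all esOK) = true := by decide +kernel

theorem wv_ok : ((List.range 64).all fun n => (List.range 64).all fun m =>
    Nat.beq (wv (Nat.xor n m)) (Nat.xor (wv n) (wv m)) &&
      ((!(Nat.beq (wv n) (wv m)) && !(Nat.beq (wv n) (Nat.xor (wv m) zsC))) || Nat.beq n m)) = true ∧ wv 0 = 0 := by
  decide +kernel

theorem wv_pair {n m : ℕ} (hn : n < 64) (hm : m < 64) :
    wv (n ^^^ m) = wv n ^^^ wv m ∧ ((wv n = wv m ∨ wv n = wv m ^^^ zsC) → n = m) := by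
  have h := List.all_eq_true.mp (List.all_eq_true.mp wv_ok.1 n (List.mem_range.mpr hn)) m (List.mem_range.mpr hm)
  simp only [Bool.and_eq_true, Bool.or_eq_true, Bool.not_eq_true', Nat.beq_eq, Bool.eq_false_iff, ne_eq] at h
  refine ⟨h.1, fun e => ?_⟩
  rcases h.2 with ⟨h1, h2⟩ | h2
  · rcases e with e | e
    · exact absurd e h1
    · exact absurd e h2
  · exact h2

theorem xor_div {x y : ℕ} : (x ^^^ y) / 64 = x / 64 ^^^ y / 64 := by
  have h : ∀ a : ℕ, a / 64 = a >>> 6 := fun a => by rw [Nat.shiftRight_eq_div_pow]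
  rw [h, h, h, Nat.shiftRight_xor_distrib]

theorem xor_mod {x y : ℕ} : (x ^^^ y) % 64 = x % 64 ^^^ y % 64 := by
  rw [show 64 = 2 ^ 6 from rfl]
  exact Nat.xor_mod_two_pow

theorem esX_kc {x : ℕ} (hx : x < 4096) : Kc (esX x) ∧ wsX x < 2048 ∧ wsX x = wv (x % 64) ∧ x / 64 < 64 := by
  have hd : x / 64 < 64 := by omega
  have h := List.all_eq_true.mp es_ok (x / 64) (List.mem_range.mpr hd)
  simp only [esOK, Bool.and_eq_true] at h
  exact ⟨kc_of_check h.1.1.1, wv_lt (Nat.mod_lt _ (by norm_num)), rfl, hd⟩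

universe u

variable {G : Type u} [Group G] [Finite G] {z : G} {P E : Subgroup G} {c : Ctx z P E} {A : Subgroup MTwoTwo}
variable {o : c.Orb A} (F : Frame o)

namespace Frame

/-- The element of E with the given word. -/
noncomputable def eEl (x : ℕ) : G := F.el (wsX x) (esX x)

/-- The element has the given word modulo the centre. -/
def Cl (e : G) (x : ℕ) : Prop := x < 4096 ∧ (e = F.eEl x ∨ e = F.eEl x * z)

include F in
theorem es_facts {n : ℕ} (hn : n < 64) : Kc (elW sxN n) ∧ actC (elW sxN n) zsC = zsC ∧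
    (elW sxN n = pid → n = 0) ∧ ∀ m < 64, pcomp (elW sxN n) (elW sxN m) = elW sxN (n ^^^ m) ∧
      (actC (elW sxN n) (wv m) = wv m ∨ actC (elW sxN n) (wv m) = wv m ^^^ zsC) := by
  have h := List.all_eq_true.mp es_ok n (List.mem_range.mpr hn)
  simp only [esOK, Bool.and_eq_true, List.all_eq_true, List.mem_range, Bool.or_eq_true, Bool.not_eq_true',
    Nat.beq_eq, Bool.eq_false_iff, ne_eq] at h
  obtain ⟨⟨⟨h1, h2⟩, h3⟩, h4⟩ := h
  have hk := kc_of_check h1
  refine ⟨hk, by rw [← F.amul_eq hk zs_ok.2.1]; exact h2, fun e => h3.resolve_left fun h => h e, fun m hm => ?_⟩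
  rw [← F.amul_eq hk (wv_lt hm)]
  exact ⟨(h4 m hm).1, (h4 m hm).2⟩

theorem el_mul_z {s a : ℕ} (hs : s < 2048) (ha : Kc a) (hfix : actC a zsC = zsC) :
    F.el s a * z = F.el (s ^^^ zsC) a := by
  have h := F.el_mul hs zs_ok.2.1 ha kc_pid
  rw [F.el_pid, F.hz, hfix] at h
  rw [h]
  congr 1
  exact pg_inj (ha.comp kc_pid) ha (by rw [pg_mul ha kc_pid, pg_pid, mul_one])

theorem el_E {s : ℕ} (hs : inW s = true) {n : ℕ} (hn : n < 64) : F.el s (elW sxN n) ∈ E := by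
  obtain ⟨g, hg, hr⟩ := elW_repr sxN (fun a ha => (List.all_eq_true.mp (by decide +kernel :
    (sxN.all permOK) = true) a ha)) n
  obtain ⟨e, he, hθ⟩ := exists_E F.d F.hz hg
  obtain ⟨s', hs', n', hn', hel⟩ := F.E_form he
  have hl' := inW_lt hs'
  obtain ⟨hk, -⟩ := F.es_facts hn'
  have hcode : elW sxN n' = elW sxN n := by
    obtain ⟨hm, hr'⟩ := F.lift_spec hk
    refine repr_code_eq hk.1 (elW_lt n) hr' ?_
    have hd : (F.d.θ ⟨F.lift (elW sxN n'), F.hKN hm⟩).1 = g := by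
      rw [← hθ]
      congr 1
      have hv : kap F.d s' ∈ c.vGrp A o.hA.1.1 := kap_mem F.d s'
      rw [show (⟨e, c.E_norm_V o.hA he⟩ : ↥(normalizer (c.vGrp A o.hA.1.1 : Set G))) =
        ⟨kap F.d s', le_normalizer hv⟩ * ⟨F.lift (elW sxN n'), F.hKN hm⟩ from Subtype.ext hel.symm, map_mul,
        (F.d.theta_one ⟨kap F.d s', le_normalizer hv⟩).mpr hv, one_mul]
    rw [hd]; exact hr
  obtain ⟨hW, -⟩ := W_std F.d F.hz
  have hl := inW_lt hs
  rw [hcode] at hel
  have hfix : kap F.d (s ^^^ s') ∈ c.fixB A := by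
    rw [kap_xor F.d hl hl']; exact mul_mem ((hW s hl).mpr hs) ((hW s' hl').mpr hs')
  have : F.el s (elW sxN n) = kap F.d (s ^^^ s') * e := by
    rw [← hel, el, el, ← mul_assoc, ← kap_xor F.d (Nat.xor_lt_two_pow (n := 11) hl hl') hl', Nat.xor_assoc,
      Nat.xor_self, Nat.xor_zero]
  rw [this]
  exact mul_mem (c.fixB_le A hfix) he

theorem eEl_mem {x : ℕ} (hx : x < 4096) : F.eEl x ∈ E :=
  F.el_E (inW_iff.mpr ⟨x % 64, Nat.mod_lt _ (by norm_num), Or.inl rfl⟩) (esX_kc hx).2.2.2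

theorem eEl_z {x : ℕ} (hx : x < 4096) : F.eEl x * z = F.el (wsX x ^^^ zsC) (esX x) :=
  F.el_mul_z (esX_kc hx).2.1 (esX_kc hx).1 (F.es_facts (esX_kc hx).2.2.2).2.1

theorem eEl_zero : F.eEl 0 = 1 := by
  rw [eEl, wsX, esX, Nat.zero_mod, Nat.zero_div, wv_ok.2, elW_zero, F.el_one]

theorem exists_Cl {e : G} (he : e ∈ E) : ∃ x, F.Cl e x := by
  obtain ⟨s, hs, n, hn, rfl⟩ := F.E_form he
  obtain ⟨m, hm, h⟩ := inW_iff.mp hs
  have hx : m + 64 * n < 4096 := by omega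
  have e1 : wsX (m + 64 * n) = wv m := by rw [wsX, Nat.add_mul_mod_self_left, Nat.mod_eq_of_lt hm]
  have e2 : esX (m + 64 * n) = elW sxN n := by
    rw [esX, Nat.add_mul_div_left _ _ (by norm_num : 0 < 64), Nat.div_eq_of_lt hm, Nat.zero_add]
  refine ⟨m + 64 * n, hx, ?_⟩
  rcases h with rfl | rfl
  · exact Or.inl (by rw [eEl, e1, e2])
  · exact Or.inr (by rw [F.eEl_z hx, e1, e2])

theorem Cl.mem {e : G} {x : ℕ} (h : F.Cl e x) : e ∈ E := by
  obtain ⟨hx, rfl | rfl⟩ := h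
  · exact F.eEl_mem hx
  · exact mul_mem (F.eEl_mem hx) c.zE

theorem Cl.uniq {e : G} {x y : ℕ} (h : F.Cl e x) (h' : F.Cl e y) : x = y := by
  have key : ∀ {x : ℕ} {e : G}, F.Cl e x → ∃ s, (s = wsX x ∨ s = wsX x ^^^ zsC) ∧ s < 2048 ∧ e = F.el s (esX x) := by
    intro x e h
    obtain ⟨hx, h | h⟩ := h
    · exact ⟨_, Or.inl rfl, (esX_kc hx).2.1, h⟩
    · exact ⟨_, Or.inr rfl, Nat.xor_lt_two_pow (n := 11) (esX_kc hx).2.1 zs_ok.2.1, h.trans (F.eEl_z hx)⟩
  obtain ⟨s, hs, hsl, e1⟩ := key h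
  obtain ⟨t, ht, htl, e2⟩ := key h'
  obtain ⟨hx, -⟩ := h
  obtain ⟨hy, -⟩ := h'
  obtain ⟨rfl, hcode⟩ := F.el_inj hsl htl (esX_kc hx).1 (esX_kc hy).1 (e1.symm.trans e2)
  have hdiv : x / 64 = y / 64 := by
    have hn := (esX_kc hx).2.2.2
    have hm := (esX_kc hy).2.2.2
    obtain ⟨-, -, -, hmul⟩ := F.es_facts hn
    have hxy : x / 64 ^^^ y / 64 < 64 := Nat.xor_lt_two_pow (n := 6) hn hm
    have h1 : elW sxN (x / 64 ^^^ y / 64) = pid := by
      rw [← (hmul _ hm).1, show elW sxN (y / 64) = elW sxN (x / 64) from hcode.symm, (hmul _ hn).1, Nat.xor_self,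
        elW_zero]
    exact xor_left_inj' (a := y / 64) (by rw [Nat.xor_self, Nat.xor_comm]; exact (F.es_facts hxy).2.2.1 h1)
  have hmod : x % 64 = y % 64 := by
    refine (wv_pair (Nat.mod_lt _ (by norm_num)) (Nat.mod_lt _ (by norm_num))).2 ?_
    simp only [wsX] at hs ht
    rcases hs with rfl | rfl <;> rcases ht with e | e
    · exact Or.inl e
    · exact Or.inr e
    · right; rw [← e, Nat.xor_assoc, Nat.xor_self, Nat.xor_zero]
    · left
      exact xor_left_inj' (a := zsC) (by rw [Nat.xor_comm zsC, Nat.xor_comm zsC]; exact e)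
  rw [← Nat.div_add_mod x 64, ← Nat.div_add_mod y 64, hdiv, hmod]

theorem Cl.zmul {e : G} {x : ℕ} (h : F.Cl e x) : F.Cl (e * z) x := by
  obtain ⟨hx, h | h⟩ := h
  · exact ⟨hx, Or.inr (by rw [h])⟩
  · exact ⟨hx, Or.inl (by rw [h, mul_assoc, c.zz, mul_one])⟩

theorem Cl.mul {e f : G} {x y : ℕ} (h : F.Cl e x) (h' : F.Cl f y) : F.Cl (e * f) (x ^^^ y) := by
  have base : F.Cl (F.eEl x * F.eEl y) (x ^^^ y) := by
    obtain ⟨hx, -⟩ := h
    obtain ⟨hy, -⟩ := h'
    obtain ⟨kx, lx, -, dx⟩ := esX_kc hx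
    obtain ⟨ky, ly, -, dy⟩ := esX_kc hy
    have hxy : x ^^^ y < 4096 := Nat.xor_lt_two_pow (n := 12) hx hy
    have hmod := Nat.mod_lt y (show 0 < 64 by norm_num)
    have hmodx := Nat.mod_lt x (show 0 < 64 by norm_num)
    have hW : wsX (x ^^^ y) = wsX x ^^^ wsX y := by rw [wsX, xor_mod, (wv_pair hmodx hmod).1]; rfl
    have hE : esX (x ^^^ y) = pcomp (esX x) (esX y) := by rw [esX, xor_div, ← ((F.es_facts dx).2.2.2 _ dy).1]; rfl
    refine ⟨hxy, ?_⟩
    rw [eEl, eEl, F.el_mul lx ly kx ky]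
    rcases ((F.es_facts dx).2.2.2 _ hmod).2 with e | e
    · left; rw [eEl, hW, hE]; congr 1; rw [show esX x = elW sxN (x / 64) from rfl, wsX, wsX, e]
    · right; rw [F.eEl_z hxy, hW, hE]; congr 1; rw [show esX x = elW sxN (x / 64) from rfl, wsX, wsX, e, Nat.xor_assoc]
  obtain ⟨hx, h⟩ := h
  obtain ⟨hy, h'⟩ := h'
  have hc : ∀ a ∈ E, z * a = a * z := fun a ha => (mem_centralizer_singleton_iff.mp (c.Ez ha)).symm
  rcases h with rfl | rfl <;> rcases h' with rfl | rfl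
  · exact base
  · rw [← mul_assoc]; exact Cl.zmul F base
  · rw [mul_assoc, hc _ (F.eEl_mem hy), ← mul_assoc]; exact Cl.zmul F base
  · rw [show F.eEl x * z * (F.eEl y * z) = F.eEl x * (z * F.eEl y) * z by group, hc _ (F.eEl_mem hy), ← mul_assoc]
    exact Cl.zmul F (Cl.zmul F base)

theorem Cl.one : F.Cl 1 0 := ⟨by norm_num, Or.inl F.eEl_zero.symm⟩

theorem Cl.zc : F.Cl z 0 := ⟨by norm_num, Or.inr (by rw [F.eEl_zero, one_mul])⟩

theorem Cl.zero_iff {e : G} {x : ℕ} (h : F.Cl e x) : x = 0 ↔ e ∈ zpowers z := by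
  constructor
  · rintro rfl
    obtain ⟨-, rfl | rfl⟩ := h
    · rw [F.eEl_zero]; exact one_mem _
    · rw [F.eEl_zero, one_mul]; exact mem_zpowers _
  · intro hz
    rcases c.mem_Z.mp hz with rfl | rfl
    · exact Cl.uniq F h (Cl.one F)
    · exact Cl.uniq F h (Cl.zc F)

theorem Cl.sq {e : G} {x : ℕ} (h : F.Cl e x) : e * e = 1 ↔ sqZ x = false := by
  obtain ⟨hx, h⟩ := h
  obtain ⟨kx, lx, -, dx⟩ := esX_kc hx
  have hpp : pcomp (esX x) (esX x) = pid := by
    rw [esX, ((F.es_facts dx).2.2.2 _ dx).1, Nat.xor_self, elW_zero]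
  have key : F.eEl x * F.eEl x = 1 ↔ sqZ x = false := by
    rw [eEl, F.el_sq lx kx, sqZ, Bool.not_eq_false', Nat.beq_eq, F.amul_eq kx lx]
    exact and_iff_right hpp
  rcases h with rfl | rfl
  · exact key
  · rw [show F.eEl x * z * (F.eEl x * z) = F.eEl x * (z * F.eEl x) * z by group,
      ← mem_centralizer_singleton_iff.mp (c.Ez (F.eEl_mem hx)), ← mul_assoc, mul_assoc, c.zz, mul_one]
    exact key

theorem Cl.inv {e : G} {x : ℕ} (h : F.Cl e x) : F.Cl e⁻¹ x := by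
  obtain ⟨y, hy⟩ := F.exists_Cl (inv_mem (Cl.mem F h))
  have := Cl.mul F h hy
  rw [mul_inv_cancel] at this
  have h0 := Cl.uniq F this (Cl.one F)
  have hxy : y = x := xor_left_inj' (a := x) (by rw [Nat.xor_self]; exact h0)
  rwa [hxy] at hy

theorem Cl.commute {e f : G} {x y : ℕ} (h : F.Cl e x) (h' : F.Cl f y) :
    e * f = f * e ↔ (Bool.xor (Bool.xor (sqZ x) (sqZ y)) (sqZ (x ^^^ y))) = false := by
  have hc : ∀ a ∈ E, z * a = a * z := fun a ha => (mem_centralizer_singleton_iff.mp (c.Ez ha)).symm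
  have hsq : ∀ {a : G} {u : ℕ}, F.Cl a u → a * a = if sqZ u then z else 1 := by
    intro a u ha
    by_cases hu : sqZ u = true
    · rw [if_pos hu]
      have h1 : a * a ≠ 1 := fun e => by rw [(Cl.sq F ha).mp e] at hu; simp at hu
      exact (c.mem_Z.mp ((Cl.zero_iff F (Cl.mul F ha ha)).mp (Nat.xor_self u))).resolve_left h1
    · rw [if_neg hu]; exact (Cl.sq F ha).mpr (Bool.eq_false_iff.mpr hu)
  have h3 := Cl.mul F h h'
  have e1 : e * f = f * e ↔ e * f * (e * f) = e * e * (f * f) := by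
    constructor
    · intro hh
      rw [show e * f * (e * f) = e * (f * e) * f by group, ← hh]; group
    · intro hh
      have := congrArg (fun g => e⁻¹ * g * f⁻¹) hh
      simp only [show e⁻¹ * (e * f * (e * f)) * f⁻¹ = f * e by group,
        show e⁻¹ * (e * e * (f * f)) * f⁻¹ = e * f by group] at this
      exact this.symm
  rw [e1, hsq h3, hsq h, hsq h']
  cases sqZ x <;> cases sqZ y <;> cases sqZ (x ^^^ y) <;> simp [c.zz, c.z_ne_one, c.z_ne_one.symm]

end Frame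

end CfsgLib.J4Order
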