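/-
Matrices of twelve bits by twelve bits in one number.
-/
import Cfsg.Agent.Lib.J4Order.Code

set_option autoImplicit false

namespace CfsgLib.J4Order

/-- Image of a word, columns first. -/
def mAppR : ℕ → ℕ → ℕ → ℕ
  | 0, _, _ => 0
  | n + 1, M, x => cond (Nat.beq (x % 2) 1) (Nat.xor (M % 4096) (mAppR n (M / 4096) (x / 2)))
      (mAppR n (M / 4096) (x / 2))

/-- Image of a word. -/
def mApp (M x : ℕ) : ℕ := mAppR 12 M x

/-- Columns of a function. -/
def mkR : ℕ → (ℕ → ℕ) → ℕ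
  | 0, _ => 0
  | n + 1, f => f 1 + 4096 * mkR n (fun x => f (2 * x))

/-- Product of two matrices. -/
def mMulR (A : ℕ) : ℕ → ℕ → ℕ
  | 0, _ => 0
  | n + 1, B => mApp A (B % 4096) + 4096 * mMulR A n (B / 4096)

/-- Product of two matrices. -/
def mMul (A B : ℕ) : ℕ := mMulR A 12 B

/-- The identity matrix. -/
def mId : ℕ := mkR 12 (fun x => x)

theorem mAppR_lt : ∀ n M x, mAppR n M x < 4096
  | 0, _, _ => by simp [mAppR]
  | n + 1, M, x => by
    rw [mAppR]
    cases Nat.beq (x % 2) 1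
    · exact mAppR_lt n _ _
    · exact Nat.xor_lt_two_pow (n := 12) (Nat.mod_lt _ (by norm_num)) (mAppR_lt n _ _)

theorem mApp_lt (M x : ℕ) : mApp M x < 4096 := mAppR_lt 12 M x

theorem xor_half {x y : ℕ} : (x ^^^ y) / 2 = x / 2 ^^^ y / 2 := by
  have h : ∀ a : ℕ, a / 2 = a >>> 1 := fun a => by rw [Nat.shiftRight_eq_div_pow, pow_one]
  rw [h, h, h, Nat.shiftRight_xor_distrib]

theorem mAppR_xor : ∀ n M x y, mAppR n M (x ^^^ y) = mAppR n M x ^^^ mAppR n M y
  | 0, _, _, _ => by simp [mAppR]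
  | n + 1, M, x, y => by
    have hm : (x ^^^ y) % 2 = x % 2 ^^^ y % 2 := Nat.xor_mod_two_pow (n := 1)
    rw [mAppR, mAppR, mAppR, hm, xor_half, mAppR_xor n]
    set r := mAppR n (M / 4096) (x / 2)
    set s := mAppR n (M / 4096) (y / 2)
    set m := M % 4096
    rcases Nat.mod_two_eq_zero_or_one x with hx | hx <;> rcases Nat.mod_two_eq_zero_or_one y with hy | hy <;>
      rw [hx, hy]
    · rfl
    · show m ^^^ (r ^^^ s) = r ^^^ (m ^^^ s)
      rw [← Nat.xor_assoc, Nat.xor_comm m, Nat.xor_assoc]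
    · show m ^^^ (r ^^^ s) = (m ^^^ r) ^^^ s
      rw [Nat.xor_assoc]
    · show r ^^^ s = (m ^^^ r) ^^^ (m ^^^ s)
      rw [Nat.xor_comm m r, Nat.xor_assoc, ← Nat.xor_assoc m, Nat.xor_self, Nat.zero_xor]

theorem mApp_xor (M x y : ℕ) : mApp M (x ^^^ y) = mApp M x ^^^ mApp M y := mAppR_xor 12 M x y

theorem mAppR_zero : ∀ n M, mAppR n M 0 = 0
  | 0, _ => rfl
  | n + 1, M => by rw [mAppR, Nat.zero_div, mAppR_zero n]; rfl

theorem mApp_zero (M : ℕ) : mApp M 0 = 0 := mAppR_zero 12 M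

theorem mkR_app : ∀ n (f : ℕ → ℕ), (∀ x y, x < 2 ^ n → y < 2 ^ n → f (x ^^^ y) = f x ^^^ f y) →
    (∀ x, x < 2 ^ n → f x < 4096) → ∀ x, x < 2 ^ n → mAppR n (mkR n f) x = f x
  | 0, f, hf, _, x, hx => by
    simp at hx
    subst hx
    have h := hf 0 0 (by norm_num) (by norm_num)
    rw [Nat.xor_self, Nat.xor_self] at h
    simp [mAppR, h]
  | n + 1, f, hf, hl, x, hx => by
    have h1 : f 1 < 4096 := hl 1 (by rw [pow_succ]; have := Nat.one_le_two_pow (n := n); omega)
    have hp : 2 ^ (n + 1) = 2 * 2 ^ n := by rw [pow_succ]; ring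
    have hM : mkR (n + 1) f % 4096 = f 1 ∧ mkR (n + 1) f / 4096 = mkR n (fun x => f (2 * x)) := by
      rw [mkR]; omega
    have hh : x / 2 < 2 ^ n := by omega
    have ih := mkR_app n (fun x => f (2 * x)) (fun a b ha hb => by
      show f (2 * (a ^^^ b)) = f (2 * a) ^^^ f (2 * b)
      rw [← hf (2 * a) (2 * b) (by omega) (by omega)]
      congr 1
      have h := (Nat.shiftLeft_xor_distrib : (a ^^^ b) <<< 1 = a <<< 1 ^^^ b <<< 1)
      simpa [Nat.shiftLeft_eq, mul_comm] using h) (fun a ha => hl _ (by omega)) (x / 2) hh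
    rw [mAppR, hM.1, hM.2, ih]
    rcases Nat.mod_two_eq_zero_or_one x with hx2 | hx2 <;> rw [hx2]
    · show f (2 * (x / 2)) = f x
      congr 1; omega
    · show f 1 ^^^ f (2 * (x / 2)) = f x
      have hx' : 2 * (x / 2) + 1 = x := by omega
      rw [← hf 1 _ (by rw [hp]; have := Nat.one_le_two_pow (n := n); omega) (by omega)]
      congr 1
      rw [Nat.xor_comm]
      have e : 2 * (x / 2) ^^^ 1 = 2 * (x / 2) + 1 := by
        refine Nat.eq_of_testBit_eq fun i => ?_
        cases i with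
        | zero => simp [Nat.testBit_xor, Nat.testBit_zero]
        | succ i => simp [Nat.testBit_xor, Nat.testBit_succ, Nat.mul_add_div]
      rw [e, hx']

theorem mkR_lt : ∀ n (f : ℕ → ℕ), (∀ x, x < 2 ^ n → f x < 4096) → mkR n f < 2 ^ (12 * n)
  | 0, _, _ => by simp [mkR]
  | n + 1, f, hl => by
    have h1 : f 1 < 4096 := hl 1 (by rw [pow_succ]; have := Nat.one_le_two_pow (n := n); omega)
    have h2 := mkR_lt n (fun x => f (2 * x)) (fun x hx => hl _ (by rw [pow_succ]; omega))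
    rw [mkR, show 12 * (n + 1) = 12 * n + 12 by ring, pow_add, show 2 ^ 12 = 4096 from rfl]
    omega

theorem mMulR_app (A : ℕ) : ∀ n B x, mAppR n (mMulR A n B) x = mApp A (mAppR n B x)
  | 0, _, _ => by rw [mAppR, mAppR, mApp_zero]
  | n + 1, B, x => by
    have h1 := mApp_lt A (B % 4096)
    have hM : mMulR A (n + 1) B % 4096 = mApp A (B % 4096) ∧ mMulR A (n + 1) B / 4096 = mMulR A n (B / 4096) := by
      rw [mMulR]; omega
    rw [mAppR, mAppR, hM.1, hM.2, mMulR_app A n]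
    cases Nat.beq (x % 2) 1
    · rfl
    · exact (mApp_xor A _ _).symm

theorem mMul_app (A B x : ℕ) : mApp (mMul A B) x = mApp A (mApp B x) := mMulR_app A 12 B x

theorem mMulR_lt (A : ℕ) : ∀ n B, mMulR A n B < 2 ^ (12 * n)
  | 0, _ => by simp [mMulR]
  | n + 1, B => by
    have h1 := mApp_lt A (B % 4096)
    have h2 := mMulR_lt A n (B / 4096)
    rw [mMulR, show 12 * (n + 1) = 12 * n + 12 by ring, pow_add, show 2 ^ 12 = 4096 from rfl]
    omega

theorem mMul_lt (A B : ℕ) : mMul A B < 2 ^ 144 := mMulR_lt A 12 B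

theorem mAppR_ext : ∀ n M N, M < 2 ^ (12 * n) → N < 2 ^ (12 * n) →
    (∀ x, x < 2 ^ n → mAppR n M x = mAppR n N x) → M = N
  | 0, M, N, hM, hN, _ => by simp at hM hN; omega
  | n + 1, M, N, hM, hN, h => by
    rw [show 12 * (n + 1) = 12 * n + 12 by ring, pow_add, show 2 ^ 12 = 4096 from rfl] at hM hN
    have h1 := h 1 (by rw [pow_succ]; have := Nat.one_le_two_pow (n := n); omega)
    simp only [mAppR, show 1 % 2 = 1 from rfl, Nat.beq_refl, cond_true, show 1 / 2 = 0 from rfl, mAppR_zero] at h1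
    rw [show Nat.xor (M % 4096) 0 = M % 4096 from Nat.xor_zero _,
      show Nat.xor (N % 4096) 0 = N % 4096 from Nat.xor_zero _] at h1
    have h2 := mAppR_ext n (M / 4096) (N / 4096) (by omega) (by omega) fun x hx => by
      have h3 := h (2 * x) (by rw [pow_succ]; omega)
      simpa [mAppR, Nat.mul_mod_right, Nat.mul_div_cancel_left, show Nat.beq 0 1 = false from rfl] using h3
    omega

theorem mApp_ext {M N : ℕ} (hM : M < 2 ^ 144) (hN : N < 2 ^ 144) (h : ∀ x, x < 4096 → mApp M x = mApp N x) :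
    M = N :=
  mAppR_ext 12 M N hM hN h

theorem mId_app {x : ℕ} (hx : x < 4096) : mApp mId x = x :=
  mkR_app 12 (fun x => x) (fun _ _ _ _ => rfl) (fun _ h => h) x hx

end CfsgLib.J4Order
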