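/-
The action of the normalizer of P in the centralizer of z on E modulo the centre.
-/
import Cfsg.Agent.Lib.J4Order.EModel
import Cfsg.Agent.Lib.J4Order.MatCode

set_option autoImplicit false

namespace CfsgLib.J4Order

open Cfsg Subgroup CfsgGolay CfsgLib.JankoFour

attribute [local irreducible] codeL octadL dodecadL slpCodes pcomp pmask cls inR rMask inW elW isPair colC fixedMask actC sqZ

/-- The basis words. -/
def bW : List ℕ := (List.range 12).map fun i => 2 ^ i

/-- The words dual to the basis under commutation. -/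
def duW : List ℕ := [2304, 3200, 3776, 2688, 1664, 2176, 4, 62, 1, 28, 22, 47]

/-- The commutation of two words. -/
def fW (x y : ℕ) : Bool := Bool.xor (Bool.xor (sqZ x) (sqZ y)) (sqZ (x ^^^ y))

/-- The matrix of the generator of P. -/
def pM : ℕ := 5579269937306524790249155688952405967458333

theorem basis_ok : ((List.range 4096).all fun x => Nat.beq (xorCols bW x) x) = true := by decide +kernel

theorem duals_ok : ((List.range 12).all fun i => (List.range 12).all fun j =>
    Nat.blt (duW.getD i 0) 4096 && fW (duW.getD i 0) (2 ^ j) == Nat.beq i j) = true ∧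
    Nat.beq (mMul pM pM) pM = false ∧ pM < 2 ^ 144 := by decide +kernel

/-- A pair (v, a) acts on one basis word as the matrix says. -/
def colOK (v a M j : ℕ) : Bool :=
  Nat.beq (pcomp a (esX (2 ^ j))) (pcomp (esX (mApp M (2 ^ j))) a) &&
    (Nat.beq (Nat.xor v (amul (colC a) (wsX (2 ^ j)))) (Nat.xor (wsX (mApp M (2 ^ j))) (amul (colC (esX (mApp M (2 ^ j)))) v)) ||
      Nat.beq (Nat.xor v (amul (colC a) (wsX (2 ^ j))))
        (Nat.xor (Nat.xor (wsX (mApp M (2 ^ j))) (amul (colC (esX (mApp M (2 ^ j)))) v)) zsC))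

/-- A pair (v, a) lies in the normalizer of P and the centralizer of z and acts by the matrix. -/
def nOK (v a M : ℕ) : Bool :=
  kcB a && Nat.blt v 2048 && Nat.blt M (2 ^ 144) && Nat.beq (amul (colC a) zsC) zsC &&
    ((Nat.beq (amul (colC k3C) v) v && Nat.beq (pcomp a k3C) (pcomp k3C a)) ||
      (Nat.beq (amul (colC (pcomp k3C k3C)) v) v && Nat.beq (pcomp a k3C) (pcomp (pcomp k3C k3C) a))) &&
    (List.range 12).all (colOK v a M)

universe u

variable {G : Type u} [Group G] [Finite G] {z : G} {P E : Subgroup G} {c : Ctx z P E} {A : Subgroup MTwoTwo}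
variable {o : c.Orb A} (F : Frame o)

namespace Frame

/-- The normalizer of P in the centralizer of z. -/
def NP (_F : Frame o) : Subgroup G := centralizer ({z} : Set G) ⊓ normalizer (P : Set G)

/-- The element acts on E modulo the centre by the matrix. -/
def IsMat (n : G) (M : ℕ) : Prop := M < 2 ^ 144 ∧ ∀ e x, F.Cl e x → F.Cl (n * e * n⁻¹) (mApp M x)

/-- The matrix occurs in the normalizer of P. -/
def InM (M : ℕ) : Prop := ∃ n ∈ F.NP, F.IsMat n M

theorem isMat_mul {m n : G} {M N : ℕ} (h : F.IsMat m M) (h' : F.IsMat n N) : F.IsMat (m * n) (mMul M N) :=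
  ⟨mMul_lt M N, fun e x hx => by
    rw [mMul_app, show m * n * e * (m * n)⁻¹ = m * (n * e * n⁻¹) * m⁻¹ by group]
    exact h.2 _ _ (h'.2 e x hx)⟩

theorem isMat_uniq {n : G} {M N : ℕ} (h : F.IsMat n M) (h' : F.IsMat n N) : M = N :=
  mApp_ext h.1 h'.1 fun x hx =>
    Cl.uniq F (h.2 _ _ ⟨hx, Or.inl rfl⟩) (h'.2 _ _ ⟨hx, Or.inl rfl⟩)

theorem isMat_one : F.IsMat 1 mId :=
  ⟨mkR_lt 12 _ fun _ h => h, fun e x hx => by rw [mId_app hx.1]; simpa using hx⟩

theorem exists_mat {n : G} (hn : n ∈ centralizer ({z} : Set G)) : ∃ M, F.IsMat n M := by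
  classical
  have hmem : ∀ e ∈ E, n * e * n⁻¹ ∈ E := fun e he => c.conj_E hn he
  choose f hf using fun x : Fin 4096 => F.exists_Cl (hmem _ (F.eEl_mem x.2))
  let g : ℕ → ℕ := fun x => if h : x < 4096 then f ⟨x, h⟩ else 0
  have hg : ∀ x, x < 4096 → F.Cl (n * F.eEl x * n⁻¹) (g x) := fun x hx => by
    simp only [g, dif_pos hx]; exact hf ⟨x, hx⟩
  have hzc : n * z * n⁻¹ = z := by rw [mem_centralizer_singleton_iff.mp hn, mul_inv_cancel_right]
  have hgen : ∀ e x, F.Cl e x → F.Cl (n * e * n⁻¹) (g x) := by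
    rintro e x ⟨hx, rfl | rfl⟩
    · exact hg x hx
    · rw [show n * (F.eEl x * z) * n⁻¹ = n * F.eEl x * n⁻¹ * (n * z * n⁻¹) by group, hzc]
      exact Cl.zmul F (hg x hx)
  have hlt : ∀ x, x < 2 ^ 12 → g x < 4096 := fun x hx => (hg x hx).1
  have hlin : ∀ x y, x < 2 ^ 12 → y < 2 ^ 12 → g (x ^^^ y) = g x ^^^ g y := by
    intro x y hx hy
    have h1 := hgen _ _ (Cl.mul F (show F.Cl (F.eEl x) x from ⟨hx, Or.inl rfl⟩) (show F.Cl (F.eEl y) y from ⟨hy, Or.inl rfl⟩))
    have h2 := Cl.mul F (hg x hx) (hg y hy)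
    rw [show n * F.eEl x * n⁻¹ * (n * F.eEl y * n⁻¹) = n * (F.eEl x * F.eEl y) * n⁻¹ by group] at h2
    exact Cl.uniq F h1 h2
  refine ⟨mkR 12 g, mkR_lt 12 g hlt, fun e x hx => ?_⟩
  rw [show mApp (mkR 12 g) x = g x from mkR_app 12 g hlin hlt x hx.1]
  exact hgen e x hx

theorem InM.mul {M N : ℕ} (h : F.InM M) (h' : F.InM N) : F.InM (mMul M N) := by
  obtain ⟨m, hm, hM⟩ := h
  obtain ⟨n, hn, hN⟩ := h'
  exact ⟨m * n, mul_mem hm hn, F.isMat_mul hM hN⟩

theorem InM.one : F.InM mId := ⟨1, one_mem _, F.isMat_one⟩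

theorem cl_of_basis {S : Subgroup G} (hS : ∀ i < 12, F.eEl (2 ^ i) ∈ S) :
    ∀ (l : List ℕ), (∀ y ∈ l, y ∈ bW) → ∀ u, ∃ a ∈ S, F.Cl a (xorCols l u)
  | [], _, u => ⟨1, one_mem _, by rw [xorCols]; exact Cl.one F⟩
  | y :: l, hl, u => by
    obtain ⟨a, ha, hA⟩ := cl_of_basis hS l (fun x hx => hl x (List.mem_cons_of_mem _ hx)) (u / 2)
    obtain ⟨i, hi, rfl⟩ := List.mem_map.mp (hl y List.mem_cons_self)
    rw [List.mem_range] at hi
    rw [xorCols]
    by_cases h : u % 2 = 1
    · rw [if_pos h]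
      refine ⟨F.eEl (2 ^ i) * a, mul_mem (hS i hi) ha, Cl.mul F ⟨?_, Or.inl rfl⟩ hA⟩
      exact lt_of_lt_of_le (Nat.pow_lt_pow_right (by norm_num) hi) (by norm_num)
    · rw [if_neg h, Nat.zero_xor]
      exact ⟨a, ha, hA⟩

theorem exists_basis {S : Subgroup G} (hS : ∀ i < 12, F.eEl (2 ^ i) ∈ S) {x : ℕ} (hx : x < 4096) :
    ∃ a ∈ S, F.Cl a x := by
  have := F.cl_of_basis hS bW (fun _ h => h) x
  rwa [Nat.eq_of_beq_eq_true (List.all_eq_true.mp basis_ok x (List.mem_range.mpr hx))] at this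

theorem E_of_basis {S : Subgroup G} (hS : ∀ i < 12, F.eEl (2 ^ i) ∈ S) (hz : z ∈ S) {e : G} (he : e ∈ E) : e ∈ S := by
  obtain ⟨x, hx⟩ := F.exists_Cl he
  obtain ⟨a, ha, hA⟩ := F.exists_basis hS hx.1
  have h0 : a⁻¹ * e ∈ zpowers z := by
    have := Cl.mul F (Cl.inv F hA) hx
    rw [Nat.xor_self] at this
    exact (Cl.zero_iff F this).mp rfl
  have := mul_mem ha (zpowers_le.mpr hz h0)
  rwa [mul_inv_cancel_left] at this

/-- The element read off from a check. -/
theorem nOK_spec {p : G} (hp : F.el 0 k3C = p) (hgen : P = zpowers p) {v a M : ℕ} (h : nOK v a M = true) :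
    F.el v a ∈ F.NP ∧ F.IsMat (F.el v a) M := by
  simp only [nOK, Bool.and_eq_true, Nat.blt_eq, Bool.or_eq_true, Nat.beq_eq] at h
  obtain ⟨⟨⟨⟨⟨hk, hv⟩, hM⟩, hz⟩, hP⟩, hcols⟩ := h
  have ka := kc_of_check hk
  have kk := kc_of_check k3_ok.1
  have kkk := kk.comp kk
  rw [F.amul_eq ka zs_ok.2.1] at hz
  rw [F.amul_eq kk hv, F.amul_eq kkk hv] at hP
  have hzc : F.el v a ∈ centralizer ({z} : Set G) := by
    rw [mem_centralizer_singleton_iff, F.el_mul_z hv ka hz]
    have := F.el_mul zs_ok.2.1 hv kc_pid ka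
    rw [F.el_pid, F.hz, F.actC_pid hv] at this
    rw [this, Nat.xor_comm]
    congr 1
    exact (pg_inj (kc_pid.comp ka) ka (by rw [pg_mul kc_pid ka, pg_pid, one_mul])).symm
  have hzero : ∀ {b}, Kc b → ∀ b', Kc b' → pcomp a b = pcomp b' a → actC b' v = v →
      F.el v a * F.el 0 b * (F.el v a)⁻¹ = F.el 0 b' := by
    intro b hb b' hb' e hf
    rw [mul_inv_eq_iff_eq_mul, F.el_mul hv (by norm_num) ka hb, F.el_mul (by norm_num) hv hb' ka, F.actC_zero ka,
      hf, Nat.xor_zero, Nat.zero_xor, e]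
  have hpp : F.el 0 (pcomp k3C k3C) = p * p := by
    rw [← hp, F.el_mul (by norm_num) (by norm_num) kk kk, F.actC_zero kk, Nat.xor_zero]
  have hconj : F.el v a * p * (F.el v a)⁻¹ = p ∨ F.el v a * p * (F.el v a)⁻¹ = p * p := by
    rcases hP with ⟨e1, e2⟩ | ⟨e1, e2⟩
    · left; rw [← hp]; exact hzero kk k3C kk e2 e1
    · right; rw [← hp, hzero kk _ kkk e2 e1, hpp, hp]
  refine ⟨⟨hzc, ?_⟩, hM, ?_⟩
  · haveI : Finite P := inferInstance
    refine mem_norm_of fun q hq => ?_
    refine hgen.ge ?_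
    obtain ⟨i, rfl⟩ := mem_zpowers_iff.mp (hgen.le hq)
    rw [← conj_zpow]
    rcases hconj with e | e <;> rw [e]
    · exact zpow_mem (mem_zpowers _) _
    · exact zpow_mem (mul_mem (mem_zpowers _) (mem_zpowers _)) _
  · have key : ∀ j, j < 12 → F.Cl (F.el v a * F.eEl (2 ^ j) * (F.el v a)⁻¹) (mApp M (2 ^ j)) := by
      intro j hj
      have hjl : 2 ^ j < 4096 := lt_of_lt_of_le (Nat.pow_lt_pow_right (by norm_num) hj) (by norm_num)
      obtain ⟨kj, lj, -, -⟩ := esX_kc hjl
      set y := mApp M (2 ^ j) with hy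
      have hyl : y < 4096 := mApp_lt _ _
      obtain ⟨ky, ly, -, dy⟩ := esX_kc hyl
      have hc := List.all_eq_true.mp hcols j (List.mem_range.mpr hj)
      simp only [colOK, Bool.and_eq_true, Bool.or_eq_true, Nat.beq_eq, ← hy] at hc
      obtain ⟨hcode, hs⟩ := hc
      rw [F.amul_eq ka lj, F.amul_eq ky hv] at hs
      have hR := F.el_mul ly hv ky ka
      refine ⟨hyl, ?_⟩
      rcases hs with hs | hs
      · left
        rw [mul_inv_eq_iff_eq_mul, eEl, eEl, F.el_mul hv lj ka kj, hR, hcode]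
        exact congrArg (fun s => F.el s _) hs
      · right
        rw [mul_inv_eq_iff_eq_mul, mul_assoc, ← mem_centralizer_singleton_iff.mp hzc, ← mul_assoc, eEl, eEl,
          F.el_mul hv lj ka kj, hR, hcode,
          F.el_mul_z (Nat.xor_lt_two_pow (n := 11) ly (F.actC_lt ky hv)) (ky.comp ka) (by
            rw [F.actC_comp ky ka zs_ok.2.1, hz, show esX y = elW sxN (y / 64) from rfl, (F.es_facts dy).2.1])]
        exact congrArg (fun s => F.el s _) hs
    obtain ⟨M', hM'⟩ := F.exists_mat hzc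
    intro e x hx
    have : ∀ j < 12, mApp M (2 ^ j) = mApp M' (2 ^ j) := fun j hj => Cl.uniq F (key j hj)
      (hM'.2 _ _ ⟨lt_of_lt_of_le (Nat.pow_lt_pow_right (by norm_num) hj) (by norm_num), Or.inl rfl⟩)
    have hall : ∀ l : List ℕ, (∀ y ∈ l, y ∈ bW) → ∀ u, mApp M (xorCols l u) = mApp M' (xorCols l u) := by
      intro l
      induction l with
      | nil => intro _ u; rw [xorCols, mApp_zero, mApp_zero]
      | cons y l ih =>
        intro hl u
        rw [xorCols, mApp_xor, mApp_xor, ih (fun w hw => hl w (List.mem_cons_of_mem _ hw))]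
        obtain ⟨i, hi, rfl⟩ := List.mem_map.mp (hl y List.mem_cons_self)
        split_ifs
        · rw [this i (List.mem_range.mp hi)]
        · rw [mApp_zero, mApp_zero]
    have := hall bW (fun _ h => h) x
    rw [Nat.eq_of_beq_eq_true (List.all_eq_true.mp basis_ok x (List.mem_range.mpr hx.1))] at this
    rw [this]
    exact hM'.2 e x hx

/-- Elements acting trivially lie in the centre of E. -/
theorem faithful {p : G} (hgen : P = zpowers p) (hpM : F.IsMat p pM) {n : G} (hn : n ∈ F.NP) (h : F.IsMat n mId) :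
    n ∈ zpowers z := by
  classical
  have hzn : n * z * n⁻¹ = z := by rw [mem_centralizer_singleton_iff.mp hn.1, mul_inv_cancel_right]
  have hpP : p ∈ P := hgen ▸ mem_zpowers p
  have hp1 : p ≠ 1 := fun e => by
    have := c.hP; rw [hgen, e, zpowers_one_eq_bot, Subgroup.card_bot] at this; norm_num at this
  have hp3 : p ^ 3 = 1 := by
    have := pow_card_eq_one' (x := (⟨p, hpP⟩ : P))
    rw [c.hP] at this
    exact congrArg Subtype.val this
  have hnp : n * p = p * n := by
    by_contra hne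
    have hinv := conj_inv_of_card_three c.hP hn.2 hpP hne hpP
    rw [show p⁻¹ = p * p from inv_eq_of_mul_eq_one_right (by rw [← mul_assoc, ← pow_three']; exact hp3)] at hinv
    have hninv : F.IsMat n⁻¹ mId := ⟨F.isMat_one.1, fun e x hx => by
      obtain ⟨y, hy⟩ := F.exists_Cl (c.conj_E (inv_mem hn.1) (Cl.mem F hx))
      have h2 := h.2 _ _ hy
      rw [mId_app hy.1, show n * (n⁻¹ * e * n⁻¹⁻¹) * n⁻¹ = e by group] at h2
      rw [mId_app hx.1, Cl.uniq F hx h2]; exact hy⟩
    have h1 := F.isMat_mul (F.isMat_mul h hpM) hninv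
    rw [hinv] at h1
    have := F.isMat_uniq h1 (F.isMat_mul hpM hpM)
    have e : mMul (mMul mId pM) mId = pM := mApp_ext (mMul_lt _ _) duals_ok.2.2 fun x hx => by
      rw [mMul_app, mMul_app, mId_app hx, mId_app (mApp_lt _ _)]
    rw [e] at this
    have hb := duals_ok.2.1
    rw [← this, Nat.beq_refl] at hb
    simp at hb
  -- n moves the basis by central elements
  have hd : ∀ i < 12, n * F.eEl (2 ^ i) * n⁻¹ = F.eEl (2 ^ i) ∨ n * F.eEl (2 ^ i) * n⁻¹ = F.eEl (2 ^ i) * z := by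
    intro i hi
    have hil : 2 ^ i < 4096 := lt_of_lt_of_le (Nat.pow_lt_pow_right (by norm_num) hi) (by norm_num)
    have := h.2 _ _ (show F.Cl (F.eEl (2 ^ i)) (2 ^ i) from ⟨hil, Or.inl rfl⟩)
    rw [mId_app hil] at this
    exact this.2
  let t : ℕ → Bool := fun i => decide (n * F.eEl (2 ^ i) * n⁻¹ ≠ F.eEl (2 ^ i))
  have hlist : ∀ l : List ℕ, l.Nodup → (∀ i ∈ l, i < 12) → ∃ a ∈ E, ∀ j < 12,
      a * F.eEl (2 ^ j) * a⁻¹ = if j ∈ l then F.eEl (2 ^ j) * z else F.eEl (2 ^ j) := by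
    intro l
    induction l with
    | nil => intro _ _; exact ⟨1, one_mem _, fun j _ => by simp⟩
    | cons i l ih =>
      intro hnd hl
      rw [List.nodup_cons] at hnd
      obtain ⟨a, ha, hA⟩ := ih hnd.2 fun w hw => hl w (List.mem_cons_of_mem _ hw)
      have hi := hl i List.mem_cons_self
      set d := duW.getD i 0
      have hdl : d < 4096 := by
        have := List.all_eq_true.mp (List.all_eq_true.mp duals_ok.1 i (List.mem_range.mpr hi)) 0 (List.mem_range.mpr (by norm_num))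
        rw [Bool.and_eq_true, Nat.blt_eq] at this
        exact this.1
      have hD : F.Cl (F.eEl d) d := ⟨hdl, Or.inl rfl⟩
      refine ⟨F.eEl d * a, mul_mem (F.eEl_mem hdl) ha, fun j hj => ?_⟩
      have hjl : 2 ^ j < 4096 := lt_of_lt_of_le (Nat.pow_lt_pow_right (by norm_num) hj) (by norm_num)
      have hJ : F.Cl (F.eEl (2 ^ j)) (2 ^ j) := ⟨hjl, Or.inl rfl⟩
      have hf := List.all_eq_true.mp (List.all_eq_true.mp duals_ok.1 i (List.mem_range.mpr hi)) j (List.mem_range.mpr hj)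
      rw [Bool.and_eq_true, beq_iff_eq] at hf
      have hcomm := Cl.commute F hD hJ
      have hdz : F.eEl d * z * (F.eEl d)⁻¹ = z := by
        rw [mem_centralizer_singleton_iff.mp (c.Ez (F.eEl_mem hdl)), mul_inv_cancel_right]
      rw [show F.eEl d * a * F.eEl (2 ^ j) * (F.eEl d * a)⁻¹ = F.eEl d * (a * F.eEl (2 ^ j) * a⁻¹) * (F.eEl d)⁻¹ by group,
        hA j hj]
      by_cases hij : i = j
      · subst hij
        have hne : F.eEl d * F.eEl (2 ^ i) * (F.eEl d)⁻¹ = F.eEl (2 ^ i) * z := by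
          have h1 : F.Cl (F.eEl d * F.eEl (2 ^ i) * (F.eEl d)⁻¹) (2 ^ i) := by
            have := Cl.mul F (Cl.mul F hD hJ) (Cl.inv F hD)
            rwa [Nat.xor_comm d, Nat.xor_assoc, Nat.xor_self, Nat.xor_zero] at this
          refine h1.2.resolve_left fun e => ?_
          rw [mul_inv_eq_iff_eq_mul] at e
          have := hcomm.mp e
          have h2 := hf.2
          simp only [fW] at h2
          rw [this, Nat.beq_refl] at h2
          simp at h2
        rw [if_neg hnd.1, if_pos List.mem_cons_self, hne]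
      · have hcj : F.eEl d * F.eEl (2 ^ j) * (F.eEl d)⁻¹ = F.eEl (2 ^ j) := by
          rw [mul_inv_eq_iff_eq_mul]
          refine hcomm.mpr ?_
          have h2 := hf.2
          rw [show Nat.beq i j = false from Bool.eq_false_iff.mpr fun e => hij (Nat.eq_of_beq_eq_true e)] at h2
          exact h2
        simp only [List.mem_cons, Ne.symm hij, false_or]
        split_ifs
        · rw [show F.eEl d * (F.eEl (2 ^ j) * z) * (F.eEl d)⁻¹ =
            F.eEl d * F.eEl (2 ^ j) * (F.eEl d)⁻¹ * (F.eEl d * z * (F.eEl d)⁻¹) by group, hcj, hdz]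
        · exact hcj
  obtain ⟨a, ha, hA⟩ := hlist ((List.range 12).filter t) (List.nodup_range.filter _) fun i hi =>
    List.mem_range.mp (List.mem_filter.mp hi).1
  have hS : ∀ i < 12, F.eEl (2 ^ i) ∈ centralizer ({a⁻¹ * n} : Set G) := by
    intro i hi
    rw [mem_centralizer_singleton_iff]
    have h1 := hA i hi
    have h2 := hd i hi
    have : a * F.eEl (2 ^ i) * a⁻¹ = n * F.eEl (2 ^ i) * n⁻¹ := by
      rw [h1]
      simp only [List.mem_filter, List.mem_range, hi, true_and, t, decide_eq_true_eq]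
      split_ifs with h3
      · exact (h2.resolve_left h3).symm
      · exact (not_not.mp h3).symm
    calc F.eEl (2 ^ i) * (a⁻¹ * n) = a⁻¹ * (a * F.eEl (2 ^ i) * a⁻¹) * n := by group
      _ = a⁻¹ * (n * F.eEl (2 ^ i) * n⁻¹) * n := by rw [this]
      _ = a⁻¹ * n * F.eEl (2 ^ i) := by group
  have haH := c.Ez ha
  have hzS : z ∈ centralizer ({a⁻¹ * n} : Set G) :=
    mem_centralizer_singleton_iff.mpr (mem_centralizer_singleton_iff.mp (mul_mem (inv_mem haH) hn.1)).symm
  have hnE : a⁻¹ * n ∈ E := c.cent _ (mul_mem (inv_mem haH) hn.1) fun e he =>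
    mem_centralizer_singleton_iff.mp (F.E_of_basis hS hzS he)
  have hnE' : n ∈ E := by have := mul_mem ha hnE; rwa [mul_inv_cancel_left] at this
  refine c.fpf n hnE' fun q hq => ?_
  obtain ⟨i, rfl⟩ := mem_zpowers_iff.mp (hgen.le hq)
  exact ((Commute.zpow_right (show Commute n p from hnp) i)).eq.symm

end Frame

end CfsgLib.J4Order
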