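/-
Check of table 2 of types.
-/
import Cfsg.Agent.Lib.J4Order.TabData

set_option autoImplicit false

namespace CfsgLib.J4Order

open Cfsg CfsgGolay

theorem tab2_ok : tabOKC repV2 repA2 tabT2 = true := by decide +kernel

end CfsgLib.J4Order
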