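/-
Checks of the tables of types.
-/
import Cfsg.Agent.Lib.J4Order.TabCheck0
import Cfsg.Agent.Lib.J4Order.TabCheck1
import Cfsg.Agent.Lib.J4Order.TabCheck2
import Cfsg.Agent.Lib.J4Order.TabCheck3
import Cfsg.Agent.Lib.J4Order.NAct

set_option autoImplicit false

namespace CfsgLib.J4Order

open Cfsg CfsgGolay

theorem reps_mat_ok : nOK repV0 repA0 repM0 = true ∧ nOK repV1 repA1 repM1 = true ∧ nOK repV2 repA2 repM2 = true ∧
    nOK repV3 repA3 repM3 = true ∧ nOK 0 k3C pM = true ∧ repV0 = 0 ∧ repA0 = pid ∧ repM0 = mId := by decide +kernel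

theorem masks_ok : ((List.range 4096).all fun x => (bitF qMask x == sqZ x) && (bitF qMask x == flD (dig tabT0 x)) &&
    (bitF teMask x == !(Nat.beq (c1D (dig tabT0 x)) 0))) = true := by decide +kernel

end CfsgLib.J4Order
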