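/-
Meaning of the tables and invariants of the action on E modulo the centre.
-/
import Cfsg.Agent.Lib.J4Order.TabCheck
import Cfsg.Agent.Lib.J4Order.NAct

set_option autoImplicit false

namespace CfsgLib.J4Order

open Cfsg Subgroup CfsgGolay CfsgLib.JankoFour

attribute [local irreducible] codeL octadL dodecadL slpCodes pcomp pmask cls inR rMask inW elW isPair colC fixedMask actC sqZ dig tabT0 teMask qMask wv bitF

universe u

variable {G : Type u} [Group G] [Finite G] {z : G} {P E : Subgroup G} {c : Ctx z P E} {A : Subgroup MTwoTwo}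
variable {o : c.Orb A} (F : Frame o)

namespace Frame

/-- An involution outside the class of the centre. -/
def IsT (_F : Frame o) (u : G) : Prop := u * u = 1 ∧ u ≠ 1 ∧ ¬ c.IsZ u

open Classical in
/-- Lifts in the class of the centre. -/
noncomputable def nZ (_F : Frame o) (u : G) : ℕ := (if c.IsZ u then 1 else 0) + (if c.IsZ (u * z) then 1 else 0)

open Classical in
/-- Lifts in the other class of involutions. -/
noncomputable def nT (u : G) : ℕ := (if F.IsT u then 1 else 0) + (if F.IsT (u * z) then 1 else 0)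

theorem isZ_sq (_F : Frame o) {x : G} (h : c.IsZ x) : x * x = 1 := by
  obtain ⟨g, rfl⟩ := h
  rw [show g * z * g⁻¹ * (g * z * g⁻¹) = g * (z * z) * g⁻¹ by group, c.zz]; group

variable (hF : F.Normal)

include hF in
/-- One lift. -/
theorem lTy_spec {b s : ℕ} (hb : Kc b) (hs : s < 2048) :
    (c.IsZ (F.el s b) ↔ pcomp b b = pid ∧ actC b s = s ∧ lTy b (rMask b) s = 1) ∧
    (F.IsT (F.el s b) ↔ pcomp b b = pid ∧ actC b s = s ∧ lTy b (rMask b) s = 2) := by
  have hone : F.el s b = 1 ↔ b = pid ∧ s = 0 := by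
    rw [← F.el_one]
    refine ⟨fun h => ?_, fun h => by rw [h.1, h.2]⟩
    obtain ⟨h1, h2⟩ := F.el_inj hs (by norm_num) hb kc_pid h
    exact ⟨h2, h1⟩
  by_cases hinv : pcomp b b = pid ∧ actC b s = s
  · obtain ⟨hbb, hfix⟩ := hinv
    have hsq := (F.el_sq hs hb).mpr ⟨hbb, hfix⟩
    by_cases h1 : F.el s b = 1
    · obtain ⟨rfl, rfl⟩ := hone.mp h1
      have hl : lTy pid (rMask pid) 0 = 0 := by rw [lTy, Nat.beq_refl, cond_true, Nat.beq_refl, cond_true]
      rw [hl]
      refine ⟨⟨fun h => absurd h1 (c.isZ_ne h), fun h => absurd h.2.2 (by norm_num)⟩,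
        ⟨fun h => absurd h1 h.2.1, fun h => absurd h.2.2 (by norm_num)⟩⟩
    · have key : lTy b (rMask b) s = if zRule b s = true then 1 else 2 := by
        rw [lTy, zRule]
        by_cases hp : b = pid
        · subst hp
          have hs0 : Nat.beq s 0 = false := Bool.eq_false_iff.mpr fun e => h1 (hone.mpr ⟨rfl, Nat.eq_of_beq_eq_true e⟩)
          rw [Nat.beq_refl, cond_true, cond_true, hs0, cond_false]
          cases isPair s <;> simp
        · have hp' : Nat.beq b pid = false := Bool.eq_false_iff.mpr fun e => hp (Nat.eq_of_beq_eq_true e)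
          rw [hp', cond_false, cond_false, inR]
          cases bitF (rMask b) s <;> simp
      rw [key, IsT, F.zRule_iff hF hb hs hsq h1]
      simp only [and_iff_right hbb, and_iff_right hfix, and_iff_right hsq]
      by_cases hz : zRule b s = true <;> simp [hz, h1]
  · have hsq : ¬ (F.el s b * F.el s b = 1) := fun h => hinv ((F.el_sq hs hb).mp h)
    exact ⟨⟨fun h => absurd (F.isZ_sq h) hsq, fun h => absurd ⟨h.1, h.2.1⟩ hinv⟩,
      ⟨fun h => absurd h.1 hsq, fun h => absurd ⟨h.1, h.2.1⟩ hinv⟩⟩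

include hF in
/-- The entry over a word. -/
theorem tab_spec {v a T : ℕ} (ha : Kc a) (hv : v < 2048) (hT : tabOKC v a T = true) {x : ℕ} (hx : x < 4096) :
    c0D (dig T x) = F.nZ (F.eEl x * F.el v a) ∧ c1D (dig T x) = F.nT (F.eEl x * F.el v a) ∧
      (flD (dig T x) = true ↔ F.eEl x * F.el v a * (F.eEl x * F.el v a) = z) := by
  classical
  obtain ⟨ke, le, hw, hn⟩ := esX_kc hx
  have h := List.all_eq_true.mp hT (x / 64) (List.mem_range.mpr hn)
  rw [Bool.and_eq_true, Nat.beq_eq] at h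
  obtain ⟨hrow, hzfix⟩ := h
  have h2 := List.all_eq_true.mp hrow (x % 64) (List.mem_range.mpr (Nat.mod_lt _ (by norm_num)))
  rw [Nat.beq_eq, Nat.div_add_mod] at h2
  set b := pcomp (esX x) a with hbdef
  have kb : Kc b := ke.comp ha
  set s := wsX x ^^^ actC (esX x) v with hsdef
  have hs : s < 2048 := Nat.xor_lt_two_pow (n := 11) le (F.actC_lt ke hv)
  have hsz := Nat.xor_lt_two_pow (n := 11) hs zs_ok.2.1
  have hu : F.eEl x * F.el v a = F.el s b := F.el_mul le hv ke ha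
  rw [show elW sxN (x / 64) = esX x from rfl] at h2 hzfix
  rw [show wv (x % 64) = wsX x from rfl, F.amul_eq ke hv] at h2
  rw [show Nat.xor (wsX x) (actC (esX x) v) = s from rfl, ← hbdef] at h2
  rw [← hbdef, F.amul_eq kb zs_ok.2.1] at hzfix
  have huz : F.el s b * z = F.el (s ^^^ zsC) b := F.el_mul_z hs kb hzfix
  rw [hu, nZ, nT, huz, ← h2]
  obtain ⟨z0, t0⟩ := F.lTy_spec hF kb hs
  obtain ⟨z1, t1⟩ := F.lTy_spec hF kb hsz
  have hfx : actC b (s ^^^ zsC) = s ^^^ zsC ↔ actC b s = s := by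
    rw [F.actC_xor kb hs zs_ok.2.1, hzfix]
    exact ⟨fun e => xor_left_inj' (a := zsC) (by rw [Nat.xor_comm zsC, Nat.xor_comm zsC]; exact e), fun e => by rw [e]⟩
  have hsq : F.el s b * F.el s b = z ↔ pcomp b b = pid ∧ s ^^^ actC b s = zsC := by
    rw [F.el_mul hs hs kb kb]
    constructor
    · intro e
      replace e := e.trans ((F.el_pid (v := zsC)).trans F.hz).symm
      obtain ⟨e1, e2⟩ := F.el_inj (Nat.xor_lt_two_pow (n := 11) hs (F.actC_lt kb hs)) zs_ok.2.1 (kb.comp kb) kc_pid e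
      exact ⟨e2, e1⟩
    · rintro ⟨e1, e2⟩
      rw [e1, e2, F.el_pid, F.hz]
  rw [hsq, entB, F.amul_eq kb hs]
  by_cases hbb : pcomp b b = pid
  · rw [hbb, Nat.beq_refl, cond_true]
    simp only [hbb, true_and] at z0 t0 z1 t1 ⊢
    by_cases hfix : actC b s = s
    · have hb1 : ∀ (p : Prop) [Decidable p] (k l : ℕ), (p ↔ k = l) → (if p then 1 else 0 : ℕ) = cond (Nat.beq k l) 1 0 := by
        intro p _ k l hpk
        by_cases hk : k = l
        · rw [if_pos (hpk.mpr hk), hk, Nat.beq_refl, cond_true]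
        · rw [if_neg (fun h => hk (hpk.mp h)), show Nat.beq k l = false from
            Bool.eq_false_iff.mpr fun e => hk (Nat.eq_of_beq_eq_true e), cond_false]
      simp only [hfix, hfx.mpr hfix, true_and] at z0 t0 z1 t1
      rw [hb1 _ _ _ z0, hb1 _ _ _ z1, hb1 _ _ _ t0, hb1 _ _ _ t1, hfix, Nat.beq_refl, cond_true, Nat.xor_self]
      show c0D (_ + 4 * _) = _ ∧ c1D (_ + 4 * _) = _ ∧ (flD (_ + 4 * _) = true ↔ 0 = zsC)
      cases Nat.beq (lTy b (rMask b) s) 1 <;> cases Nat.beq (lTy b (rMask b) (Nat.xor s zsC)) 1 <;>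
        cases Nat.beq (lTy b (rMask b) s) 2 <;> cases Nat.beq (lTy b (rMask b) (Nat.xor s zsC)) 2 <;>
        simp [c0D, c1D, flD, zsC] <;> rfl
    · have nz : ∀ {p : Prop} [Decidable p], ¬ p → (if p then 1 else 0 : ℕ) = 0 := fun h => if_neg h
      rw [show Nat.beq (actC b s) s = false from Bool.eq_false_iff.mpr fun e => hfix (Nat.eq_of_beq_eq_true e), cond_false,
        nz (fun h => hfix (z0.mp h).1), nz (fun h => hfix (hfx.mp (z1.mp h).1)), nz (fun h => hfix (t0.mp h).1),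
        nz (fun h => hfix (hfx.mp (t1.mp h).1))]
      show _ ∧ _ ∧ (_ ↔ Nat.xor s (actC b s) = zsC)
      by_cases he : Nat.xor s (actC b s) = zsC
      · rw [he, Nat.beq_refl, cond_true]; simp [c0D, c1D, flD]
      · rw [show Nat.beq (Nat.xor s (actC b s)) zsC = false from Bool.eq_false_iff.mpr fun e => he (Nat.eq_of_beq_eq_true e),
          cond_false]
        simp [c0D, c1D, flD]
        exact he
  · have nz : ∀ {p : Prop} [Decidable p], ¬ p → (if p then 1 else 0 : ℕ) = 0 := fun h => if_neg h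
    rw [show Nat.beq (pcomp b b) pid = false from Bool.eq_false_iff.mpr fun e => hbb (Nat.eq_of_beq_eq_true e), cond_false,
      nz (fun h => hbb (z0.mp h).1), nz (fun h => hbb (z1.mp h).1), nz (fun h => hbb (t0.mp h).1),
      nz (fun h => hbb (t1.mp h).1)]
    simp [c0D, c1D, flD, hbb]

include hF in
/-- The two masks. -/
theorem mask_spec {x : ℕ} (hx : x < 4096) :
    (bitF qMask x = sqZ x) ∧ (bitF teMask x = true ↔ ∃ e, F.Cl e x ∧ F.IsT e) := by
  classical
  have h := List.all_eq_true.mp masks_ok x (List.mem_range.mpr hx)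
  simp only [Bool.and_eq_true, beq_iff_eq] at h
  obtain ⟨⟨h1, -⟩, h3⟩ := h
  refine ⟨h1, ?_⟩
  obtain ⟨-, -, -, -, -, hv0, ha0, -⟩ := reps_mat_ok
  have ht := tab0_ok
  rw [hv0, ha0] at ht
  obtain ⟨-, hc, -⟩ := F.tab_spec hF kc_pid (by norm_num) ht hx
  rw [F.el_one, mul_one] at hc
  rw [h3, Bool.not_eq_true', ← Bool.not_eq_true, Nat.beq_eq, hc, nT]
  constructor
  · intro hne
    by_cases h0 : F.IsT (F.eEl x)
    · exact ⟨_, ⟨hx, Or.inl rfl⟩, h0⟩
    · by_cases hz : F.IsT (F.eEl x * z)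
      · exact ⟨_, ⟨hx, Or.inr rfl⟩, hz⟩
      · rw [if_neg h0, if_neg hz] at hne; exact absurd rfl hne
  · rintro ⟨e, ⟨-, rfl | rfl⟩, he⟩
    · rw [if_pos he]; omega
    · rw [if_pos he]; omega

theorem isT_conj (n u : G) : F.IsT (n * u * n⁻¹) ↔ F.IsT u := by
  rw [IsT, IsT, show n * u * n⁻¹ * (n * u * n⁻¹) = n * (u * u) * n⁻¹ by group, conj_eq_one_iff, ne_eq, conj_eq_one_iff,
    c.isZ_iff]

include hF in
/-- Both masks are invariant. -/
theorem mask_inv {n : G} {M : ℕ} (hn : n ∈ F.NP) (hM : F.IsMat n M) {x : ℕ} (hx : x < 4096) :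
    bitF qMask (mApp M x) = bitF qMask x ∧ bitF teMask (mApp M x) = bitF teMask x := by
  have hcl : F.Cl (n * F.eEl x * n⁻¹) (mApp M x) := hM.2 _ _ ⟨hx, Or.inl rfl⟩
  obtain ⟨q1, t1⟩ := F.mask_spec hF hx
  obtain ⟨q2, t2⟩ := F.mask_spec hF (mApp_lt M x)
  have hinv : ∀ e, F.Cl e (mApp M x) → F.Cl (n⁻¹ * e * n) x := by
    intro e he
    obtain ⟨y, hy⟩ := F.exists_Cl (by
      have := c.conj_E (inv_mem hn.1) (Cl.mem F he); rwa [inv_inv] at this : n⁻¹ * e * n ∈ E)
    have h2 := hM.2 _ _ hy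
    rw [show n * (n⁻¹ * e * n) * n⁻¹ = e by group] at h2
    have hz : F.Cl (F.eEl (y ^^^ x)) (y ^^^ x) := ⟨Nat.xor_lt_two_pow (n := 12) hy.1 hx, Or.inl rfl⟩
    have h3 := hM.2 _ _ hz
    rw [mApp_xor, Cl.uniq F h2 he, Nat.xor_self] at h3
    have hmem : n * F.eEl (y ^^^ x) * n⁻¹ ∈ zpowers z := (Cl.zero_iff F h3).mp rfl
    have := c.Z_comm hn.1 hmem
    have h4 : F.eEl (y ^^^ x) ∈ zpowers z := by
      have h5 := c.Z_conj (inv_mem hn.1) hmem
      rw [show n⁻¹ * (n * F.eEl (y ^^^ x) * n⁻¹) * n⁻¹⁻¹ = F.eEl (y ^^^ x) by group] at h5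
      rw [h5]; exact hmem
    have h6 : y = x := xor_left_inj' (a := x) (by rw [Nat.xor_self, Nat.xor_comm, (Cl.zero_iff F hz).mpr h4])
    rwa [h6] at hy
  refine ⟨?_, Bool.eq_iff_iff.mpr ?_⟩
  · rw [q1, q2, Bool.eq_iff_iff, ← not_iff_not, Bool.not_eq_true, Bool.not_eq_true, ← Cl.sq F hcl,
      ← Cl.sq F (show F.Cl (F.eEl x) x from ⟨hx, Or.inl rfl⟩),
      show n * F.eEl x * n⁻¹ * (n * F.eEl x * n⁻¹) = n * (F.eEl x * F.eEl x) * n⁻¹ by group, conj_eq_one_iff]
  · rw [t1, t2]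
    constructor
    · rintro ⟨e, he, hT⟩
      exact ⟨_, hinv e he, by have := (F.isT_conj n⁻¹ e).mpr hT; rwa [inv_inv] at this⟩
    · rintro ⟨e, he, hT⟩
      exact ⟨_, hM.2 e x he, (F.isT_conj n e).mpr hT⟩

/-- The matrix commutes with that of P up to inversion. -/
theorem P_inv {p : G} (hgen : P = zpowers p) (hpM : F.IsMat p pM) {n : G} {M : ℕ} (hn : n ∈ F.NP) (hM : F.IsMat n M) :
    mMul M pM = mMul pM M ∨ mMul M pM = mMul (mMul pM pM) M := by
  have hpP : p ∈ P := hgen ▸ mem_zpowers p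
  have hp3 : p ^ 3 = 1 := by
    have := pow_card_eq_one' (x := (⟨p, hpP⟩ : P))
    rw [c.hP] at this
    exact congrArg Subtype.val this
  by_cases hc : n * p = p * n
  · left
    have h1 := F.isMat_mul hM hpM
    rw [hc] at h1
    exact F.isMat_uniq h1 (F.isMat_mul hpM hM)
  · right
    have hinv := conj_inv_of_card_three c.hP hn.2 hpP hc hpP
    rw [show p⁻¹ = p * p from inv_eq_of_mul_eq_one_right (by rw [← mul_assoc, ← pow_three']; exact hp3),
      mul_inv_eq_iff_eq_mul] at hinv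
    have h1 := F.isMat_mul hM hpM
    rw [hinv] at h1
    exact F.isMat_uniq h1 (F.isMat_mul (F.isMat_mul hpM hpM) hM)

end Frame

end CfsgLib.J4Order
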