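/-
The matrices of the normalizer of P: exactly those keeping the masks and the action of P.
-/
import Cfsg.Agent.Lib.J4Order.GroupCheck
import Cfsg.Agent.Lib.J4Order.NTab
import Cfsg.Agent.Lib.JankoFour.OrbCover

set_option autoImplicit false

namespace CfsgLib.J4Order

open Cfsg Subgroup CfsgGolay CfsgLib.JankoFour

attribute [local irreducible] codeL octadL dodecadL slpCodes pcomp pmask cls inR rMask inW elW isPair colC fixedMask actC sqZ dig teMask qMask bitF mMul mApp mId pM wv redW redS red1 red2 red3 red4 red5 genSt genM genMi teWalkD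

theorem mMul_assoc (A B C : ℕ) : mMul (mMul A B) C = mMul A (mMul B C) :=
  mApp_ext (mMul_lt _ _) (mMul_lt _ _) fun x _ => by rw [mMul_app, mMul_app, mMul_app, mMul_app]

theorem mId_lt : mId < 2 ^ 144 := by
  unfold mId; exact mkR_lt 12 _ fun _ h => h

theorem mId_mul {M : ℕ} (hM : M < 2 ^ 144) : mMul mId M = M :=
  mApp_ext (mMul_lt _ _) hM fun x _ => by rw [mMul_app, mId_app (mApp_lt M x)]

theorem mMul_id {M : ℕ} (hM : M < 2 ^ 144) : mMul M mId = M :=
  mApp_ext (mMul_lt _ _) hM fun x hx => by rw [mMul_app, mId_app hx]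

theorem pM_facts : pM < 2 ^ 144 ∧ mMul (mMul pM pM) (mMul pM pM) = pM := by decide +kernel

/-- The masks and the action of P up to inversion are kept. -/
def Good (M : ℕ) : Prop :=
  M < 2 ^ 144 ∧ (∀ x < 4096, bitF qMask (mApp M x) = bitF qMask x ∧ bitF teMask (mApp M x) = bitF teMask x) ∧
    (mMul M pM = mMul pM M ∨ mMul M pM = mMul (mMul pM pM) M)

theorem Good.mul {M N : ℕ} (h : Good M) (h' : Good N) : Good (mMul M N) := by
  obtain ⟨-, h2, h3⟩ := h
  obtain ⟨-, h2', h3'⟩ := h'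
  refine ⟨mMul_lt M N, fun x hx => ?_, ?_⟩
  · rw [mMul_app]
    obtain ⟨a, b⟩ := h2 _ (mApp_lt N x)
    obtain ⟨a', b'⟩ := h2' x hx
    exact ⟨a.trans a', b.trans b'⟩
  · have step : ∀ e, mMul M pM = mMul e M → mMul M (mMul pM pM) = mMul (mMul e e) M := fun e he => by
      rw [← mMul_assoc, he, mMul_assoc, he, ← mMul_assoc]
    rw [mMul_assoc]
    rcases h3' with e | e <;> rw [e]
    · rcases h3 with f | f
      · left; rw [← mMul_assoc, f, mMul_assoc]
      · right; rw [← mMul_assoc, f, mMul_assoc]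
    · rcases h3 with f | f
      · right; rw [← mMul_assoc, step _ f, mMul_assoc]
      · left; rw [← mMul_assoc, step _ f, pM_facts.2, mMul_assoc]

universe u

variable {G : Type u} [Group G] [Finite G] {z : G} {P E : Subgroup G} {c : Ctx z P E} {A : Subgroup MTwoTwo}
variable {o : c.Orb A} (F : Std o)

namespace Std

theorem p_mat : F.toFrame.IsMat F.p pM := by
  obtain ⟨-, -, -, -, h, -⟩ := reps_mat_ok
  have := F.toFrame.nOK_spec F.hel F.hgen h
  rw [F.hel] at this
  exact this.2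

theorem inM_good {M : ℕ} (h : F.toFrame.InM M) : Good M := by
  obtain ⟨n, hn, hM⟩ := h
  exact ⟨hM.1, fun x hx => F.toFrame.mask_inv F.normal hn hM hx, F.toFrame.P_inv F.hgen F.p_mat hn hM⟩

theorem inM_inv {M : ℕ} (h : F.toFrame.InM M) : ∃ N, F.toFrame.InM N ∧ mMul N M = mId ∧ mMul M N = mId := by
  obtain ⟨n, hn, hM⟩ := h
  obtain ⟨N, hN⟩ := F.toFrame.exists_mat (inv_mem hn.1)
  refine ⟨N, ⟨n⁻¹, inv_mem hn, hN⟩, ?_, ?_⟩
  · exact F.toFrame.isMat_uniq (F.toFrame.isMat_mul hN hM) (by rw [inv_mul_cancel]; exact F.toFrame.isMat_one)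
  · exact F.toFrame.isMat_uniq (F.toFrame.isMat_mul hM hN) (by rw [mul_inv_cancel]; exact F.toFrame.isMat_one)

theorem inM_left {M N : ℕ} (h : F.toFrame.InM M) (hN : N < 2 ^ 144) (e : mMul N M = mId) :
    F.toFrame.InM N ∧ mMul M N = mId := by
  obtain ⟨N', hN', h1, h2⟩ := F.inM_inv h
  have hlt : N' < 2 ^ 144 := (F.inM_good hN').1
  have : N = N' := by rw [← mMul_id hN, ← h2, ← mMul_assoc, e, mId_mul hlt]
  exact this ▸ ⟨hN', h2⟩

theorem red_spec {r : StRed} (h : redOK r = true) :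
    F.toFrame.InM r.M ∧ F.toFrame.InM r.Mi ∧ mMul r.Mi r.M = mId ∧ mMul r.M r.Mi = mId := by
  simp only [redOK, Bool.and_eq_true, Nat.blt_eq, Nat.beq_eq] at h
  obtain ⟨⟨h1, h2⟩, h3⟩ := h
  obtain ⟨hn, hM⟩ := F.toFrame.nOK_spec F.hel F.hgen h1
  have hI : F.toFrame.InM r.M := ⟨_, hn, hM⟩
  exact ⟨hI, (F.inM_left hI h2 h3).1, h3, (F.inM_left hI h2 h3).2⟩

theorem fix_span {h : ℕ} {l : List ℕ} (hl : ∀ b ∈ l, mApp h b = b) : ∀ u, mApp h (xorCols l u) = xorCols l u := by
  induction l with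
  | nil => intro u; rw [xorCols, mApp_zero]
  | cons y l ih =>
    intro u
    rw [xorCols, mApp_xor, ih (fun b hb => hl b (List.mem_cons_of_mem _ hb))]
    congr 1
    split_ifs
    · exact hl y List.mem_cons_self
    · exact mApp_zero h

theorem basis_lt {k : ℕ} : basisG.getD k 0 < 4096 := by
  rcases k with _ | _ | _ | _ | _ | _ | k <;> simp [basisG]

theorem domL_succ {k : ℕ} (hk : k < 6) {b : ℕ} (hb : b ∈ domL (k + 1)) :
    b ∈ domL k ∨ b = basisG.getD k 0 ∨ b = mApp pM (basisG.getD k 0) := by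
  interval_cases k <;> simp [domL, basisG] at hb ⊢ <;> tauto

include F in
theorem stage_step {k : ℕ} {R : List StRed} (hk : k < 6) (hR : stageRed k R = true ∧ stageOK k R = true)
    (Q Q' : ℕ → Prop) (hQ : ∀ r ∈ R, ∀ h, Q' h → Q (mMul r.M h))
    (next : ∀ h, Good h → mMul h pM = mMul pM h → (∀ b ∈ domL (k + 1), mApp h b = b) → Q' h)
    {h : ℕ} (hg : Good h) (hc : mMul h pM = mMul pM h) (hfix : ∀ b ∈ domL k, mApp h b = b) : Q h := by
  set b := basisG.getD k 0 with hb
  have hbl : b < 4096 := basis_lt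
  have hte : bitF teMask b = true := List.all_eq_true.mp span_ok.1 k (List.mem_range.mpr hk)
  set x := mApp h b with hx
  have hcte : bitF teMask x = true := by rw [hx, (hg.2.1 b hbl).2]; exact hte
  have hall : ∀ (f : ℕ → Bool) n, (∀ j < n, f j = true) → allN f n = true := by
    intro f n
    induction n with
    | zero => intro _; rfl
    | succ n ih => intro hf; rw [allN, hf n (Nat.lt_succ_self n), ih fun j hj => hf j (Nat.lt_succ_of_lt hj)]; rfl
  have hpre : preTest k x = true := by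
    refine hall _ _ fun j _ => ?_
    have hlt : ∀ (l : List ℕ), (∀ y ∈ l, y < 4096) → ∀ u, xorCols l u < 4096 := by
      intro l
      induction l with
      | nil => intro _ u; rw [xorCols]; norm_num
      | cons y l ih =>
        intro hl u
        rw [xorCols]
        refine Nat.xor_lt_two_pow (n := 12) ?_ (ih (fun w hw => hl w (List.mem_cons_of_mem _ hw)) _)
        split_ifs
        · exact hl y List.mem_cons_self
        · norm_num
    have hdl : ∀ y ∈ domL k, y < 4096 := fun y hy => by rw [← hfix y hy]; exact mApp_lt _ _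
    have hs : Nat.xor x (xorCols (domL k) j) = mApp h (Nat.xor b (xorCols (domL k) j)) := by
      show x ^^^ _ = mApp h (b ^^^ _)
      rw [mApp_xor, ← hx, fix_span hfix]
    obtain ⟨q, t⟩ := hg.2.1 (Nat.xor b (xorCols (domL k) j)) (Nat.xor_lt_two_pow (n := 12) hbl (hlt _ hdl j))
    rw [sameCls, ← hb, hs, q, t, beq_self_eq_true, beq_self_eq_true, Bool.and_self]
  have h1 := List.all_eq_true.mp hR.2 x (List.mem_range.mpr (mApp_lt _ _))
  rw [hcte, hpre, Bool.not_true, Bool.false_or, Bool.false_or, List.any_eq_true] at h1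
  obtain ⟨r, hr, e⟩ := h1
  rw [Nat.beq_eq, ← hb] at e
  have h2 := List.all_eq_true.mp hR.1 r hr
  simp only [Bool.and_eq_true, Nat.beq_eq, List.all_eq_true] at h2
  obtain ⟨⟨hok, hrc⟩, hrfix⟩ := h2
  obtain ⟨hI, hIi, e1, e2⟩ := F.red_spec hok
  have hic : mMul r.Mi pM = mMul pM r.Mi := by
    calc mMul r.Mi pM = mMul r.Mi (mMul pM (mMul r.M r.Mi)) := by rw [e2, mMul_id pM_facts.1]
      _ = mMul (mMul r.Mi (mMul r.M pM)) r.Mi := by rw [hrc]; simp only [mMul_assoc]
      _ = mMul pM r.Mi := by rw [← mMul_assoc r.Mi, e1, mId_mul pM_facts.1]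
  set h' := mMul r.Mi h with hh'
  have hc' : mMul h' pM = mMul pM h' := by rw [hh', mMul_assoc, hc, ← mMul_assoc, hic, mMul_assoc]
  have hinv : ∀ y, y < 4096 → mApp r.M y = y → mApp r.Mi y = y := fun y hy hy' => by
    conv_lhs => rw [← hy']
    rw [← mMul_app, e1, mId_app hy]
  have hnew : mApp h' b = b := by rw [hh', mMul_app, ← hx, ← e, ← mMul_app, e1, mId_app hbl]
  have := next h' ((F.inM_good hIi).mul hg) hc' fun y hy => by
    rcases domL_succ hk hy with hy | rfl | rfl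
    · rw [hh', mMul_app, hfix y hy]
      exact hinv y (by rw [← hfix y hy]; exact mApp_lt _ _) (hrfix y hy)
    · exact hnew
    · rw [← mMul_app, hc', mMul_app, hnew]
  have heq : h = mMul r.M h' := by rw [hh', ← mMul_assoc, e2, mId_mul hg.1]
  rw [heq]
  exact hQ r hr _ this

theorem fix_all {h : ℕ} (hg : Good h) (hfix : ∀ b ∈ domL 6, mApp h b = b) : h = mId := by
  refine mApp_ext hg.1 mId_lt fun x hx => ?_
  rw [mId_app hx]
  have hb : ∀ y ∈ bW, mApp h y = y := by
    intro y hy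
    obtain ⟨j, hj, rfl⟩ := List.mem_map.mp hy
    have := List.all_eq_true.mp span_ok.2 j hj
    rw [List.any_eq_true] at this
    obtain ⟨u, -, e⟩ := this
    rw [← Nat.eq_of_beq_eq_true e]
    exact fix_span hfix u
  rw [← Nat.eq_of_beq_eq_true (List.all_eq_true.mp basis_ok x (List.mem_range.mpr hx))]
  exact fix_span hb x

/-- Products of the reducers of the stages. -/
def stageProd : List ℕ :=
  (red1.map fun r => r.M).flatMap fun a => ((red2.map fun r => r.M).flatMap fun b => ((red3.map fun r => r.M).flatMap fun d =>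
    ((red4.map fun r => r.M).flatMap fun e => (red5.map fun r => r.M).map fun f =>
      mMul a (mMul b (mMul d (mMul e (mMul f mId)))))))

include F in
theorem comm_fix_mem {h : ℕ} (hg : Good h) (hc : mMul h pM = mMul pM h) (h1 : mApp h 1 = 1) : h ∈ stageProd := by
  let Q5 : ℕ → Prop := fun x => ∃ f ∈ red5.map (fun r => r.M), x = mMul f mId
  let Q4 : ℕ → Prop := fun x => ∃ e ∈ red4.map (fun r => r.M), ∃ y, Q5 y ∧ x = mMul e y
  let Q3 : ℕ → Prop := fun x => ∃ d ∈ red3.map (fun r => r.M), ∃ y, Q4 y ∧ x = mMul d y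
  let Q2 : ℕ → Prop := fun x => ∃ b ∈ red2.map (fun r => r.M), ∃ y, Q3 y ∧ x = mMul b y
  let Q1 : ℕ → Prop := fun x => ∃ a ∈ red1.map (fun r => r.M), ∃ y, Q2 y ∧ x = mMul a y
  have n5 := fun h a b d => F.stage_step (k := 5) (by norm_num) red5_ok Q5 (fun x => x = mId)
    (fun r hr x hx => ⟨_, List.mem_map.mpr ⟨r, hr, rfl⟩, by rw [hx]⟩) (fun h hg _ hf => fix_all hg hf) (h := h) a b d
  have n4 := fun h a b d => F.stage_step (k := 4) (by norm_num) red4_ok Q4 Q5
    (fun r hr x hx => ⟨_, List.mem_map.mpr ⟨r, hr, rfl⟩, x, hx, rfl⟩) n5 (h := h) a b d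
  have n3 := fun h a b d => F.stage_step (k := 3) (by norm_num) red3_ok Q3 Q4
    (fun r hr x hx => ⟨_, List.mem_map.mpr ⟨r, hr, rfl⟩, x, hx, rfl⟩) n4 (h := h) a b d
  have n2 := fun h a b d => F.stage_step (k := 2) (by norm_num) red2_ok Q2 Q3
    (fun r hr x hx => ⟨_, List.mem_map.mpr ⟨r, hr, rfl⟩, x, hx, rfl⟩) n3 (h := h) a b d
  have h1' : Q1 h := by
    refine F.stage_step (k := 1) (by norm_num) red1_ok Q1 Q2
      (fun r hr x hx => ⟨_, List.mem_map.mpr ⟨r, hr, rfl⟩, x, hx, rfl⟩) n2 hg hc fun b hb => ?_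
    simp [domL, basisG] at hb
    rcases hb with rfl | rfl
    · exact h1
    · rw [← mMul_app, hc, mMul_app, h1]
  obtain ⟨a, ha, _, ⟨b, hb, _, ⟨d, hd, _, ⟨e, he, _, ⟨f, hf, rfl⟩, rfl⟩, rfl⟩, rfl⟩, rfl⟩ := h1'
  simp only [stageProd, List.mem_flatMap, List.mem_map]
  simp only [List.mem_map] at ha hb hd he hf
  exact ⟨a, ha, b, hb, d, hd, e, he, f, hf, rfl⟩

theorem stageProd_InM {h : ℕ} (hh : h ∈ stageProd) : F.toFrame.InM h := by
  simp only [stageProd, List.mem_flatMap, List.mem_map] at hh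
  obtain ⟨_, ⟨r1, h1, rfl⟩, _, ⟨r2, h2, rfl⟩, _, ⟨r3, h3, rfl⟩, _, ⟨r4, h4, rfl⟩, _, ⟨r5, h5, rfl⟩, rfl⟩ := hh
  have hr : ∀ {k R}, stageRed k R = true → ∀ r ∈ R, F.toFrame.InM r.M := fun {k R} hR r hr => by
    have h2 := List.all_eq_true.mp hR r hr
    simp only [Bool.and_eq_true] at h2
    exact (F.red_spec h2.1.1).1
  exact Frame.InM.mul F.toFrame (hr red1_ok.1 _ h1) (Frame.InM.mul F.toFrame (hr red2_ok.1 _ h2)
    (Frame.InM.mul F.toFrame (hr red3_ok.1 _ h3) (Frame.InM.mul F.toFrame (hr red4_ok.1 _ h4)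
      (Frame.InM.mul F.toFrame (hr red5_ok.1 _ h5) (Frame.InM.one F.toFrame)))))

/-- Products fixing the first word. -/
def fixProd : List ℕ := stageProd ++ (redS.map fun r => r.M).flatMap fun s => stageProd.map fun h => mMul s h

include F in
/-- A good matrix fixing the first word is a product of reducers. -/
theorem good_fix_mem {h : ℕ} (hg : Good h) (h1 : mApp h 1 = 1) : h ∈ fixProd := by
  rw [fixProd, List.mem_append]
  rcases hg.2.2 with hc | hc
  · exact Or.inl (F.comm_fix_mem hg hc h1)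
  obtain ⟨hlen, hS⟩ := redS_ok
  obtain ⟨r, hr⟩ : ∃ r, r ∈ redS := by
    cases hl : redS with
    | nil => rw [hl] at hlen; simp at hlen
    | cons r l => exact ⟨r, List.mem_cons_self⟩
  have h2 := List.all_eq_true.mp hS r hr
  simp only [Bool.and_eq_true, Nat.beq_eq] at h2
  obtain ⟨⟨hok, hrc⟩, hr1⟩ := h2
  obtain ⟨hI, hIi, e1, e2⟩ := F.red_spec hok
  have hsq : mMul r.M (mMul pM pM) = mMul pM r.M := by
    rw [← mMul_assoc, hrc, mMul_assoc, hrc, ← mMul_assoc, pM_facts.2]
  have hic : mMul r.Mi (mMul pM pM) = mMul pM r.Mi := by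
    calc mMul r.Mi (mMul pM pM) = mMul r.Mi (mMul (mMul pM pM) (mMul r.M r.Mi)) := by
          rw [e2, mMul_id (mMul_lt _ _)]
      _ = mMul (mMul r.Mi (mMul r.M pM)) r.Mi := by rw [hrc]; simp only [mMul_assoc]
      _ = mMul pM r.Mi := by rw [← mMul_assoc r.Mi, e1, mId_mul pM_facts.1]
  set h' := mMul r.Mi h with hh'
  have hc' : mMul h' pM = mMul pM h' := by rw [hh', mMul_assoc, hc, ← mMul_assoc r.Mi, hic, mMul_assoc]
  have h1' : mApp h' 1 = 1 := by
    rw [hh', mMul_app, h1]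
    conv_lhs => rw [← hr1]
    rw [← mMul_app, e1, mId_app (by norm_num)]
  have := F.comm_fix_mem ((F.inM_good hIi).mul hg) hc' h1'
  have heq : h = mMul r.M h' := by rw [hh', ← mMul_assoc, e2, mId_mul hg.1]
  right
  rw [heq, List.mem_flatMap]
  exact ⟨r.M, List.mem_map.mpr ⟨r, hr, rfl⟩, List.mem_map.mpr ⟨h', this, rfl⟩⟩

/-- A good matrix fixing the first word occurs. -/
theorem good_fix {h : ℕ} (hg : Good h) (h1 : mApp h 1 = 1) : F.toFrame.InM h := by
  have := F.good_fix_mem hg h1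
  rw [fixProd, List.mem_append, List.mem_flatMap] at this
  rcases this with hm | ⟨_, hs, hm⟩
  · exact F.stageProd_InM hm
  · obtain ⟨r, hr, rfl⟩ := List.mem_map.mp hs
    obtain ⟨h', hh', rfl⟩ := List.mem_map.mp hm
    have h2 := List.all_eq_true.mp redS_ok.2 r hr
    simp only [Bool.and_eq_true] at h2
    exact Frame.InM.mul F.toFrame (F.red_spec h2.1.1).1 (F.stageProd_InM hh')

/-- A word of pair type moves into W. -/
theorem exists_move {x : ℕ} (hx : x < 4096) (hte : bitF teMask x = true) :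
    ∃ M, F.toFrame.InM M ∧ mApp M x < 64 ∧ bitF teMask (mApp M x) = true := by
  obtain ⟨e, hcl, he⟩ := (F.toFrame.mask_spec F.normal hx).2.mp hte
  have heE := Frame.Cl.mem F.toFrame hcl
  have heZ : e ∉ zpowers z := fun h => by
    rcases c.mem_Z.mp h with rfl | rfl
    · exact he.2.1 rfl
    · exact he.2.2 ⟨1, by simp⟩
  obtain ⟨B, hB, heB⟩ := o.invol_E heE he.1 heZ
  obtain ⟨g, hg⟩ := c.hex_conj hB.1 o.hA.1
  obtain ⟨n, hn, hnv⟩ := c.exists_val g
  have hmv := c.fixB_move hB hn heB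
  rw [hnv, hg] at hmv
  have hnN : n ∈ F.toFrame.NP := ⟨hn.1, centralizer_le_normalizer (P : Set G) hn.2⟩
  obtain ⟨M, hM⟩ := F.toFrame.exists_mat hn.1
  have hcl' := hM.2 e x hcl
  refine ⟨M, ⟨n, hnN, hM⟩, ?_, ((F.inM_good ⟨n, hnN, hM⟩).2.1 x hx).2.trans hte⟩
  obtain ⟨hW, -⟩ := W_std F.d F.hz
  obtain ⟨s, hs, hse⟩ := kap_surj F.d (mem_sup_left hmv : n * e * n⁻¹ ∈ c.vGrp A o.hA.1.1)
  have hsW : inW s = true := (hW s hs).mp (by rw [hse]; exact hmv)
  obtain ⟨m, hm, hsm⟩ := inW_iff.mp hsW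
  have hm4 : m < 4096 := by omega
  have hws : wsX m = wv m ∧ esX m = pid := by
    rw [wsX, esX, Nat.mod_eq_of_lt hm, Nat.div_eq_of_lt hm, elW_zero]
    exact ⟨rfl, rfl⟩
  have hcm : F.toFrame.Cl (n * e * n⁻¹) m := by
    refine ⟨hm4, ?_⟩
    rcases hsm with rfl | rfl
    · left; rw [Frame.eEl, hws.1, hws.2, F.toFrame.el_pid, hse]
    · right; rw [F.toFrame.eEl_z hm4, hws.1, hws.2, F.toFrame.el_pid, hse]
  rw [Frame.Cl.uniq F.toFrame hcl' hcm]
  exact hm

theorem genM_InM : F.toFrame.InM genM := by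
  obtain ⟨h1, -, -, h4, h5, -⟩ := genM_ok
  have hg : Good genM := by
    refine ⟨Nat.blt_eq ▸ h1, fun x hx => ?_, Or.inl (Nat.eq_of_beq_eq_true h5)⟩
    have := List.all_eq_true.mp h4 x (List.mem_range.mpr hx)
    simp only [sameCls, Bool.and_eq_true, beq_iff_eq] at this
    exact ⟨this.2, this.1⟩
  have hte : bitF teMask (mApp genM 1) = true := by
    rw [(hg.2.1 1 (by norm_num)).2]
    exact List.all_eq_true.mp span_ok.1 0 (List.mem_range.mpr (by norm_num))
  obtain ⟨M, hM, hM64, hMte⟩ := F.exists_move (mApp_lt _ _) hte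
  have h1 := List.all_eq_true.mp redW_ok.2 _ (List.mem_range.mpr hM64)
  rw [hMte, Bool.not_true, Bool.false_or, List.any_eq_true] at h1
  obtain ⟨r, hr, e⟩ := h1
  obtain ⟨hI, hIi, e1, e2⟩ := F.red_spec (List.all_eq_true.mp redW_ok.1 r hr)
  set h' := mMul r.Mi (mMul M genM)
  have hfix : mApp h' 1 = 1 := by
    rw [mMul_app, mMul_app, ← Nat.eq_of_beq_eq_true e, ← mMul_app, e1, mId_app (by norm_num)]
  have hh : F.toFrame.InM h' := F.good_fix ((F.inM_good hIi).mul ((F.inM_good hM).mul hg)) hfix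
  obtain ⟨N, hN, n1, n2⟩ := F.inM_inv hM
  have : genM = mMul N (mMul r.M h') := by
    rw [← mMul_assoc r.M, e2, mId_mul (mMul_lt _ _), ← mMul_assoc, n1, mId_mul hg.1]
  rw [this]
  exact Frame.InM.mul F.toFrame hN (Frame.InM.mul F.toFrame hI hh)

theorem genL_InM {M : ℕ} (hM : M ∈ genL) : F.toFrame.InM M := by
  rw [genL, List.mem_append] at hM
  rcases hM with hM | hM
  · obtain ⟨r, hr, rfl⟩ := List.mem_map.mp hM
    exact (F.red_spec (List.all_eq_true.mp genM_ok.2.2.2.2.2 r hr)).1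
  · rw [List.mem_singleton] at hM
    subst hM
    exact F.genM_InM

theorem walk_InM (D n : ℕ) : ∀ M ∈ walkM genL D n, F.toFrame.InM M := by
  suffices key : ∀ (ms : List ℕ) (st : List ℕ × List ℕ), (∀ x ∈ st.1, F.toFrame.InM x) → (∀ x ∈ st.2, F.toFrame.InM x) →
      ∀ x ∈ (ms.foldl (stepL genL) st).2, F.toFrame.InM x by
    refine key _ _ ?_ ?_ <;>
    · intro x hx
      rw [List.mem_singleton] at hx
      subst hx
      exact Frame.InM.one F.toFrame
  intro ms
  induction ms with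
  | nil => exact fun st _ h => h
  | cons m ms ih =>
    intro st h1 h2
    rw [List.foldl_cons]
    obtain ⟨s1, s2⟩ := st
    cases hd : s1.drop (m / 8) with
    | nil => simp only [stepL, hd]; exact ih _ h1 h2
    | cons x xs =>
      simp only [stepL, hd]
      have hsub : ∀ y ∈ x :: xs, F.toFrame.InM y := fun y hy => h1 y (List.mem_of_mem_drop (hd ▸ hy))
      have hnew : F.toFrame.InM (mMul (genL.getD (m % 8) mId) x) := by
        refine Frame.InM.mul F.toFrame ?_ (hsub x List.mem_cons_self)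
        by_cases hi : m % 8 < genL.length
        · rw [List.getD_eq_getElem _ _ hi]; exact F.genL_InM (List.getElem_mem hi)
        · rw [List.getD_eq_default _ _ (not_lt.mp hi)]; exact Frame.InM.one F.toFrame
      refine ih _ (fun y hy => ?_) fun y hy => ?_
      · rcases List.mem_cons.mp hy with rfl | hy
        · exact hnew
        · exact hsub y hy
      · rcases List.mem_cons.mp hy with rfl | hy
        · exact hnew
        · exact h2 y hy

/-- Every word of pair type is reached from the first one. -/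
theorem te_trans {x : ℕ} (hx : x < 4096) (hte : bitF teMask x = true) :
    ∃ M, F.toFrame.InM M ∧ mApp M 1 = x := by
  have h := Nat.eq_of_beq_eq_true teWalk_ok
  have hb : bitF (maskOf ((walkM genL teWalkD 1385).map fun M => mApp M 1)) x = true := by
    rw [bitF_eq] at hte ⊢
    rw [← h] at hte
    have h2 := hte
    rw [show Nat.land teMask (maskOf ((walkM genL teWalkD 1385).map fun M => mApp M 1)) =
      teMask &&& maskOf ((walkM genL teWalkD 1385).map fun M => mApp M 1) from rfl, Nat.testBit_and,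
      Bool.and_eq_true] at h2
    exact h2.2
  obtain ⟨M, hM, e⟩ := List.mem_map.mp ((bitF_maskOf _).mp hb)
  exact ⟨M, F.walk_InM _ _ M hM, e⟩

/-- A good matrix occurs. -/
theorem good_InM {h : ℕ} (hg : Good h) : F.toFrame.InM h := by
  obtain ⟨M, hM, e⟩ := F.te_trans (mApp_lt h 1) (by
    rw [(hg.2.1 1 (by norm_num)).2]
    exact List.all_eq_true.mp span_ok.1 0 (List.mem_range.mpr (by norm_num)))
  obtain ⟨N, hN, n1, n2⟩ := F.inM_inv hM
  have hfix : mApp (mMul N h) 1 = 1 := by rw [mMul_app, ← e, ← mMul_app, n1, mId_app (by norm_num)]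
  have := F.good_fix ((F.inM_good hN).mul hg) hfix
  have heq : h = mMul M (mMul N h) := by rw [← mMul_assoc, n2, mId_mul hg.1]
  rw [heq]
  exact Frame.InM.mul F.toFrame hM this

end Std

end CfsgLib.J4Order
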