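/-
Involutory products fixing W are in the table, part 0.
-/
import Cfsg.Agent.Lib.J4Order.MatGroup
import Cfsg.Agent.Lib.J4Order.InvData

set_option autoImplicit false
set_option Elab.async false

namespace CfsgLib.J4Order

open Cfsg CfsgGolay

theorem prodIn_0 : prodInA invA ((redW.getD 0 ⟨0, 0, 0, 0⟩).M) Std.fixProd = true := by decide +kernel
theorem prodIn_1 : prodInA invA ((redW.getD 1 ⟨0, 0, 0, 0⟩).M) Std.fixProd = true := by decide +kernel
theorem prodIn_2 : prodInA invA ((redW.getD 2 ⟨0, 0, 0, 0⟩).M) Std.fixProd = true := by decide +kernel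
theorem prodIn_3 : prodInA invA ((redW.getD 3 ⟨0, 0, 0, 0⟩).M) Std.fixProd = true := by decide +kernel
theorem prodIn_4 : prodInA invA ((redW.getD 4 ⟨0, 0, 0, 0⟩).M) Std.fixProd = true := by decide +kernel
theorem prodIn_5 : prodInA invA ((redW.getD 5 ⟨0, 0, 0, 0⟩).M) Std.fixProd = true := by decide +kernel

end CfsgLib.J4Order
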