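/-
The images of W under the matrix group.
-/
import Cfsg.Agent.Lib.J4Order.GroupCheck
import Cfsg.Agent.Lib.J4Order.InvData

set_option autoImplicit false

namespace CfsgLib.J4Order

open Cfsg CfsgGolay

/-- The matrices moving W to its images. -/
def wMove : List ℕ := walkM genL wWalkD 76

/-- The images. -/
def wImages : List ℕ := wMove.map fun t => maskOf ((List.range 64).map (mApp t))

theorem wImages_eq : wImages = wMasks ∧ wMasks.length = 77 := by decide +kernel

theorem wDistinct : ((List.range 77).all fun i => (List.range 77).all fun k => Nat.beq i k ||
    (bW.take 6).any fun b => !(bitF (wMasks.getD k 0) (mApp (wMove.getD i 0) b))) = true := by decide +kernel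

theorem wClosed_gen : (genL.all fun g => wMove.all fun t =>
    intoSet wMasks (mMul g t) (bW.take 6)) = true := by decide +kernel

theorem wClosed_red : (([redW, redS, red1, red2, red3, red4, red5].flatMap fun L => L.map fun r => r.M).all fun g =>
    wMove.all fun t => intoSet wMasks (mMul g t) (bW.take 6)) = true := by decide +kernel

end CfsgLib.J4Order
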