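/-
The table contains every matrix of order at most two of the group.
-/
import Cfsg.Agent.Lib.J4Order.InvProd0
import Cfsg.Agent.Lib.J4Order.InvProd1
import Cfsg.Agent.Lib.J4Order.InvProd2
import Cfsg.Agent.Lib.J4Order.InvClosed0
import Cfsg.Agent.Lib.J4Order.InvClosed1
import Cfsg.Agent.Lib.J4Order.InvClosed2
import Cfsg.Agent.Lib.J4Order.InvClosed3
import Cfsg.Agent.Lib.J4Order.InvCheckA
import Cfsg.Agent.Lib.J4Order.InvSets

set_option autoImplicit false

namespace CfsgLib.J4Order

open Cfsg Subgroup CfsgGolay CfsgLib.JankoFour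

attribute [local irreducible] codeL octadL dodecadL slpCodes pcomp pmask cls inR rMask inW elW isPair colC fixedMask actC sqZ dig teMask qMask bitF mMul mApp mId pM wv redW redS red1 red2 red3 red4 red5 genSt genM genMi genLi teWalkD wWalkD wMasks invA maskOf tget wMove

theorem redW_len : redW.length = 18 := by decide +kernel

theorem bsA_sound (A : List ℕ) (x : ℕ) : ∀ fuel lo hi, hi ≤ 6304 → bsA A x fuel lo hi = true →
    ∃ i < 6304, tget 144 A i = x
  | 0, _, _, _, h => by simp [bsA] at h
  | fuel + 1, lo, hi, hhi, h => by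
    rw [bsA] at h
    by_cases hlt : lo < hi
    · rw [show Nat.blt lo hi = true from Nat.blt_eq ▸ hlt, cond_true] at h
      by_cases he : tget 144 A ((lo + hi) / 2) = x
      · exact ⟨_, by omega, he⟩
      · rw [show Nat.beq (tget 144 A ((lo + hi) / 2)) x = false from
          Bool.eq_false_iff.mpr fun e => he (Nat.eq_of_beq_eq_true e), cond_false] at h
        cases hb : Nat.blt (tget 144 A ((lo + hi) / 2)) x
        · rw [hb, cond_false] at h; exact bsA_sound A x fuel _ _ (by omega) h
        · rw [hb, cond_true] at h; exact bsA_sound A x fuel _ _ hhi h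
    · rw [show Nat.blt lo hi = false by rw [Bool.eq_false_iff, ne_eq, Nat.blt_eq]; exact hlt, cond_false] at h
      simp at h

theorem memA_sound {x : ℕ} (h : memA invA x = true) : ∃ i < 6304, tget 144 invA i = x :=
  bsA_sound invA x 16 0 6304 le_rfl h

theorem invA_nodup : ((List.range 6304).map (tget 144 invA)).Nodup := by
  have hstep : ∀ i, i + 1 < 6304 → tget 144 invA i < tget 144 invA (i + 1) := fun i hi =>
    Nat.blt_eq ▸ List.all_eq_true.mp sorted_ok i (List.mem_range.mpr (by omega))
  have hlt : ∀ d i, i + (d + 1) < 6304 → tget 144 invA i < tget 144 invA (i + (d + 1)) := by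
    intro d
    induction d with
    | zero => exact fun i hi => hstep i hi
    | succ d ih => exact fun i hi => (ih i (by omega)).trans (hstep (i + (d + 1)) hi)
  refine List.Nodup.map_on (fun a ha b hb e => ?_) List.nodup_range
  rw [List.mem_range] at ha hb
  rcases lt_trichotomy a b with h | h | h
  · obtain ⟨d, rfl⟩ := Nat.exists_eq_add_of_lt h
    exact absurd e (Nat.ne_of_lt (by rw [Nat.add_assoc]; exact hlt d a (by omega)))
  · exact h
  · obtain ⟨d, rfl⟩ := Nat.exists_eq_add_of_lt h
    exact absurd e.symm (Nat.ne_of_lt (by rw [Nat.add_assoc]; exact hlt d b (by omega)))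

theorem gen_conj {j : ℕ} (hj : j < 4) {x : ℕ} (h : memA invA x = true) :
    memA invA (mMul (genL.getD j 0) (mMul x (genLi.getD j 0))) = true := by
  obtain ⟨i, hi, rfl⟩ := memA_sound h
  interval_cases j
  · exact closed0_all hi
  · exact closed1_all hi
  · exact closed2_all hi
  · exact closed3_all hi

/-- Walks stay in a set closed under products. -/
theorem walk_prop (Q : ℕ → Prop) (h1 : Q mId) (hg : ∀ g ∈ genL, ∀ x, Q x → Q (mMul g x))
    (hid : ∀ x, Q x → Q (mMul mId x)) (D n : ℕ) : ∀ M ∈ walkM genL D n, Q M := by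
  suffices key : ∀ (ms : List ℕ) (st : List ℕ × List ℕ), (∀ x ∈ st.1, Q x) → (∀ x ∈ st.2, Q x) →
      ∀ x ∈ (ms.foldl (stepL genL) st).2, Q x by
    refine key _ _ ?_ ?_ <;>
    · intro x hx
      rw [List.mem_singleton] at hx
      subst hx
      exact h1
  intro ms
  induction ms with
  | nil => exact fun st _ h => h
  | cons m ms ih =>
    intro st ha hb
    rw [List.foldl_cons]
    obtain ⟨s1, s2⟩ := st
    cases hd : s1.drop (m / 8) with
    | nil => simp only [stepL, hd]; exact ih _ ha hb
    | cons x xs =>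
      simp only [stepL, hd]
      have hsub : ∀ y ∈ x :: xs, Q y := fun y hy => ha y (List.mem_of_mem_drop (hd ▸ hy))
      have hnew : Q (mMul (genL.getD (m % 8) mId) x) := by
        by_cases hi : m % 8 < genL.length
        · rw [List.getD_eq_getElem _ _ hi]; exact hg _ (List.getElem_mem hi) _ (hsub x List.mem_cons_self)
        · rw [List.getD_eq_default _ _ (not_lt.mp hi)]; exact hid _ (hsub x List.mem_cons_self)
      refine ih _ (fun y hy => ?_) fun y hy => ?_
      · rcases List.mem_cons.mp hy with rfl | hy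
        · exact hnew
        · exact hsub y hy
      · rcases List.mem_cons.mp hy with rfl | hy
        · exact hnew
        · exact hb y hy

theorem mem_wMask {m : ℕ} (hm : m ∈ wMasks) : ∃ t ∈ wMove, ∀ x, bitF m x = true ↔ ∃ w < 64, mApp t w = x := by
  rw [← wImages_eq.1, wImages, List.mem_map] at hm
  obtain ⟨t, ht, rfl⟩ := hm
  refine ⟨t, ht, fun x => ?_⟩
  rw [bitF_maskOf, List.mem_map]
  simp only [List.mem_range]

/-- The matrix carries one image of W into another. -/
def Into (g t : ℕ) : Prop := ∃ t' ∈ wMove, ∀ w < 64, ∃ w' < 64, mApp t' w' = mApp g (mApp t w)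

theorem into_of_check {g t : ℕ} (h : intoSet wMasks (mMul g t) (bW.take 6) = true) : Into g t := by
  obtain ⟨m, hm, hall⟩ := List.any_eq_true.mp h
  obtain ⟨t', ht', hmem⟩ := mem_wMask hm
  refine ⟨t', ht', ?_⟩
  have hl : ∀ l : List ℕ, (∀ y ∈ l, y ∈ bW.take 6) → ∀ u, ∃ w' < 64, mApp t' w' = mApp g (mApp t (xorCols l u)) := by
    intro l
    induction l with
    | nil => intro _ u; exact ⟨0, by norm_num, by rw [xorCols, mApp_zero, mApp_zero, mApp_zero]⟩
    | cons y l ih =>
      intro hy u
      obtain ⟨w', hw', e⟩ := ih (fun x hx => hy x (List.mem_cons_of_mem _ hx)) (u / 2)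
      rw [xorCols]
      split_ifs
      · obtain ⟨w'', hw'', e'⟩ := (hmem _).mp (List.all_eq_true.mp hall y (hy y List.mem_cons_self))
        exact ⟨w'' ^^^ w', Nat.xor_lt_two_pow (n := 6) hw'' hw', by rw [mApp_xor, e, e', mMul_app, mApp_xor, mApp_xor]⟩
      · exact ⟨w', hw', by rw [Nat.zero_xor]; exact e⟩
  intro w hw
  have hb : xorCols (bW.take 6) w = w := by
    have : ((List.range 64).all fun w => Nat.beq (xorCols (bW.take 6) w) w) = true := by decide +kernel
    exact Nat.eq_of_beq_eq_true (List.all_eq_true.mp this w (List.mem_range.mpr hw))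
  have := hl (bW.take 6) (fun _ h => h) w
  rwa [hb] at this

universe u

variable {G : Type u} [Group G] [Finite G] {z : G} {P E : Subgroup G} {c : Ctx z P E} {A : Subgroup MTwoTwo}
variable {o : c.Orb A} (F : Std o)

namespace Std

include F in
theorem into_all {g : ℕ} (hg : Good g) : ∀ t ∈ wMove, Into g t := by
  let Q : ℕ → Prop := fun h => ∀ t ∈ wMove, Into h t
  have hmul : ∀ a b, Q a → Q b → Q (mMul a b) := by
    intro a b ha hb t ht
    obtain ⟨t1, ht1, e1⟩ := hb t ht
    obtain ⟨t2, ht2, e2⟩ := ha t1 ht1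
    refine ⟨t2, ht2, fun w hw => ?_⟩
    obtain ⟨w1, hw1, f1⟩ := e1 w hw
    obtain ⟨w2, hw2, f2⟩ := e2 w1 hw1
    exact ⟨w2, hw2, by rw [mMul_app, ← f1, f2]⟩
  have hid : Q mId := fun t ht => ⟨t, ht, fun w hw => ⟨w, hw, by rw [mId_app (mApp_lt _ _)]⟩⟩
  have hr : ∀ L ∈ [redW, redS, red1, red2, red3, red4, red5], ∀ r ∈ L, Q r.M := fun L hL r hr t ht =>
    into_of_check (List.all_eq_true.mp (List.all_eq_true.mp wClosed_red r.M
      (List.mem_flatMap.mpr ⟨L, hL, List.mem_map.mpr ⟨r, hr, rfl⟩⟩)) t ht)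
  have hgen : ∀ g ∈ genL, Q g := fun g hg t ht =>
    into_of_check (List.all_eq_true.mp (List.all_eq_true.mp wClosed_gen g hg) t ht)
  have hstage : ∀ h ∈ stageProd, Q h := by
    intro h hh
    simp only [stageProd, List.mem_flatMap, List.mem_map] at hh
    obtain ⟨_, ⟨r1, h1, rfl⟩, _, ⟨r2, h2, rfl⟩, _, ⟨r3, h3, rfl⟩, _, ⟨r4, h4, rfl⟩, _, ⟨r5, h5, rfl⟩, rfl⟩ := hh
    exact hmul _ _ (hr red1 (by simp) _ h1) (hmul _ _ (hr red2 (by simp) _ h2) (hmul _ _ (hr red3 (by simp) _ h3)
      (hmul _ _ (hr red4 (by simp) _ h4) (hmul _ _ (hr red5 (by simp) _ h5) hid))))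
  have hfix : ∀ h ∈ fixProd, Q h := by
    intro h hh
    rw [fixProd, List.mem_append, List.mem_flatMap] at hh
    rcases hh with hm | ⟨_, hs, hm⟩
    · exact hstage _ hm
    · obtain ⟨r, hrm, rfl⟩ := List.mem_map.mp hs
      obtain ⟨h', hh', rfl⟩ := List.mem_map.mp hm
      exact hmul _ _ (hr redS (by simp) _ hrm) (hstage _ hh')
  have h := Nat.eq_of_beq_eq_true teWalk_ok
  have hte : bitF teMask (mApp g 1) = true := by
    rw [(hg.2.1 1 (by norm_num)).2]
    exact List.all_eq_true.mp span_ok.1 0 (List.mem_range.mpr (by norm_num))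
  have hb : bitF (maskOf ((walkM genL teWalkD 1385).map fun M => mApp M 1)) (mApp g 1) = true := by
    rw [bitF_eq] at hte ⊢
    rw [← h, show Nat.land teMask (maskOf ((walkM genL teWalkD 1385).map fun M => mApp M 1)) =
      teMask &&& maskOf ((walkM genL teWalkD 1385).map fun M => mApp M 1) from rfl, Nat.testBit_and,
      Bool.and_eq_true] at hte
    exact hte.2
  obtain ⟨M, hM, e⟩ := List.mem_map.mp ((bitF_maskOf _).mp hb)
  have hQM : Q M := walk_prop Q hid (fun a ha x hx => hmul a x (hgen a ha) hx) (fun x hx => hmul _ x hid hx) _ _ M hM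
  obtain ⟨N, hN, n1, n2⟩ := F.inM_inv (F.walk_InM _ _ M hM)
  have hfx : mApp (mMul N g) 1 = 1 := by rw [mMul_app, ← e, ← mMul_app, n1, mId_app (by norm_num)]
  have hQf := hfix _ (F.good_fix_mem ((F.inM_good hN).mul hg) hfx)
  have heq : g = mMul M (mMul N g) := by rw [← mMul_assoc, n2, mId_mul hg.1]
  rw [heq]
  exact hmul _ _ hQM hQf

include F in
/-- Every matrix of order at most two is in the table. -/
theorem inv_mem {g : ℕ} (hg : Good g) (hgg : mMul g g = mId) : memA invA g = true := by
  classical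
  have hget : ∀ i : Fin 77, wMove.getD i 0 ∈ wMove ∧ wMasks.getD i 0 = maskOf ((List.range 64).map (mApp (wMove.getD i 0))) := by
    intro i
    have hl : wMove.length = 77 := by
      rw [← wImages_eq.2, ← wImages_eq.1, wImages, List.length_map]
    have hi : (i : ℕ) < wMove.length := by rw [hl]; exact i.2
    refine ⟨by rw [List.getD_eq_getElem _ _ hi]; exact List.getElem_mem hi, ?_⟩
    have hi' : (i : ℕ) < wImages.length := by rw [wImages, List.length_map]; exact hi
    rw [← wImages_eq.1, List.getD_eq_getElem _ _ hi', List.getD_eq_getElem _ _ hi]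
    simp only [wImages, List.getElem_map]
  have hidx : ∀ t ∈ wMove, ∃ i : Fin 77, wMove.getD i 0 = t := by
    intro t ht
    obtain ⟨i, hi, e⟩ := List.mem_iff_getElem.mp ht
    have hl : wMove.length = 77 := by rw [← wImages_eq.2, ← wImages_eq.1, wImages, List.length_map]
    exact ⟨⟨i, by rw [← hl]; exact hi⟩, by rw [List.getD_eq_getElem _ _ hi]; exact e⟩
  have huniq : ∀ i k : Fin 77, (∀ w < 64, ∃ w' < 64, mApp (wMove.getD k 0) w' = mApp (wMove.getD i 0) w) → i = k := by
    intro i k h
    have hd := List.all_eq_true.mp (List.all_eq_true.mp wDistinct i (List.mem_range.mpr i.2)) k (List.mem_range.mpr k.2)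
    by_contra hne
    rw [show Nat.beq i k = false from Bool.eq_false_iff.mpr fun e => hne (Fin.ext (Nat.eq_of_beq_eq_true e)),
      Bool.false_or, List.any_eq_true] at hd
    obtain ⟨b, hb, e⟩ := hd
    have hb64 : b < 64 := by
      have : ((bW.take 6).all fun b => Nat.blt b 64) = true := by decide +kernel
      exact Nat.blt_eq ▸ List.all_eq_true.mp this b hb
    obtain ⟨w', hw', e'⟩ := h b hb64
    rw [(hget k).2] at e
    rw [(bitF_maskOf _).mpr (List.mem_map.mpr ⟨w', List.mem_range.mpr hw', e'⟩)] at e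
    simp at e
  have hσ : ∀ i : Fin 77, ∃ k : Fin 77, ∀ w < 64, ∃ w' < 64, mApp (wMove.getD k 0) w' = mApp g (mApp (wMove.getD i 0) w) := by
    intro i
    obtain ⟨t', ht', h'⟩ := F.into_all hg _ (hget i).1
    obtain ⟨k, rfl⟩ := hidx t' ht'
    exact ⟨k, h'⟩
  choose σ hσ using hσ
  have hinv : Function.Involutive σ := fun i => by
    refine (huniq i _ fun w hw => ?_).symm
    obtain ⟨w1, hw1, e1⟩ := hσ i w hw
    obtain ⟨w2, hw2, e2⟩ := hσ (σ i) w1 hw1
    refine ⟨w2, hw2, ?_⟩
    rw [e2, e1, ← mMul_app, hgg, mId_app (mApp_lt _ _)]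
  obtain ⟨i, hi⟩ : ∃ i, σ i = i := by
    haveI : Fact (Nat.Prime 2) := ⟨Nat.prime_two⟩
    have := Equiv.Perm.exists_fixed_point_of_prime (p := 2) (n := 1) (α := Fin 77) (σ := Function.Involutive.toPerm σ hinv)
      (by simp) (Equiv.ext fun x => by simp [pow_two, hinv x])
    exact this
  set t := wMove.getD i 0 with ht
  have htW : t ∈ walkM genL wWalkD 76 := by have h := (hget i).1; unfold wMove at h; rw [ht]; unfold wMove; exact h
  have htI : F.toFrame.InM t := F.walk_InM _ _ t htW
  obtain ⟨N, hN, n1, n2⟩ := F.inM_inv htI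
  set g' := mMul N (mMul g t) with hg'
  have hgood : Good g' := (F.inM_good hN).mul (hg.mul (F.inM_good htI))
  have hgg' : mMul g' g' = mId := by
    rw [hg']
    calc mMul (mMul N (mMul g t)) (mMul N (mMul g t))
        = mMul N (mMul g (mMul (mMul t N) (mMul g t))) := by simp only [mMul_assoc]
      _ = mMul N (mMul (mMul g g) t) := by rw [n2, mId_mul (mMul_lt _ _), mMul_assoc]
      _ = mId := by rw [hgg, mId_mul (F.inM_good htI).1, n1]
  have hW : ∀ w < 64, mApp g' w < 64 := by
    intro w hw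
    obtain ⟨w', hw', e⟩ := hσ i w hw
    rw [hi, ← ht] at e
    rw [hg', mMul_app, mMul_app, ← e, ← mMul_app, n1, mId_app (by omega)]
    exact hw'
  have hte : bitF teMask (mApp g' 1) = true := by
    rw [(hgood.2.1 1 (by norm_num)).2]
    exact List.all_eq_true.mp span_ok.1 0 (List.mem_range.mpr (by norm_num))
  have h1 := List.all_eq_true.mp redW_ok.2 _ (List.mem_range.mpr (hW 1 (by norm_num)))
  rw [hte, Bool.not_true, Bool.false_or, List.any_eq_true] at h1
  obtain ⟨r, hr, e⟩ := h1
  obtain ⟨hI, hIi, e1, e2⟩ := F.red_spec (List.all_eq_true.mp redW_ok.1 r hr)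
  have hfix : mApp (mMul r.Mi g') 1 = 1 := by
    rw [mMul_app, ← Nat.eq_of_beq_eq_true e, ← mMul_app, e1, mId_app (by norm_num)]
  have hp := F.good_fix_mem ((F.inM_good hIi).mul hgood) hfix
  have heq : mMul r.M (mMul r.Mi g') = g' := by rw [← mMul_assoc, e2, mId_mul hgood.1]
  have hprod : prodInA invA r.M fixProd = true := by
    obtain ⟨k, hk, hrk⟩ := List.mem_iff_getElem.mp hr
    have hrd : r.M = (redW.getD k ⟨0, 0, 0, 0⟩).M := by rw [List.getD_eq_getElem _ _ hk, hrk]
    rw [hrd]
    rw [redW_len] at hk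
    interval_cases k
    exacts [prodIn_0, prodIn_1, prodIn_2, prodIn_3, prodIn_4, prodIn_5, prodIn_6, prodIn_7, prodIn_8, prodIn_9,
      prodIn_10, prodIn_11, prodIn_12, prodIn_13, prodIn_14, prodIn_15, prodIn_16, prodIn_17]
  have hmem : memA invA g' = true := by
    have h := List.all_eq_true.mp hprod _ hp
    rw [heq] at h
    have q : ∀ x, x < 4096 → mApp r.M (mApp (mMul r.Mi g') (mApp r.M (mApp (mMul r.Mi g') x))) = x := fun x hx => by
      rw [← mMul_app r.M (mMul r.Mi g'), ← mMul_app r.M (mMul r.Mi g'), heq, ← mMul_app, hgg', mId_app hx]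
    rw [q 1 (by norm_num), q 65 (by norm_num), hgg', Nat.beq_refl, Nat.beq_refl, Nat.beq_refl] at h
    simpa using h
  have hconj : ∀ M ∈ walkM genL wWalkD 76, ∀ N, F.toFrame.InM N → mMul N M = mId →
      ∀ x, memA invA x = true → memA invA (mMul M (mMul x N)) = true := by
    have key := walk_prop (fun M => F.toFrame.InM M ∧ ∀ N, F.toFrame.InM N → mMul N M = mId →
      ∀ x, memA invA x = true → memA invA (mMul M (mMul x N)) = true) ?_ ?_ ?_ wWalkD 76
    · exact fun M hM => (key M hM).2
    · refine ⟨Frame.InM.one F.toFrame, fun N hN e x hx => ?_⟩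
      rw [mMul_id (F.inM_good hN).1] at e
      obtain ⟨j, -, rfl⟩ := memA_sound hx
      rw [e, mId_mul (mMul_lt _ _), mMul_id (tget_lt _ _)]
      exact hx
    · intro a ha M ⟨hM, hMc⟩
      refine ⟨Frame.InM.mul F.toFrame (F.genL_InM ha) hM, fun N hN e x hx => ?_⟩
      obtain ⟨j, hj, hja⟩ := List.mem_iff_getElem.mp ha
      rw [closedA_ok.1] at hj
      have hzip := List.all_eq_true.mp closedA_ok.2.2 (genL.getD j 0, genLi.getD j 0) (by
        rw [List.getD_eq_getElem _ _ (by rw [closedA_ok.1]; exact hj),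
          List.getD_eq_getElem _ _ (by rw [closedA_ok.2.1]; exact hj)]
        exact List.mem_iff_getElem.mpr ⟨j, by rw [List.length_zip, closedA_ok.1, closedA_ok.2.1]; simpa using hj,
          by rw [List.getElem_zip]⟩)
      simp only [Bool.and_eq_true, Nat.blt_eq, Nat.beq_eq] at hzip
      have haj : a = genL.getD j 0 := by rw [List.getD_eq_getElem _ _ (by rw [closedA_ok.1]; exact hj)]; exact hja.symm
      obtain ⟨hgi, hgi'⟩ := F.inM_left (F.genL_InM ha) hzip.1 (by rw [haj]; exact hzip.2)
      have hNa : mMul (mMul N a) M = mId := by rw [mMul_assoc]; exact e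
      have h1 := hMc _ (Frame.InM.mul F.toFrame hN (F.genL_InM ha)) hNa x hx
      have h2 := gen_conj hj h1
      rw [← haj] at h2
      have : mMul a (mMul (mMul M (mMul x (mMul N a))) (genLi.getD j 0)) = mMul (mMul a M) (mMul x N) := by
        simp only [mMul_assoc]
        rw [hgi', mMul_id (F.inM_good hN).1]
      rwa [this] at h2
    · intro M ⟨hM, hMc⟩
      refine ⟨Frame.InM.mul F.toFrame (Frame.InM.one F.toFrame) hM, fun N hN e x hx => ?_⟩
      rw [mId_mul (F.inM_good hM).1] at e ⊢
      exact hMc N hN e x hx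
  have := hconj t htW N hN n1 g' hmem
  have e3 : mMul t (mMul g' N) = g := by
    rw [hg']
    calc mMul t (mMul (mMul N (mMul g t)) N) = mMul (mMul t N) (mMul g (mMul t N)) := by simp only [mMul_assoc]
      _ = g := by rw [n2, mMul_id hg.1, mId_mul hg.1]
  rwa [e3] at this
where
  tget_lt (A : List ℕ) (i : ℕ) : tget 144 A i < 2 ^ 144 := by
    unfold tget; exact Nat.mod_lt _ (Nat.two_pow_pos 144)

end Std

end CfsgLib.J4Order
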