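/-
The orbits form a partition of the table, case Z2.
-/
import Cfsg.Agent.Lib.J4Order.ZData

set_option autoImplicit false
set_option Elab.async false

namespace CfsgLib.J4Order

open Cfsg CfsgGolay

theorem partZ2_0 : partBlk (pairsOf gensZ2) (rowsZ2.map fun R => R.b) partZ2 0 = true := by decide +kernel

theorem partZ2_1 : partBlk (pairsOf gensZ2) (rowsZ2.map fun R => R.b) partZ2 788 = true := by decide +kernel

theorem partZ2_2 : partBlk (pairsOf gensZ2) (rowsZ2.map fun R => R.b) partZ2 1576 = true := by decide +kernel

theorem partZ2_3 : partBlk (pairsOf gensZ2) (rowsZ2.map fun R => R.b) partZ2 2364 = true := by decide +kernel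

theorem partZ2_4 : partBlk (pairsOf gensZ2) (rowsZ2.map fun R => R.b) partZ2 3152 = true := by decide +kernel

theorem partZ2_5 : partBlk (pairsOf gensZ2) (rowsZ2.map fun R => R.b) partZ2 3940 = true := by decide +kernel

theorem partZ2_6 : partBlk (pairsOf gensZ2) (rowsZ2.map fun R => R.b) partZ2 4728 = true := by decide +kernel

theorem partZ2_7 : partBlk (pairsOf gensZ2) (rowsZ2.map fun R => R.b) partZ2 5516 = true := by decide +kernel

theorem partZ2_all {p : ℕ} (hp : p < 6304) : partPos (pairsOf gensZ2) (rowsZ2.map fun R => R.b) partZ2 p = true := by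
  have key : ∀ lo, partBlk (pairsOf gensZ2) (rowsZ2.map fun R => R.b) partZ2 lo = true → lo ≤ p → p < lo + 788 →
      partPos (pairsOf gensZ2) (rowsZ2.map fun R => R.b) partZ2 p = true := fun lo h h1 h2 =>
    List.all_eq_true.mp h p (List.mem_range'_1.mpr ⟨h1, h2⟩)
  by_cases h0 : p < 788
  · exact key _ partZ2_0 (by omega) (by omega)
  by_cases h1 : p < 1576
  · exact key _ partZ2_1 (by omega) (by omega)
  by_cases h2 : p < 2364
  · exact key _ partZ2_2 (by omega) (by omega)
  by_cases h3 : p < 3152
  · exact key _ partZ2_3 (by omega) (by omega)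
  by_cases h4 : p < 3940
  · exact key _ partZ2_4 (by omega) (by omega)
  by_cases h5 : p < 4728
  · exact key _ partZ2_5 (by omega) (by omega)
  by_cases h6 : p < 5516
  · exact key _ partZ2_6 (by omega) (by omega)
  exact key _ partZ2_7 (by omega) (by omega)

end CfsgLib.J4Order
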