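/-
Checks for the rows over the identity.
-/
import Cfsg.Agent.Lib.J4Order.ZData

set_option autoImplicit false
set_option Elab.async false

namespace CfsgLib.J4Order

open Cfsg CfsgGolay

theorem cent0_ok : centOK repM0 gensZ0 = true := by decide +kernel

theorem dataZ0_ok : rowsZ0.all (zRowData repM0) = true := by decide +kernel

theorem valsZ0_ok : rowsZ0.all (fun R => Nat.beq (valY tabT0 R) R.val) = true := by decide +kernel

/-- The reduction over the identity: every marked word has pair type. -/
def redTe (R : ZRow) : Bool :=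
  match R.red with
  | [(r, m)] => Nat.beq r 1 && Nat.beq ((List.range 4096).countP fun y => !(Nat.beq (cnt1 R y) 0)) m &&
      (List.range 4096).all fun y => Nat.beq (cnt1 R y) 0 || bitF teMask y
  | _ => false

theorem redY_ok : rowsZ0.all (fun R => cond (Nat.beq R.b mId) (redTe R)
    (redOKL (imMask R.b) (fun y => !(Nat.beq (cnt1 R y) 0)) R.red)) = true ∧
    rowsZ0.all (fun R => R.red.all fun p => Nat.blt p.1 4096) = true ∧
    (rowsZ0 ++ rowsZ1 ++ rowsZ2).all (fun R => Nat.blt R.b (2 ^ 144)) = true := by decide +kernel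

theorem reps_Z : repMs.all (fun M => Nat.beq (mMul M M) mId) = true ∧ rowsZ0.length ≤ 64 := by decide +kernel

theorem totals_Z : partSum (rowsZ0.map fun R => R.val) partZ0 = totZ0 ∧
    partSum (rowsZ1.map fun R => R.val) partZ1 = totZ1 ∧
    partSum (rowsZ2.map fun R => R.val) partZ2 = totZ2 ∧
    partSum [totZ0, totZ1, totZ2, 0] partCls = 29236337328 ∧
    ((List.range 4096).all fun x => Nat.beq (cnt0 tabT3 x) 0) = true := by decide +kernel

end CfsgLib.J4Order
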