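/-
Checks for the rows over class 1.
-/
import Cfsg.Agent.Lib.J4Order.ZData

set_option autoImplicit false
set_option Elab.async false

namespace CfsgLib.J4Order

open Cfsg CfsgGolay

theorem cent1_ok : centOK repM1 gensZ1 = true := by decide +kernel

theorem redX1_ok : redOKL (imMask repM1) (fun x => !(Nat.beq (cnt0 tabT1 x) 0)) redX1 = true := by decide +kernel

theorem dataZ1_0_ok : rowsZ1_0.all (fun R => zRowData repM1 R && Nat.beq (valX repM1 tabT1 redX1 R) R.val) = true := by
  decide +kernel

theorem dataZ1_1_ok : rowsZ1_1.all (fun R => zRowData repM1 R && Nat.beq (valX repM1 tabT1 redX1 R) R.val) = true := by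
  decide +kernel

theorem dataZ1_2_ok : rowsZ1_2.all (fun R => zRowData repM1 R && Nat.beq (valX repM1 tabT1 redX1 R) R.val) = true := by
  decide +kernel

theorem dataZ1_3_ok : rowsZ1_3.all (fun R => zRowData repM1 R && Nat.beq (valX repM1 tabT1 redX1 R) R.val) = true := by
  decide +kernel

theorem dataZ1_ok : rowsZ1.all (fun R => zRowData repM1 R && Nat.beq (valX repM1 tabT1 redX1 R) R.val) = true := by
  simp only [rowsZ1, List.all_append, dataZ1_0_ok, dataZ1_1_ok, dataZ1_2_ok, dataZ1_3_ok, Bool.and_self]

end CfsgLib.J4Order
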