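/-
Checks for the rows over class 2.
-/
import Cfsg.Agent.Lib.J4Order.ZData

set_option autoImplicit false
set_option Elab.async false

namespace CfsgLib.J4Order

open Cfsg CfsgGolay

theorem cent2_ok : centOK repM2 gensZ2 = true := by decide +kernel

theorem redX2_ok : redOKL (imMask repM2) (fun x => !(Nat.beq (cnt0 tabT2 x) 0)) redX2 = true := by decide +kernel

theorem dataZ2_0_ok : rowsZ2_0.all (fun R => zRowData repM2 R && Nat.beq (valX repM2 tabT2 redX2 R) R.val) = true := by
  decide +kernel

theorem dataZ2_1_ok : rowsZ2_1.all (fun R => zRowData repM2 R && Nat.beq (valX repM2 tabT2 redX2 R) R.val) = true := by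
  decide +kernel

theorem dataZ2_2_ok : rowsZ2_2.all (fun R => zRowData repM2 R && Nat.beq (valX repM2 tabT2 redX2 R) R.val) = true := by
  decide +kernel

theorem dataZ2_3_ok : rowsZ2_3.all (fun R => zRowData repM2 R && Nat.beq (valX repM2 tabT2 redX2 R) R.val) = true := by
  decide +kernel

theorem dataZ2_ok : rowsZ2.all (fun R => zRowData repM2 R && Nat.beq (valX repM2 tabT2 redX2 R) R.val) = true := by
  simp only [rowsZ2, List.all_append, dataZ2_0_ok, dataZ2_1_ok, dataZ2_2_ok, dataZ2_3_ok, Bool.and_self]

end CfsgLib.J4Order
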