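/-
Computable tables of the types of the lifts of words over a normalizing element.
-/
import Cfsg.Agent.Lib.J4Order.EModel

set_option autoImplicit false

namespace CfsgLib.J4Order

open Cfsg CfsgGolay

/-- The type of one lift: nothing, central class, other class. -/
def lTy (b m s : ℕ) : ℕ :=
  cond (Nat.beq b pid) (cond (Nat.beq s 0) 0 (cond (isPair s) 2 1)) (cond (bitF m s) 1 2)

/-- One entry: both counts and the square. -/
def entB (b : ℕ) (cb : List ℕ) (m s : ℕ) : ℕ :=
  cond (Nat.beq (pcomp b b) pid)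
    (cond (Nat.beq (amul cb s) s)
      ((cond (Nat.beq (lTy b m s) 1) 1 0 + cond (Nat.beq (lTy b m (Nat.xor s zsC)) 1) 1 0) +
        4 * (cond (Nat.beq (lTy b m s) 2) 1 0 + cond (Nat.beq (lTy b m (Nat.xor s zsC)) 2) 1 0))
      (cond (Nat.beq (Nat.xor s (amul cb s)) zsC) 16 0)) 0

/-- A byte of a table. -/
def dig (T x : ℕ) : ℕ := Nat.land (Nat.shiftRight T (8 * x)) 255

/-- The count of the first class. -/
def c0D (d : ℕ) : ℕ := d % 4

/-- The count of the other class. -/
def c1D (d : ℕ) : ℕ := d / 4 % 4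

/-- The square is central and not trivial. -/
def flD (d : ℕ) : Bool := Nat.beq (d / 16) 1

/-- One row against the table. -/
def rowEqB (T n : ℕ) (ce : List ℕ) (v b : ℕ) (cb : List ℕ) (m : ℕ) : Bool :=
  (List.range 64).all fun j => Nat.beq (entB b cb m (Nat.xor (wv j) (amul ce v))) (dig T (64 * n + j))

/-- The table is right. -/
def tabOKC (v a T : ℕ) : Bool :=
  (List.range 64).all fun n =>
    rowEqB T n (colC (elW sxN n)) v (pcomp (elW sxN n) a) (colC (pcomp (elW sxN n) a)) (rMask (pcomp (elW sxN n) a)) &&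
    Nat.beq (amul (colC (pcomp (elW sxN n) a)) zsC) zsC

end CfsgLib.J4Order
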