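/-
Computable pieces of the count of pairs of involutions with product powering to the central involution.
-/
import Cfsg.Agent.Lib.J4Order.GroupData
import Cfsg.Agent.Lib.J4Order.InvData
import Cfsg.Agent.Lib.J4Order.CountDefs
import Cfsg.Agent.Lib.J4Order.TabDefs

set_option autoImplicit false

namespace CfsgLib.J4Order

open Cfsg CfsgGolay

/-- The generators with their inverses. -/
def letters : List ℕ := genSt.map (fun r => r.M) ++ [genM] ++ genLi

/-- The matrix of a word in the letters. -/
def wordM : List ℕ → ℕ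
  | [] => mId
  | i :: w => mMul (letters.getD i mId) (wordM w)

/-- A conjugator: word, matrix, inverse. -/
structure Cnj where
  /-- the word -/
  w : List ℕ
  /-- the matrix -/
  c : ℕ
  /-- the inverse matrix -/
  ci : ℕ

/-- A conjugator is right. -/
def cnjOK (k : Cnj) : Bool :=
  Nat.beq (wordM k.w) k.c && Nat.blt k.ci (2 ^ 144) && Nat.beq (mMul k.ci k.c) mId

/-- Conjugate of a matrix. -/
def conjM (g : ℕ × ℕ) (x : ℕ) : ℕ := mMul g.1 (mMul x g.2)

/-- The pairs of matrices of conjugators. -/
def pairsOf (cs : List Cnj) : List (ℕ × ℕ) := cs.map fun k => (k.c, k.ci)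

/-- A row: an orbit with the data for its value. -/
structure ZRow where
  /-- the root -/
  b : ℕ
  /-- the value -/
  val : ℕ
  /-- the class of the root -/
  o : ℕ
  /-- conjugator of the root to its representative -/
  k2 : Cnj
  /-- the order of the product -/
  ord : ℕ
  /-- the class of the involutory power -/
  oh : ℕ
  /-- conjugator of the involutory power to its representative -/
  kh : Cnj
  /-- matrix of the sum over all powers -/
  Sm : ℕ
  /-- matrix of the moved half sum -/
  Fm : ℕ
  /-- representatives with multiplicities -/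
  red : List (ℕ × ℕ)

/-- The four representatives. -/
def repMs : List ℕ := [repM0, repM1, repM2, repM3]

/-- The four tables. -/
def tabs : List ℕ := [tabT0, tabT1, tabT2, tabT3]

/-- Powers of a matrix. -/
def mPow (M : ℕ) : ℕ → ℕ
  | 0 => mId
  | n + 1 => mMul M (mPow M n)

/-- Sum of the images under the first powers. -/
def sumM (M : ℕ) : ℕ → ℕ → ℕ
  | 0, _ => 0
  | n + 1, t => Nat.xor t (sumM M n (mApp M t))

/-- The data of a row for the first matrix `a`. -/
def zRowData (a : ℕ) (R : ZRow) : Bool :=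
  Nat.blt R.o 4 && cnjOK R.k2 && Nat.beq (conjM (R.k2.c, R.k2.ci) R.b) (repMs.getD R.o 0) &&
    Nat.blt 0 R.ord && Nat.beq (mPow (mMul a R.b) R.ord) mId &&
    ((List.range R.ord).all fun i => Nat.beq i 0 || !(Nat.beq (mPow (mMul a R.b) i) mId)) &&
    Nat.beq (mkR 12 (sumM (mMul a R.b) R.ord)) R.Sm &&
    (Nat.beq (R.ord % 2) 1 || (Nat.blt R.oh 4 && cnjOK R.kh &&
      Nat.beq (conjM (R.kh.c, R.kh.ci) (mPow (mMul a R.b) (R.ord / 2))) (repMs.getD R.oh 0) &&
      Nat.beq (mkR 12 fun t => mApp R.kh.c (sumM (mMul a R.b) (R.ord / 2) t)) R.Fm))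

/-- The hit test on a class. -/
def hitW (R : ZRow) (t : ℕ) : Bool :=
  cond (Nat.beq (mApp R.Sm t) 0) (Nat.beq (R.ord % 2) 1 || flD (dig (tabs.getD R.oh 0) (mApp R.Fm t)))
    (bitF qMask (mApp R.Sm t))

/-- Lifts of the first class. -/
def cnt0 (T x : ℕ) : ℕ := c0D (dig T x)

/-- Lifts of the second class over the root. -/
def cnt1 (R : ZRow) (y : ℕ) : ℕ := c1D (dig (tabs.getD R.o 0) (mApp R.k2.c y))

/-- A sum over all words. -/
def sumN (f : ℕ → ℕ) : ℕ → ℕ
  | 0 => 0
  | n + 1 => f n + sumN f n

/-- A sum over all words, in blocks. -/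
def sum4096 (f : ℕ → ℕ) : ℕ := sumN (fun a => sumN (fun b => f (64 * a + b)) 64) 64

/-- A weighted sum over a list. -/
def sumL (f : ℕ → ℕ) : List (ℕ × ℕ) → ℕ
  | [] => 0
  | p :: l => p.2 * f p.1 + sumL f l

/-- The value with the first factor reduced. -/
def valX (a T : ℕ) (LX : List (ℕ × ℕ)) (R : ZRow) : ℕ :=
  sum4096 (fun y => cond (Nat.beq (cnt1 R y) 0) 0
    (cnt1 R y * sumL (fun r => cond (hitW R (Nat.xor r (mApp a y))) (cnt0 T r) 0) LX))

/-- The value with the second factor reduced. -/
def valY (T : ℕ) (R : ZRow) : ℕ :=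
  sum4096 (fun x => cond (Nat.beq (cnt0 T x) 0) 0
    (cnt0 T x * sumL (fun y => cond (hitW R (Nat.xor x y)) (cnt1 R y) 0) R.red))

/-- The words moved by a matrix. -/
def imMask (M : ℕ) : ℕ := maskOf (spanList ((List.range 12).map fun i => Nat.xor (2 ^ i) (mApp M (2 ^ i))))

/-- Reduction: the representatives and multiplicities of the marked words. -/
def redOKL (mask : ℕ) (mark : ℕ → Bool) (L : List (ℕ × ℕ)) : Bool :=
  decide ((L.map fun p => p.1).Nodup) &&
  ((List.range 4096).all fun x => !(mark x) || (L.any fun p => bitF mask (Nat.xor x p.1))) &&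
    L.all fun p => Nat.blt p.1 4096 && Nat.beq ((List.range 4096).countP fun x => mark x &&
      ((L.find? fun q => bitF mask (Nat.xor x q.1)).map fun q => q.1) == some p.1) p.2

/-- A digit of a packed list of small numbers. -/
def dg16 (D p : ℕ) : ℕ := Nat.land (Nat.shiftRight D (16 * p)) 65535

/-- A sum below 6304, in blocks. -/
def sumI (f : ℕ → ℕ) : ℕ := sumN (fun a => sumN (fun b => f (197 * a + b)) 197) 32

/-- A partition of the table into orbits: indices, parents, orbit numbers, positions. -/
structure Part where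
  /-- index in the table -/
  I : ℕ
  /-- parent position and generator -/
  P : ℕ
  /-- orbit number -/
  R : ℕ
  /-- position of an index -/
  L : ℕ

/-- One position of a partition. -/
def partPos (gens : List (ℕ × ℕ)) (roots : List ℕ) (Q : Part) (p : ℕ) : Bool :=
  Nat.blt (dg16 Q.I p) 6304 && Nat.beq (dg16 Q.L (dg16 Q.I p)) p && Nat.blt (dg16 Q.R p) roots.length &&
    cond (Nat.beq (dg16 Q.P p) 65535) (Nat.beq (tget 144 invA (dg16 Q.I p)) (roots.getD (dg16 Q.R p) 0))
      (Nat.blt (dg16 Q.P p / 8) p && Nat.beq (dg16 Q.R (dg16 Q.P p / 8)) (dg16 Q.R p) &&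
        Nat.beq (conjM (gens.getD (dg16 Q.P p % 8) (mId, mId)) (tget 144 invA (dg16 Q.I (dg16 Q.P p / 8))))
          (tget 144 invA (dg16 Q.I p)))

/-- A block of positions of a partition. -/
def partBlk (gens : List (ℕ × ℕ)) (roots : List ℕ) (Q : Part) (lo : ℕ) : Bool :=
  (List.range' lo 788).all (partPos gens roots Q)

/-- The weighted total of a partition. -/
def partSum (vals : List ℕ) (Q : Part) : ℕ := sumI fun p => vals.getD (dg16 Q.R p) 0

/-- Generators centralizing a matrix. -/
def centOK (a : ℕ) (cs : List Cnj) : Bool := cs.all fun k => cnjOK k && Nat.beq (mMul k.c a) (mMul a k.c)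

end CfsgLib.J4Order
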