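/-
Coordinates on the centralizer of the central involution: word and matrix.
-/
import Cfsg.Agent.Lib.J4Order.MatGroup
import Cfsg.Agent.Lib.J4Order.ZDefs
import Cfsg.Agent.Lib.J4Order.Hit

set_option autoImplicit false

namespace CfsgLib.J4Order

open Cfsg Subgroup CfsgGolay CfsgLib.JankoFour

attribute [local irreducible] codeL octadL dodecadL slpCodes pcomp pmask cls inR rMask inW elW isPair colC fixedMask actC sqZ dig teMask qMask bitF mMul mApp mId pM wv tabT0 tabT1 tabT2 tabT3 repM0 repM1 repM2 repM3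

universe u

variable {G : Type u} [Group G] [Finite G] {z : G} {P E : Subgroup G} {c : Ctx z P E} {A : Subgroup MTwoTwo}
variable {o : c.Orb A} (F : Std o)

namespace Std

/-- An element with the word and the matrix. -/
def Pos (h : G) (x M : ℕ) : Prop := ∃ e n, n ∈ F.toFrame.NP ∧ h = e * n ∧ F.toFrame.Cl e x ∧ F.toFrame.IsMat n M

theorem pos_cen {h : G} {x M : ℕ} (hp : F.Pos h x M) : h ∈ centralizer ({z} : Set G) := by
  obtain ⟨e, n, hn, rfl, he, -⟩ := hp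
  exact mul_mem (c.Ez (Frame.Cl.mem F.toFrame he)) hn.1

theorem E_inf_NP {e : G} (he : e ∈ E) (hn : e ∈ F.toFrame.NP) : e ∈ zpowers z := by
  refine c.fpf e he fun q hq => ?_
  have h1 : e * q * e⁻¹ * q⁻¹ ∈ P := mul_mem ((mem_normalizer_iff.mp hn.2 q).mp hq) (inv_mem hq)
  have h2 : e * q * e⁻¹ * q⁻¹ ∈ E := by
    rw [show e * q * e⁻¹ * q⁻¹ = e * (q * e⁻¹ * q⁻¹) by group]
    exact mul_mem he (c.conj_E (c.P_le hq) (inv_mem he))
  have h3 := c.three_not_E h1 h2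
  calc q * e = (e * q * e⁻¹ * q⁻¹) * (q * e) := by rw [h3, one_mul]
    _ = e * q := by group

theorem z_mat : F.toFrame.IsMat z mId := ⟨mId_lt, fun e x he => by
  rw [mId_app he.1, show z * e * z⁻¹ = e by
    rw [← mem_centralizer_singleton_iff.mp (c.Ez (Frame.Cl.mem F.toFrame he)), mul_inv_cancel_right]]
  exact he⟩

theorem pos_uniq {h : G} {x y M N : ℕ} (hp : F.Pos h x M) (hq : F.Pos h y N) : x = y ∧ M = N := by
  obtain ⟨e, n, hn, rfl, he, hM⟩ := hp
  obtain ⟨e', n', hn', e1, he', hN⟩ := hq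
  have hd : n' * n⁻¹ = e'⁻¹ * e := by
    rw [eq_inv_mul_iff_mul_eq, ← mul_assoc, ← e1, mul_inv_cancel_right]
  have hmem : n' * n⁻¹ ∈ zpowers z :=
    F.E_inf_NP (hd ▸ mul_mem (inv_mem (Frame.Cl.mem F.toFrame he')) (Frame.Cl.mem F.toFrame he)) (mul_mem hn' (inv_mem hn))
  have hn'eq : n' = n' * n⁻¹ * n := by group
  rcases c.mem_Z.mp hmem with h1 | h1 <;> rw [h1] at hn'eq
  · rw [one_mul] at hn'eq
    subst hn'eq
    rw [mul_right_cancel e1] at he
    exact ⟨Frame.Cl.uniq F.toFrame he he', F.toFrame.isMat_uniq hM hN⟩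
  · subst hn'eq
    rw [← mul_assoc] at e1
    rw [mul_right_cancel e1] at he
    refine ⟨Frame.Cl.uniq F.toFrame he (Frame.Cl.zmul F.toFrame he'), ?_⟩
    have := F.toFrame.isMat_mul F.z_mat hM
    rw [mId_mul hM.1] at this
    exact F.toFrame.isMat_uniq this hN

theorem pos_mul {h k : G} {x y M N : ℕ} (hp : F.Pos h x M) (hq : F.Pos k y N) :
    F.Pos (h * k) (x ^^^ mApp M y) (mMul M N) := by
  obtain ⟨e, n, hn, rfl, he, hM⟩ := hp
  obtain ⟨e', n', hn', rfl, he', hN⟩ := hq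
  exact ⟨e * (n * e' * n⁻¹), n * n', mul_mem hn hn', by group, Frame.Cl.mul F.toFrame he (hM.2 _ _ he'),
    F.toFrame.isMat_mul hM hN⟩

theorem pos_one : F.Pos 1 0 mId := ⟨1, 1, one_mem _, by rw [mul_one], Frame.Cl.one F.toFrame, F.toFrame.isMat_one⟩

theorem pos_E {e : G} {x : ℕ} (he : F.toFrame.Cl e x) : F.Pos e x mId :=
  ⟨e, 1, one_mem _, by rw [mul_one], he, F.toFrame.isMat_one⟩

theorem pos_z : F.Pos z 0 mId := F.pos_E (Frame.Cl.zc F.toFrame)

theorem pos_trivial {h : G} {x : ℕ} (hp : F.Pos h x mId) : F.toFrame.Cl h x := by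
  obtain ⟨e, n, hn, rfl, he, hM⟩ := hp
  rcases c.mem_Z.mp (F.toFrame.faithful F.hgen F.p_mat hn hM) with h | h <;> rw [h]
  · rwa [mul_one]
  · exact Frame.Cl.zmul F.toFrame he

theorem exists_pos (hinv : ∃ n ∈ centralizer ({z} : Set G), ∀ q ∈ P, n * q * n⁻¹ = q⁻¹) {h : G}
    (hh : h ∈ centralizer ({z} : Set G)) : ∃ x M, F.Pos h x M := by
  obtain ⟨e, he, n, hn, rfl⟩ : ∃ e ∈ E, ∃ n ∈ F.toFrame.NP, h = e * n := by
    by_cases h0 : h ∈ c.H0
    · obtain ⟨e, he, n, hn, rfl⟩ := c.decomp h h0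
      exact ⟨e, he, n, ⟨hn.1, centralizer_le_normalizer (P : Set G) hn.2⟩, rfl⟩
    · obtain ⟨e, he, n, hn, rfl, hn'⟩ := c.outer h hh h0
      refine ⟨e, he, n, ⟨hn, mem_norm_of fun q hq => ?_⟩, rfl⟩
      rw [hn' q hq]; exact inv_mem hq
  obtain ⟨x, hx⟩ := F.toFrame.exists_Cl he
  obtain ⟨M, hM⟩ := F.toFrame.exists_mat hn.1
  exact ⟨x, M, e, n, hn, rfl, hx, hM⟩

theorem pos_invol {u : G} {x M : ℕ} (hu : u * u = 1) (hp : F.Pos u x M) : mMul M M = mId ∧ mApp M x = x := by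
  have h := F.pos_mul hp hp
  rw [hu] at h
  obtain ⟨h1, h2⟩ := F.pos_uniq h F.pos_one
  exact ⟨h2, xor_left_inj' (a := x) (by rw [h1, Nat.xor_self])⟩

theorem pos_conj {h nc : G} {x M C Ci : ℕ} (hn : nc ∈ F.toFrame.NP) (hC : F.toFrame.IsMat nc C)
    (hi : mMul Ci C = mId) (hil : Ci < 2 ^ 144) (hp : F.Pos h x M) :
    F.Pos (nc * h * nc⁻¹) (mApp C x) (mMul C (mMul M Ci)) := by
  obtain ⟨e, n, hn', rfl, he, hM⟩ := hp
  obtain ⟨N, hN⟩ := F.toFrame.exists_mat (inv_mem hn.1)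
  have hNi : mMul C N = mId := F.toFrame.isMat_uniq (F.toFrame.isMat_mul hC hN)
    (by rw [mul_inv_cancel]; exact F.toFrame.isMat_one)
  have hCi : N = Ci := by rw [← mId_mul hN.1, ← hi, mMul_assoc, hNi, mMul_id hil]
  subst hCi
  exact ⟨nc * e * nc⁻¹, nc * n * nc⁻¹, mul_mem (mul_mem hn hn') (inv_mem hn), by group, hC.2 _ _ he,
    by rw [← mMul_assoc]; exact F.toFrame.isMat_mul (F.toFrame.isMat_mul hC hM) hN⟩

theorem pos_pow {h : G} {x M : ℕ} (hp : F.Pos h x M) : ∀ i, F.Pos (h ^ i) (sumM M i x) (mPow M i)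
  | 0 => by rw [pow_zero, mPow, sumM]; exact F.pos_one
  | i + 1 => by
    have := F.pos_mul hp (pos_pow hp i)
    rw [← pow_succ'] at this
    have e : ∀ i t, sumM M i (mApp M t) = mApp M (sumM M i t) := by
      intro i
      induction i with
      | zero => intro t; rw [sumM, sumM, mApp_zero]
      | succ i ih =>
        intro t
        rw [sumM, sumM, show Nat.xor t (sumM M i (mApp M t)) = t ^^^ sumM M i (mApp M t) from rfl, mApp_xor, ih (mApp M t)]
        rfl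
    rw [sumM, mPow, show Nat.xor x (sumM M i (mApp M x)) = x ^^^ sumM M i (mApp M x) from rfl, e]
    exact this

theorem pos_fibre {n h : G} {x M : ℕ} (hn : n ∈ F.toFrame.NP) (hM : F.toFrame.IsMat n M) :
    F.Pos h x M ↔ x < 4096 ∧ (h = F.toFrame.eEl x * n ∨ h = F.toFrame.eEl x * n * z) := by
  have hzn : n * z = z * n := mem_centralizer_singleton_iff.mp hn.1
  constructor
  · rintro ⟨e, m, hm, rfl, he, hM'⟩
    obtain ⟨hx, he'⟩ := id he
    obtain ⟨N, hN, n1, -⟩ := F.inM_inv ⟨n, hn, hM⟩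
    obtain ⟨N', hN'⟩ := F.toFrame.exists_mat (inv_mem hn.1)
    have hI : F.toFrame.IsMat (n⁻¹ * m) mId := by
      have h1 := F.toFrame.isMat_mul hN' hM'
      rwa [F.toFrame.isMat_uniq (F.toFrame.isMat_mul hN' hM) (by rw [inv_mul_cancel]; exact F.toFrame.isMat_one)] at h1
    have hd := F.toFrame.faithful F.hgen F.p_mat (mul_mem (inv_mem hn) hm) hI
    refine ⟨hx, ?_⟩
    have hm' : m = n * (n⁻¹ * m) := by group
    rcases c.mem_Z.mp hd with h1 | h1 <;> rw [h1] at hm' <;> rcases he' with rfl | rfl <;> subst hm'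
    · left; rw [mul_one]
    · right; rw [mul_one, mul_assoc, ← hzn, ← mul_assoc]
    · right; rw [mul_assoc]
    · left
      rw [show F.toFrame.eEl x * z * (n * z) = F.toFrame.eEl x * (z * n) * z by group, ← hzn, ← mul_assoc, mul_assoc,
        c.zz, mul_one]
  · rintro ⟨hx, rfl | rfl⟩
    · exact ⟨_, n, hn, rfl, ⟨hx, Or.inl rfl⟩, hM⟩
    · refine ⟨F.toFrame.eEl x * z, n, hn, ?_, ⟨hx, Or.inr rfl⟩, hM⟩
      rw [mul_assoc, hzn, ← mul_assoc]

/-- The number of central involutions over a word and matrix. -/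
noncomputable def cZ (x M : ℕ) : ℕ := {h | F.Pos h x M ∧ c.IsZ h}.ncard

/-- The number of other involutions over a word and matrix. -/
noncomputable def cT (x M : ℕ) : ℕ := {h | F.Pos h x M ∧ F.toFrame.IsT h}.ncard

theorem pair_ncard (p : G → Prop) [DecidablePred p] {u : G} (hu : u * z ≠ u) :
    {h | (h = u ∨ h = u * z) ∧ p h}.ncard = (if p u then 1 else 0) + (if p (u * z) then 1 else 0) := by
  classical
  have : {h | (h = u ∨ h = u * z) ∧ p h} = ↑(({u, u * z} : Finset G).filter p) := by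
    ext h; simp
  rw [this, Set.ncard_coe_finset, Finset.card_filter, Finset.sum_pair (Ne.symm hu)]

theorem rep_facts {o' : ℕ} (ho : o' < 4) : ∃ v a, Kc a ∧ v < 2048 ∧ tabOKC v a (tabs.getD o' 0) = true ∧
    F.toFrame.el v a ∈ F.toFrame.NP ∧ F.toFrame.IsMat (F.toFrame.el v a) (repMs.getD o' 0) := by
  obtain ⟨h0, h1, h2, h3, -⟩ := reps_mat_ok
  have key : ∀ {v a M : ℕ}, nOK v a M = true → Kc a ∧ v < 2048 := fun h => by
    simp only [nOK, Bool.and_eq_true, Nat.blt_eq] at h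
    exact ⟨kc_of_check h.1.1.1.1.1, h.1.1.1.1.2⟩
  interval_cases o'
  · exact ⟨_, _, (key h0).1, (key h0).2, tab0_ok, F.toFrame.nOK_spec F.hel F.hgen h0⟩
  · exact ⟨_, _, (key h1).1, (key h1).2, tab1_ok, F.toFrame.nOK_spec F.hel F.hgen h1⟩
  · exact ⟨_, _, (key h2).1, (key h2).2, tab2_ok, F.toFrame.nOK_spec F.hel F.hgen h2⟩
  · exact ⟨_, _, (key h3).1, (key h3).2, tab3_ok, F.toFrame.nOK_spec F.hel F.hgen h3⟩

theorem rep_inM {o' : ℕ} (ho : o' < 4) : F.toFrame.InM (repMs.getD o' 0) := by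
  obtain ⟨v, a, -, -, -, hn, hM⟩ := F.rep_facts ho
  exact ⟨_, hn, hM⟩

theorem cnt_tab {o' x : ℕ} (ho : o' < 4) (hx : x < 4096) :
    c0D (dig (tabs.getD o' 0) x) = F.cZ x (repMs.getD o' 0) ∧
      c1D (dig (tabs.getD o' 0) x) = F.cT x (repMs.getD o' 0) := by
  classical
  obtain ⟨v, a, ha, hv, hT, hn, hM⟩ := F.rep_facts ho
  obtain ⟨h0, h1, -⟩ := F.toFrame.tab_spec F.normal ha hv hT hx
  set u := F.toFrame.eEl x * F.toFrame.el v a
  have hu : u * z ≠ u := fun e => c.z_ne_one (by rwa [mul_eq_left] at e)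
  rw [h0, h1, cZ, cT]
  constructor
  · rw [show {h | F.Pos h x (repMs.getD o' 0) ∧ c.IsZ h} = {h | (h = u ∨ h = u * z) ∧ c.IsZ h} from
      Set.ext fun h => by simp only [Set.mem_setOf_eq, F.pos_fibre hn hM]; tauto, pair_ncard c.IsZ hu]
    rfl
  · rw [show {h | F.Pos h x (repMs.getD o' 0) ∧ F.toFrame.IsT h} = {h | (h = u ∨ h = u * z) ∧ F.toFrame.IsT h} from
      Set.ext fun h => by simp only [Set.mem_setOf_eq, F.pos_fibre hn hM]; tauto, pair_ncard F.toFrame.IsT hu]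
    rfl

theorem flag_tab {o' x : ℕ} (ho : o' < 4) {w : G} (hp : F.Pos w x (repMs.getD o' 0)) :
    w * w = z ↔ flD (dig (tabs.getD o' 0) x) = true := by
  obtain ⟨v, a, ha, hv, hT, hn, hM⟩ := F.rep_facts ho
  obtain ⟨hx, h⟩ := (F.pos_fibre hn hM).mp hp
  obtain ⟨-, -, hf⟩ := F.toFrame.tab_spec F.normal ha hv hT hx
  rw [hf]
  rcases h with rfl | rfl
  · rfl
  · set u := F.toFrame.eEl x * F.toFrame.el v a
    have hzu : u * z = z * u := mem_centralizer_singleton_iff.mp (mul_mem (c.Ez (F.toFrame.eEl_mem hx)) hn.1)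
    rw [show u * z * (u * z) = u * (z * u) * z by group, ← hzu, ← mul_assoc, mul_assoc, c.zz, mul_one]

theorem cnt_conj {nc : G} {x M C Ci : ℕ} (hn : nc ∈ F.toFrame.NP) (hC : F.toFrame.IsMat nc C)
    (hi : mMul Ci C = mId) (hil : Ci < 2 ^ 144) (hx : x < 4096) (hM : M < 2 ^ 144) :
    F.cZ (mApp C x) (mMul C (mMul M Ci)) = F.cZ x M ∧ F.cT (mApp C x) (mMul C (mMul M Ci)) = F.cT x M := by
  obtain ⟨N, hN⟩ := F.toFrame.exists_mat (inv_mem hn.1)
  have hNC : mMul N C = mId := F.toFrame.isMat_uniq (F.toFrame.isMat_mul hN hC)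
    (by rw [inv_mul_cancel]; exact F.toFrame.isMat_one)
  have hCN : mMul C N = mId := F.toFrame.isMat_uniq (F.toFrame.isMat_mul hC hN)
    (by rw [mul_inv_cancel]; exact F.toFrame.isMat_one)
  have hCi : N = Ci := by rw [← mId_mul hN.1, ← hi, mMul_assoc, hCN, mMul_id hil]
  subst hCi
  have key : ∀ (q : G → Prop), (∀ h, q (nc * h * nc⁻¹) ↔ q h) →
      {h | F.Pos h (mApp C x) (mMul C (mMul M N)) ∧ q h}.ncard = {h | F.Pos h x M ∧ q h}.ncard := by
    intro q hq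
    rw [← Set.ncard_image_of_injective {h | F.Pos h x M ∧ q h} (MulAut.conj nc).injective]
    congr 1
    ext h
    simp only [Set.mem_image, Set.mem_setOf_eq, MulAut.conj_apply]
    constructor
    · rintro ⟨hp, hqh⟩
      refine ⟨nc⁻¹ * h * nc, ⟨?_, ?_⟩, by group⟩
      · have := F.pos_conj (inv_mem hn) hN hCN hC.1 hp
        rw [inv_inv] at this
        rwa [← mMul_app, hNC, mId_app hx, ← mMul_assoc N, ← mMul_assoc, hNC, mId_mul (mMul_lt _ _), mMul_assoc,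
          hNC, mMul_id hM] at this
      · rw [← hq, show nc * (nc⁻¹ * h * nc) * nc⁻¹ = h by group]; exact hqh
    · rintro ⟨k, ⟨hp, hqk⟩, rfl⟩
      exact ⟨F.pos_conj hn hC hi hil hp, (hq k).mpr hqk⟩
  exact ⟨key c.IsZ (fun h => c.isZ_iff nc h), key F.toFrame.IsT (fun h => F.toFrame.isT_conj nc h)⟩

end Std

end CfsgLib.J4Order
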