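/-
Pairs of involutions of the two classes with product powering to the central involution, over two matrices.
-/
import Cfsg.Agent.Lib.J4Order.ZPos

set_option autoImplicit false

namespace CfsgLib.J4Order

open Cfsg Subgroup CfsgGolay CfsgLib.JankoFour

attribute [local irreducible] Finset.range List.range codeL octadL dodecadL slpCodes pcomp pmask cls inR rMask inW elW isPair colC fixedMask actC sqZ dig teMask qMask bitF mMul mApp mId pM wv tabT0 tabT1 tabT2 tabT3 repM0 repM1 repM2 repM3 imMask wordM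

theorem letters_len : letters.length = 8 ∧ genLi.length = 4 ∧ genL.length = 4 ∧
    ((genL.zip genLi).all fun g => Nat.blt g.2 (2 ^ 144) && Nat.beq (mMul g.2 g.1) mId) = true ∧
    letters = genL ++ genLi := by
  decide +kernel

theorem sumN_eq (f : ℕ → ℕ) : ∀ n, sumN f n = ∑ i ∈ Finset.range n, f i
  | 0 => by simp [sumN]
  | n + 1 => by rw [sumN, sumN_eq f n, Finset.sum_range_succ, Nat.add_comm]

theorem sum_blocks (f : ℕ → ℕ) (B : ℕ) : ∀ A : ℕ,
    ∑ a ∈ Finset.range A, ∑ b ∈ Finset.range B, f (B * a + b) = ∑ p ∈ Finset.range (A * B), f p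
  | 0 => by simp
  | A + 1 => by rw [Finset.sum_range_succ, sum_blocks f B A, Nat.succ_mul, Finset.sum_range_add, Nat.mul_comm B A]

theorem sum4096_eq (f : ℕ → ℕ) : sum4096 f = ∑ x ∈ Finset.range 4096, f x := by
  rw [sum4096, sumN_eq]; simp only [sumN_eq]; exact sum_blocks f 64 64

theorem sumI_eq (f : ℕ → ℕ) : sumI f = ∑ p ∈ Finset.range 6304, f p := by
  rw [sumI, sumN_eq]; simp only [sumN_eq]; exact sum_blocks f 197 32

theorem sumL_eq (f : ℕ → ℕ) : ∀ l : List (ℕ × ℕ), sumL f l = (l.map fun p => p.2 * f p.1).sum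
  | [] => rfl
  | p :: l => by rw [sumL, sumL_eq f l, List.map_cons, List.sum_cons]

/-- A function invariant along the moved words is summed by representatives. -/
theorem red_sum {M : ℕ} {mark : ℕ → Bool} {L : List (ℕ × ℕ)} (h : redOKL (imMask M) mark L = true) (f : ℕ → ℕ)
    (h0 : ∀ x < 4096, mark x = false → f x = 0) (hinv : ∀ x < 4096, ∀ d < 4096, f (x ^^^ (d ^^^ mApp M d)) = f x) :
    ∑ x ∈ Finset.range 4096, f x = (L.map fun p => p.2 * f p.1).sum := by
  classical
  simp only [redOKL, Bool.and_eq_true, List.all_eq_true, List.mem_range, decide_eq_true_eq, Nat.blt_eq, Nat.beq_eq] at h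
  obtain ⟨⟨hnd, hcov⟩, hcnt⟩ := h
  have him : ∀ v, bitF (imMask M) v = true → ∃ d < 4096, v = d ^^^ mApp M d := by
    intro v hv
    unfold imMask at hv
    rw [bitF_maskOf, mem_spanList', List.length_map, List.length_range] at hv
    obtain ⟨u, hu, rfl⟩ := hv
    refine ⟨u, hu, ?_⟩
    exact xorCols_linear' (fun s => s ^^^ mApp M s) (n := 12) (fun x y _ _ => by
      show (x ^^^ y) ^^^ mApp M (x ^^^ y) = _
      rw [mApp_xor, Nat.xor_assoc, Nat.xor_assoc, ← Nat.xor_assoc y, Nat.xor_comm y (mApp M x), Nat.xor_assoc]) hu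
  let red : ℕ → Option ℕ := fun x => (L.find? fun q => bitF (imMask M) (Nat.xor x q.1)).map fun q => q.1
  have hval : ∀ x < 4096, f x = (L.map fun p => if (mark x && red x == some p.1) = true then f p.1 else 0).sum := by
    intro x hx
    by_cases hm : mark x = true
    · have hc := hcov x hx
      rw [hm, Bool.not_true, Bool.false_or, List.any_eq_true] at hc
      obtain ⟨q, hfind⟩ : ∃ q, L.find? (fun q => bitF (imMask M) (Nat.xor x q.1)) = some q := by
        obtain ⟨p, hp, hpb⟩ := hc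
        rcases hfd : L.find? (fun q => bitF (imMask M) (Nat.xor x q.1)) with _ | q
        · exact absurd hpb (by simpa using List.find?_eq_none.mp hfd p hp)
        · exact ⟨q, hfd⟩
      have hq := List.mem_of_find?_eq_some hfind
      obtain ⟨d, hd, e⟩ := him _ (List.find?_some (p := fun q : ℕ × ℕ => bitF (imMask M) (Nat.xor x q.1)) hfind)
      have hfx : f x = f q.1 := by
        rw [← hinv x hx d hd, ← e]
        congr 1
        exact xor_self_cancel x q.1
      have hred : red x = some q.1 := by simp only [red, hfind]; rfl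
      rw [hm, hred, hfx, ← List.sum_toFinset _ (List.Nodup.of_map _ hnd),
        Finset.sum_eq_single q (fun p hp hne => ?_) (fun hn => absurd (List.mem_toFinset.mpr hq) hn)]
      · simp
      · rw [if_neg]
        simp only [Bool.true_and, beq_iff_eq, Option.some.injEq]
        exact fun e => hne (List.inj_on_of_nodup_map hnd (List.mem_toFinset.mp hp) hq e.symm)
    · rw [h0 x hx (Bool.eq_false_iff.mpr hm), eq_comm, List.sum_eq_zero]
      intro y hy
      obtain ⟨p, -, rfl⟩ := List.mem_map.mp hy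
      rw [Bool.eq_false_iff.mpr hm]; simp
  rw [Finset.sum_congr rfl fun x hx => hval x (Finset.mem_range.mp hx)]
  rw [← List.sum_toFinset _ (List.Nodup.of_map _ hnd)]
  simp only [← List.sum_toFinset _ (List.Nodup.of_map _ hnd)]
  rw [Finset.sum_comm]
  refine Finset.sum_congr rfl fun p hp => ?_
  rw [← Finset.sum_filter, Finset.sum_const, smul_eq_mul]
  congr 1
  obtain ⟨-, hc⟩ := hcnt p (List.mem_toFinset.mp hp)
  rw [← hc, List.countP_eq_length_filter, ← List.toFinset_card_of_nodup (List.nodup_range.filter _)]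
  congr 1
  ext x
  simp [red]

universe u

variable {G : Type u} [Group G] [Finite G] {z : G} {P E : Subgroup G} {c : Ctx z P E} {A : Subgroup MTwoTwo}
variable {o : c.Orb A} (F : Std o)

namespace Std

/-- A pair counted around the central involution. -/
def HitZ (p : G × G) : Prop := c.IsZ p.1 ∧ F.toFrame.IsT p.2 ∧ z ∈ zpowers (p.1 * p.2)

theorem wordM_InM : ∀ w : List ℕ, F.toFrame.InM (wordM w)
  | [] => by unfold wordM; exact Frame.InM.one F.toFrame
  | i :: w => by
    unfold wordM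
    refine Frame.InM.mul F.toFrame ?_ (wordM_InM w)
    obtain ⟨hlen, hl2, hl1, hz, hlet⟩ := letters_len
    by_cases hi : i < letters.length
    · rw [List.getD_eq_getElem _ _ hi]
      have hm : letters[i] ∈ genL ++ genLi := hlet ▸ List.getElem_mem hi
      rcases List.mem_append.mp hm with h | h
      · exact F.genL_InM h
      · obtain ⟨j, hj, e⟩ := List.mem_iff_getElem.mp h
        rw [hl2] at hj
        have := List.all_eq_true.mp hz (genL[j]'(by rw [hl1]; exact hj), genLi[j]'(by rw [hl2]; exact hj))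
          (List.mem_iff_getElem.mpr ⟨j, by rw [List.length_zip, hl1, hl2]; simpa using hj, by rw [List.getElem_zip]⟩)
        simp only [Bool.and_eq_true, Nat.blt_eq, Nat.beq_eq] at this
        rw [← e]
        exact (F.inM_left (F.genL_InM (List.getElem_mem _)) this.1 this.2).1
    · rw [List.getD_eq_default _ _ (not_lt.mp hi)]; exact Frame.InM.one F.toFrame

theorem cnj_spec {k : Cnj} (h : cnjOK k = true) :
    F.toFrame.InM k.c ∧ F.toFrame.InM k.ci ∧ k.ci < 2 ^ 144 ∧ mMul k.ci k.c = mId ∧ mMul k.c k.ci = mId := by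
  simp only [cnjOK, Bool.and_eq_true, Nat.blt_eq, Nat.beq_eq] at h
  obtain ⟨⟨h1, h2⟩, h3⟩ := h
  have hI : F.toFrame.InM k.c := h1 ▸ F.wordM_InM k.w
  exact ⟨hI, (F.inM_left hI h2 h3).1, h2, h3, (F.inM_left hI h2 h3).2⟩

theorem mPow_lt (M : ℕ) : ∀ n, mPow M n < 2 ^ 144
  | 0 => by rw [mPow]; exact mId_lt
  | n + 1 => by rw [mPow]; exact mMul_lt _ _

theorem sumM_lt (M : ℕ) : ∀ n t, t < 4096 → sumM M n t < 4096
  | 0, _, _ => by rw [sumM]; norm_num
  | n + 1, t, ht => by rw [sumM]; exact Nat.xor_lt_two_pow (n := 12) ht (sumM_lt M n _ (mApp_lt _ _))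

theorem sumM_xor (M : ℕ) : ∀ n s t, sumM M n (s ^^^ t) = sumM M n s ^^^ sumM M n t
  | 0, _, _ => by simp [sumM]
  | n + 1, s, t => by
    rw [sumM, sumM, sumM, mApp_xor, sumM_xor M n]
    show (s ^^^ t) ^^^ _ = (s ^^^ _) ^^^ (t ^^^ _)
    simp only [Nat.xor_assoc]
    congr 1
    rw [← Nat.xor_assoc, Nat.xor_comm t, Nat.xor_assoc]

/-- The criterion. -/
theorem hit_iff {a : ℕ} {R : ZRow} (hd : zRowData a R = true) {u v : G} {x y : ℕ} (hu : c.IsZ u)
    (hv : F.toFrame.IsT v) (hpu : F.Pos u x a) (hpv : F.Pos v y R.b) :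
    z ∈ zpowers (u * v) ↔ hitW R (x ^^^ mApp a y) = true := by
  simp only [zRowData, Bool.and_eq_true, Bool.or_eq_true, Nat.blt_eq, Nat.beq_eq] at hd
  obtain ⟨⟨⟨⟨⟨⟨⟨ho, -⟩, -⟩, hpos⟩, hone⟩, hmin⟩, hSm⟩, heven⟩ := hd
  set h := mMul a R.b
  set t := x ^^^ mApp a y
  set g := u * v
  have hg : F.Pos g t h := F.pos_mul hpu hpv
  have ht : t < 4096 := Nat.xor_lt_two_pow (n := 12) (by obtain ⟨_, _, _, _, he, _⟩ := hpu; exact he.1) (mApp_lt _ _)
  have hn := F.pos_pow hg R.ord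
  rw [hone] at hn
  have hcl := F.pos_trivial hn
  have hS : mApp R.Sm t = sumM h R.ord t := by
    rw [← hSm]
    unfold mApp
    exact mkR_app 12 (sumM h R.ord) (fun a b _ _ => sumM_xor h R.ord a b) (fun a ha => sumM_lt h R.ord a ha) t ht
  have hzz : z * z = 1 := c.zz
  unfold hitW
  rw [hS]
  by_cases hS0 : sumM h R.ord t = 0
  · rw [hS0, Nat.beq_refl, cond_true]
    rw [hS0] at hcl
    have hmem := (Frame.Cl.zero_iff F.toFrame hcl).mp rfl
    have key : z ∈ zpowers g ↔ g ^ R.ord = z := by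
      refine ⟨fun hzg => ?_, fun e => e ▸ pow_mem (mem_zpowers g) _⟩
      rcases c.mem_Z.mp hmem with h1 | h1
      · exfalso
        obtain ⟨i, hi⟩ := mem_powers_iff_mem_zpowers.mpr hzg
        have hi' : g ^ i = z := hi
        have h2 := F.pos_pow hg i
        rw [hi'] at h2
        have hid := (F.pos_uniq h2 F.pos_z).2
        have hmod : mPow h (i % R.ord) = mId := by
          have h3 := F.pos_pow hg (i % R.ord)
          rw [show g ^ (i % R.ord) = g ^ i by
            conv_rhs => rw [← Nat.div_add_mod i R.ord, pow_add, pow_mul, h1, one_pow, one_mul], hi'] at h3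
          exact (F.pos_uniq h3 F.pos_z).2
        by_cases hz : i % R.ord = 0
        · obtain ⟨k, hk⟩ := Nat.dvd_of_mod_eq_zero hz
          exact c.z_ne_one (by rw [← hi', hk, pow_mul, h1, one_pow])
        · have h4 := List.all_eq_true.mp hmin (i % R.ord) (List.mem_range.mpr (Nat.mod_lt _ hpos))
          rw [hmod, Nat.beq_refl, Bool.not_true, Bool.or_false, Nat.beq_eq] at h4
          exact hz h4
      · exact h1
    rw [key]
    by_cases hodd : R.ord % 2 = 1
    · rw [hodd, Nat.beq_refl, Bool.true_or]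
      refine iff_of_true ?_ rfl
      refine (c.mem_Z.mp hmem).resolve_left fun h1 => ?_
      have hev := dih_even (F.toFrame.isZ_sq hu) hv.1 (fun hc => hv.2.2 (by
        obtain ⟨k, hk⟩ := isConj_iff.mp hc
        rw [← hk]; exact (c.isZ_iff k u).mpr hu))
      have := hev.trans (orderOf_dvd_of_pow_eq_one h1)
      omega
    · rw [show Nat.beq (R.ord % 2) 1 = false from Bool.eq_false_iff.mpr fun e => hodd (Nat.eq_of_beq_eq_true e),
        Bool.false_or]
      obtain ⟨⟨⟨hoh, hk⟩, hkconj⟩, hFm⟩ := heven.resolve_left hodd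
      obtain ⟨⟨nc, hnc, hC⟩, -, hil, hi, -⟩ := F.cnj_spec hk
      have hw := F.pos_conj hnc hC hi hil (F.pos_pow hg (R.ord / 2))
      rw [show mMul R.kh.c (mMul (mPow h (R.ord / 2)) R.kh.ci) = repMs.getD R.oh 0 from hkconj] at hw
      have hF : mApp R.Fm t = mApp R.kh.c (sumM h (R.ord / 2) t) := by
        rw [← hFm]
        unfold mApp
        exact mkR_app 12 (fun t => mAppR 12 R.kh.c (sumM h (R.ord / 2) t)) (fun a b _ _ => by
          show mAppR 12 _ (sumM h _ (a ^^^ b)) = _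
          rw [sumM_xor, mAppR_xor]) (fun a _ => mAppR_lt 12 _ _) t ht
      rw [hF, ← F.flag_tab hoh hw,
        show nc * g ^ (R.ord / 2) * nc⁻¹ * (nc * g ^ (R.ord / 2) * nc⁻¹) = nc * (g ^ (R.ord / 2) * g ^ (R.ord / 2)) * nc⁻¹ by group,
        ← pow_add, show R.ord / 2 + R.ord / 2 = R.ord by omega]
      constructor
      · intro e; rw [e, mem_centralizer_singleton_iff.mp hnc.1, mul_inv_cancel_right]
      · intro e
        rw [mul_inv_eq_iff_eq_mul, ← mem_centralizer_singleton_iff.mp hnc.1] at e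
        exact mul_left_cancel e
  · rw [show Nat.beq (sumM h R.ord t) 0 = false from Bool.eq_false_iff.mpr fun e => hS0 (Nat.eq_of_beq_eq_true e),
      cond_false, (F.toFrame.mask_spec F.normal (sumM_lt h R.ord t ht)).1]
    constructor
    · intro hzg
      by_contra hq
      have hsq := (Frame.Cl.sq F.toFrame hcl).mpr (Bool.eq_false_iff.mpr hq)
      have hne : g ^ R.ord ≠ 1 := fun e => hS0 ((Frame.Cl.zero_iff F.toFrame hcl).mpr (e ▸ one_mem _))
      have := (hit_of_invol hsq hne hzz c.z_ne_one).mp hzg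
      exact hS0 ((Frame.Cl.zero_iff F.toFrame hcl).mpr (this ▸ mem_zpowers z))
    · intro hq
      have h1 : g ^ R.ord * g ^ R.ord ≠ 1 := fun e => by
        rw [(Frame.Cl.sq F.toFrame hcl).mp e] at hq; simp at hq
      have h2 := Frame.Cl.mul F.toFrame hcl hcl
      rw [Nat.xor_self] at h2
      have h3 := (c.mem_Z.mp ((Frame.Cl.zero_iff F.toFrame h2).mp rfl)).resolve_left h1
      rw [← h3]
      exact mul_mem (pow_mem (mem_zpowers g) _) (pow_mem (mem_zpowers g) _)

/-- The hits over two words and two matrices. -/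
noncomputable def fz (a b x y : ℕ) : ℕ := {p : G × G | F.HitZ p ∧ F.Pos p.1 x a ∧ F.Pos p.2 y b}.ncard

theorem fz_eq {a : ℕ} {R : ZRow} (hd : zRowData a R = true) (x y : ℕ) :
    F.fz a R.b x y = cond (hitW R (x ^^^ mApp a y)) (F.cZ x a) 0 * F.cT y R.b := by
  rw [fz, cZ, cT]
  cases hh : hitW R (x ^^^ mApp a y)
  · rw [cond_false, Nat.zero_mul, Set.ncard_eq_zero (Set.toFinite _)]
    refine Set.eq_empty_of_forall_notMem fun p ⟨⟨h1, h2, h3⟩, hp, hq⟩ => ?_
    rw [(F.hit_iff hd h1 h2 hp hq).mp h3] at hh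
    simp at hh
  · rw [cond_true, ← Set.ncard_prod]
    congr 1
    ext p
    simp only [HitZ, Set.mem_setOf_eq, Set.mem_prod]
    exact ⟨fun ⟨⟨h1, h2, _⟩, hp, hq⟩ => ⟨⟨hp, h1⟩, hq, h2⟩,
      fun ⟨⟨hp, h1⟩, hq, h2⟩ => ⟨⟨h1, h2, (F.hit_iff hd h1 h2 hp hq).mpr hh⟩, hp, hq⟩⟩

theorem hit_conjZ {n : G} (hn : n ∈ centralizer ({z} : Set G)) (p : G × G) :
    F.HitZ (n * p.1 * n⁻¹, n * p.2 * n⁻¹) ↔ F.HitZ p := by
  unfold HitZ
  simp only [c.isZ_iff, F.toFrame.isT_conj]
  refine and_congr_right fun _ => and_congr_right fun _ => ?_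
  have hz : n * z * n⁻¹ = z := by rw [mem_centralizer_singleton_iff.mp hn, mul_inv_cancel_right]
  rw [show n * p.1 * n⁻¹ * (n * p.2 * n⁻¹) = n * (p.1 * p.2) * n⁻¹ by group, mem_zpowers_iff, mem_zpowers_iff]
  refine exists_congr fun k => ?_
  rw [conj_zpow]
  exact ⟨fun h => mul_left_cancel (mul_right_cancel (h.trans hz.symm)), fun h => by rw [h, hz]⟩

theorem shift_pos {u : G} {x a d : ℕ} (hd : d < 4096) (hp : F.Pos u x a) :
    F.Pos (F.toFrame.eEl d * u * (F.toFrame.eEl d)⁻¹) (x ^^^ (d ^^^ mApp a d)) a := by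
  have he : F.toFrame.Cl (F.toFrame.eEl d) d := ⟨hd, Or.inl rfl⟩
  obtain ⟨e, n, hn, rfl, hcl, hM⟩ := hp
  refine ⟨F.toFrame.eEl d * e * (n * (F.toFrame.eEl d)⁻¹ * n⁻¹), n, hn, by group, ?_, hM⟩
  have := Frame.Cl.mul F.toFrame (Frame.Cl.mul F.toFrame he hcl) (hM.2 _ _ (Frame.Cl.inv F.toFrame he))
  rwa [Nat.xor_comm d x, Nat.xor_assoc] at this

theorem fz_shift {a b x y d : ℕ} (hd : d < 4096) :
    F.fz a b x y = F.fz a b (x ^^^ (d ^^^ mApp a d)) (y ^^^ (d ^^^ mApp b d)) := by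
  have key : ∀ x y, F.fz a b x y ≤ F.fz a b (x ^^^ (d ^^^ mApp a d)) (y ^^^ (d ^^^ mApp b d)) := by
    intro x y
    refine Set.ncard_le_ncard_of_injOn (fun p => (F.toFrame.eEl d * p.1 * (F.toFrame.eEl d)⁻¹,
      F.toFrame.eEl d * p.2 * (F.toFrame.eEl d)⁻¹)) (fun p ⟨h, hp, hq⟩ =>
        ⟨(F.hit_conjZ (c.Ez (F.toFrame.eEl_mem hd)) p).mpr h, F.shift_pos hd hp, F.shift_pos hd hq⟩) ?_ (Set.toFinite _)
    intro p _ q _ e
    simp only [Prod.mk.injEq, mul_left_inj, mul_right_inj] at e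
    exact Prod.ext e.1 e.2
  refine le_antisymm (key x y) ?_
  have := key (x ^^^ (d ^^^ mApp a d)) (y ^^^ (d ^^^ mApp b d))
  rwa [Nat.xor_assoc, Nat.xor_self, Nat.xor_zero, Nat.xor_assoc, Nat.xor_self, Nat.xor_zero] at this

/-- The hits over two matrices. -/
noncomputable def FZ (a b : ℕ) : ℕ := ∑ x ∈ Finset.range 4096, ∑ y ∈ Finset.range 4096, F.fz a b x y

theorem sum_perm (f : ℕ → ℕ) {C Ci : ℕ} (h1 : mMul Ci C = mId) (h2 : mMul C Ci = mId) :
    ∑ x ∈ Finset.range 4096, f (mApp C x) = ∑ x ∈ Finset.range 4096, f x := by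
  refine Finset.sum_nbij' (mApp C) (mApp Ci) (fun x _ => Finset.mem_range.mpr (mApp_lt _ _))
    (fun x _ => Finset.mem_range.mpr (mApp_lt _ _)) (fun x hx => ?_) (fun x hx => ?_) fun x _ => rfl
  · rw [← mMul_app, h1, mId_app (Finset.mem_range.mp hx)]
  · rw [← mMul_app, h2, mId_app (Finset.mem_range.mp hx)]

theorem FZ_conj {a b C Ci : ℕ} (hC : F.toFrame.InM C) (hCi : F.toFrame.InM Ci) (h1 : mMul Ci C = mId)
    (h2 : mMul C Ci = mId) : F.FZ (mMul C (mMul a Ci)) (mMul C (mMul b Ci)) = F.FZ a b ∨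
      ¬ (a < 2 ^ 144 ∧ b < 2 ^ 144) := by
  by_cases hl : a < 2 ^ 144 ∧ b < 2 ^ 144
  · left
    obtain ⟨nc, hn, hM⟩ := hC
    obtain ⟨nd, hnd, hN⟩ := hCi
    have key : ∀ {nc : G} {C Ci : ℕ}, nc ∈ F.toFrame.NP → F.toFrame.IsMat nc C → mMul Ci C = mId → Ci < 2 ^ 144 →
        ∀ a b x y, F.fz a b x y ≤ F.fz (mMul C (mMul a Ci)) (mMul C (mMul b Ci)) (mApp C x) (mApp C y) := by
      intro nc C Ci hn hM hi hil a b x y
      refine Set.ncard_le_ncard_of_injOn (fun p => (nc * p.1 * nc⁻¹, nc * p.2 * nc⁻¹)) (fun p ⟨h, hp, hq⟩ =>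
        ⟨(F.hit_conjZ hn.1 p).mpr h, F.pos_conj hn hM hi hil hp, F.pos_conj hn hM hi hil hq⟩) ?_ (Set.toFinite _)
      intro p _ q _ e
      simp only [Prod.mk.injEq, mul_left_inj, mul_right_inj] at e
      exact Prod.ext e.1 e.2
    have heq : ∀ x y, x < 4096 → y < 4096 →
        F.fz (mMul C (mMul a Ci)) (mMul C (mMul b Ci)) (mApp C x) (mApp C y) = F.fz a b x y := by
      intro x y hx hy
      refine le_antisymm ?_ (key hn hM h1 hN.1 a b x y)
      have := key hnd hN h2 hM.1 (mMul C (mMul a Ci)) (mMul C (mMul b Ci)) (mApp C x) (mApp C y)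
      rw [← mMul_app, h1, mId_app hx, ← mMul_app, h1, mId_app hy] at this
      have e : ∀ a, a < 2 ^ 144 → mMul Ci (mMul (mMul C (mMul a Ci)) C) = a := fun a ha => by
        calc mMul Ci (mMul (mMul C (mMul a Ci)) C) = mMul (mMul Ci C) (mMul a (mMul Ci C)) := by simp only [mMul_assoc]
          _ = a := by rw [h1, mMul_id ha, mId_mul ha]
      rwa [e a hl.1, e b hl.2] at this
    rw [FZ, FZ, ← sum_perm _ h1 h2]
    refine Finset.sum_congr rfl fun x hx => ?_
    rw [← sum_perm _ h1 h2]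
    exact Finset.sum_congr rfl fun y hy => heq x y (Finset.mem_range.mp hx) (Finset.mem_range.mp hy)
  · exact Or.inr hl

theorem cnt1_eq {a : ℕ} {R : ZRow} (hd : zRowData a R = true) (hb : R.b < 2 ^ 144) {y : ℕ} (hy : y < 4096) :
    cnt1 R y = F.cT y R.b := by
  simp only [zRowData, Bool.and_eq_true, Nat.blt_eq, Nat.beq_eq] at hd
  obtain ⟨⟨⟨⟨⟨⟨⟨ho, hk⟩, hconj⟩, -⟩, -⟩, -⟩, -⟩, -⟩ := hd
  obtain ⟨⟨nc, hn, hC⟩, -, hil, hi, -⟩ := F.cnj_spec hk
  rw [cnt1, (F.cnt_tab ho (mApp_lt _ _)).2, ← (F.cnt_conj hn hC hi hil hy hb).2]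
  exact congrArg _ hconj.symm

/-- The value when the first factor is reduced. -/
theorem valX_eq {k : ℕ} (hk : k < 4) {LX : List (ℕ × ℕ)}
    (hred : redOKL (imMask (repMs.getD k 0)) (fun x => !(Nat.beq (cnt0 (tabs.getD k 0) x) 0)) LX = true)
    {R : ZRow} (hd : zRowData (repMs.getD k 0) R = true) (hb : R.b < 2 ^ 144) :
    F.FZ (repMs.getD k 0) R.b = valX (repMs.getD k 0) (tabs.getD k 0) LX R := by
  set a := repMs.getD k 0
  have hlt : ∀ p ∈ LX, p.1 < 4096 := by
    intro p hp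
    simp only [redOKL, Bool.and_eq_true, List.all_eq_true, Nat.blt_eq] at hred
    exact (hred.2 p hp).1
  rw [FZ, red_sum hred (fun x => ∑ y ∈ Finset.range 4096, F.fz a R.b x y) (fun x hx hm => ?_) (fun x hx d hd' => ?_),
    valX, sum4096_eq]
  · have hterm : ∀ y ∈ Finset.range 4096, cond (Nat.beq (cnt1 R y) 0) 0
        (cnt1 R y * sumL (fun r => cond (hitW R (Nat.xor r (mApp a y))) (cnt0 (tabs.getD k 0) r) 0) LX) =
        (LX.map fun p => p.2 * F.fz a R.b p.1 y).sum := by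
      intro y hy
      rw [Finset.mem_range] at hy
      have hc : ∀ q : ℕ, cond (Nat.beq (cnt1 R y) 0) 0 (cnt1 R y * q) = cnt1 R y * q := by
        intro q
        cases hbq : Nat.beq (cnt1 R y) 0
        · rfl
        · rw [Nat.eq_of_beq_eq_true hbq, Nat.zero_mul]; rfl
      rw [hc, sumL_eq, ← List.sum_map_mul_left]
      refine congrArg List.sum (List.map_congr_left fun p hp => ?_)
      rw [F.fz_eq hd, cnt0, (F.cnt_tab hk (hlt p hp)).1, F.cnt1_eq hd hb hy]
      show F.cT y R.b * (p.2 * cond (hitW R (p.1 ^^^ mApp a y)) (F.cZ p.1 a) 0) = _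
      ring
    rw [Finset.sum_congr rfl hterm]
    clear hterm hred hlt
    induction LX with
    | nil => simp
    | cons p l ih => simp only [List.map_cons, List.sum_cons, Finset.sum_add_distrib, ← Finset.mul_sum, ih]
  · refine Finset.sum_eq_zero fun y _ => ?_
    rw [Bool.not_eq_false', Nat.beq_eq, cnt0, (F.cnt_tab hk hx).1] at hm
    rw [F.fz_eq hd, hm]
    cases hitW R (x ^^^ mApp a y) <;> simp
  · have hlt' : d ^^^ mApp R.b d < 4096 := Nat.xor_lt_two_pow (n := 12) hd' (mApp_lt _ _)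
    refine Finset.sum_nbij' (fun y => y ^^^ (d ^^^ mApp R.b d)) (fun y => y ^^^ (d ^^^ mApp R.b d))
      (fun y hy => Finset.mem_range.mpr (Nat.xor_lt_two_pow (n := 12) (Finset.mem_range.mp hy) hlt'))
      (fun y hy => Finset.mem_range.mpr (Nat.xor_lt_two_pow (n := 12) (Finset.mem_range.mp hy) hlt'))
      (fun y _ => by rw [Nat.xor_assoc, Nat.xor_self, Nat.xor_zero])
      (fun y _ => by rw [Nat.xor_assoc, Nat.xor_self, Nat.xor_zero]) fun y _ => ?_
    show _ = F.fz a R.b x _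
    rw [F.fz_shift (a := a) (b := R.b) (x := x) (y := y ^^^ (d ^^^ mApp R.b d)) hd', Nat.xor_assoc y, Nat.xor_self, Nat.xor_zero]

/-- The value when the second factor is reduced. -/
theorem valY_eq {R : ZRow} (hd : zRowData repM0 R = true) (hb : R.b < 2 ^ 144) (h0 : repM0 = mId)
    (hlt : ∀ p ∈ R.red, p.1 < 4096)
    (hsum : ∀ f : ℕ → ℕ, (∀ y < 4096, cnt1 R y = 0 → f y = 0) →
      (∀ y < 4096, ∀ d < 4096, f (y ^^^ (d ^^^ mApp R.b d)) = f y) →
      (∀ C Ci, F.toFrame.InM C → F.toFrame.InM Ci → mMul Ci C = mId → mMul C Ci = mId → mMul C (mMul R.b Ci) = R.b →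
        ∀ y < 4096, f (mApp C y) = f y) →
      ∑ y ∈ Finset.range 4096, f y = (R.red.map fun p => p.2 * f p.1).sum) :
    F.FZ repM0 R.b = valY tabT0 R := by
  have htab : tabs.getD 0 0 = tabT0 ∧ repMs.getD 0 0 = repM0 := ⟨rfl, rfl⟩
  rw [FZ, Finset.sum_comm, hsum (fun y => ∑ x ∈ Finset.range 4096, F.fz repM0 R.b x y) (fun y hy h => ?_)
    (fun y hy d hd' => ?_) (fun C Ci hC hCi h1 h2 hfix y hy => ?_), valY, sum4096_eq]
  · have hterm : ∀ x ∈ Finset.range 4096, cond (Nat.beq (cnt0 tabT0 x) 0) 0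
        (cnt0 tabT0 x * sumL (fun y => cond (hitW R (Nat.xor x y)) (cnt1 R y) 0) R.red) =
        (R.red.map fun p => p.2 * F.fz repM0 R.b x p.1).sum := by
      intro x hx
      rw [Finset.mem_range] at hx
      have hc : ∀ q : ℕ, cond (Nat.beq (cnt0 tabT0 x) 0) 0 (cnt0 tabT0 x * q) = cnt0 tabT0 x * q := by
        intro q
        cases hbq : Nat.beq (cnt0 tabT0 x) 0
        · rfl
        · rw [Nat.eq_of_beq_eq_true hbq, Nat.zero_mul]; rfl
      rw [hc, sumL_eq, ← List.sum_map_mul_left]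
      refine congrArg List.sum (List.map_congr_left fun p hp => ?_)
      have hcz := (F.cnt_tab (show 0 < 4 by norm_num) hx).1
      rw [htab.1, htab.2] at hcz
      rw [F.fz_eq hd, cnt0, hcz, F.cnt1_eq hd hb (hlt p hp)]
      have e : mApp repM0 p.1 = p.1 := by rw [h0, mId_app (hlt p hp)]
      rw [e]
      show F.cZ x repM0 * (p.2 * cond (hitW R (x ^^^ p.1)) (F.cT p.1 R.b) 0) = _
      cases hitW R (x ^^^ p.1)
      · simp
      · simp only [cond_true]; ring
    rw [Finset.sum_congr rfl hterm]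
    clear hterm hsum hlt
    induction R.red with
    | nil => simp
    | cons p l ih => simp only [List.map_cons, List.sum_cons, Finset.sum_add_distrib, ← Finset.mul_sum, ih]
  · refine Finset.sum_eq_zero fun x _ => ?_
    rw [F.fz_eq hd, ← F.cnt1_eq hd hb hy, h, Nat.mul_zero]
  · refine Finset.sum_congr rfl fun x hx => ?_
    rw [F.fz_shift (a := repM0) (b := R.b) (x := x) (y := y ^^^ (d ^^^ mApp R.b d)) hd', Nat.xor_assoc y, Nat.xor_self,
      Nat.xor_zero, h0, mId_app hd', Nat.xor_self, Nat.xor_zero]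
  · obtain ⟨nc, hn, hM⟩ := hC
    obtain ⟨nd, hnd, hN⟩ := hCi
    rw [← sum_perm _ h1 h2]
    refine Finset.sum_congr rfl fun x hx => ?_
    have key : ∀ {nc : G} {C Ci : ℕ}, nc ∈ F.toFrame.NP → F.toFrame.IsMat nc C → mMul Ci C = mId → Ci < 2 ^ 144 →
        ∀ a b x y, F.fz a b x y ≤ F.fz (mMul C (mMul a Ci)) (mMul C (mMul b Ci)) (mApp C x) (mApp C y) := by
      intro nc C Ci hn hM hi hil a b x y
      refine Set.ncard_le_ncard_of_injOn (fun p => (nc * p.1 * nc⁻¹, nc * p.2 * nc⁻¹)) (fun p ⟨h, hp, hq⟩ =>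
        ⟨(F.hit_conjZ hn.1 p).mpr h, F.pos_conj hn hM hi hil hp, F.pos_conj hn hM hi hil hq⟩) ?_ (Set.toFinite _)
      intro p _ q _ e
      simp only [Prod.mk.injEq, mul_left_inj, mul_right_inj] at e
      exact Prod.ext e.1 e.2
    have hai : mMul C (mMul repM0 Ci) = repM0 := by rw [h0, mId_mul hN.1, h2]
    have hA := key hn hM h1 hN.1 repM0 R.b x y
    rw [hai, hfix] at hA
    refine le_antisymm ?_ hA
    have hB := key hnd hN h2 hM.1 repM0 R.b (mApp C x) (mApp C y)
    have hai' : mMul Ci (mMul repM0 C) = repM0 := by rw [h0, mId_mul hM.1, h1]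
    have hfix' : mMul Ci (mMul R.b C) = R.b := by
      conv_lhs => rw [← hfix]
      calc mMul Ci (mMul (mMul C (mMul R.b Ci)) C) = mMul (mMul Ci C) (mMul R.b (mMul Ci C)) := by simp only [mMul_assoc]
        _ = R.b := by rw [h1, mMul_id hb, mId_mul hb]
    rw [hai', hfix', ← mMul_app, h1, mId_app (Finset.mem_range.mp hx), ← mMul_app, h1, mId_app hy] at hB
    exact hB

end Std

end CfsgLib.J4Order
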