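/-
The number of pairs with product powering to the central involution.
-/
import Cfsg.Agent.Lib.J4Order.ZFib
import Cfsg.Agent.Lib.J4Order.InvList
import Cfsg.Agent.Lib.J4Order.PartCls
import Cfsg.Agent.Lib.J4Order.PartZ0
import Cfsg.Agent.Lib.J4Order.PartZ1
import Cfsg.Agent.Lib.J4Order.PartZ2
import Cfsg.Agent.Lib.J4Order.ZCheck0
import Cfsg.Agent.Lib.J4Order.ZCheck1
import Cfsg.Agent.Lib.J4Order.ZCheck2

set_option autoImplicit false

namespace CfsgLib.J4Order

open Cfsg Subgroup CfsgGolay CfsgLib.JankoFour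

attribute [local irreducible] Finset.range List.range codeL octadL dodecadL slpCodes pcomp pmask cls inR rMask inW elW isPair colC fixedMask actC sqZ dig teMask qMask bitF mMul mApp mId pM wv invA tget tabT0 tabT1 tabT2 tabT3 repM0 repM1 repM2 repM3 imMask wordM rowsZ0 rowsZ1 rowsZ2 gensZ0 gensZ1 gensZ2 partZ0 partZ1 partZ2 partCls dg16 valX valY totZ0 totZ1 totZ2

/-- The table as a set. -/
def lSet : Finset ℕ := (Finset.range 6304).image (tget 144 invA)

theorem tget_inj {i j : ℕ} (hi : i < 6304) (hj : j < 6304) (h : tget 144 invA i = tget 144 invA j) : i = j :=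
  List.inj_on_of_nodup_map invA_nodup (List.mem_range.mpr hi) (List.mem_range.mpr hj) h

universe u

variable {G : Type u} [Group G] [Finite G] {z : G} {P E : Subgroup G} {c : Ctx z P E} {A : Subgroup MTwoTwo}
variable {o : c.Orb A} (F : Std o)

namespace Std

/-- The matrix is a conjugate by an element centralizing `a`. -/
def Reach (a root M : ℕ) : Prop :=
  ∃ C Ci, F.toFrame.InM C ∧ F.toFrame.InM Ci ∧ mMul Ci C = mId ∧ mMul C Ci = mId ∧ mMul C a = mMul a C ∧
    mMul C (mMul root Ci) = M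

theorem part_reach {a : ℕ} {cs : List Cnj} (ha : a < 2 ^ 144) (hcs : centOK a cs = true) {roots : List ℕ} {Q : Part}
    (hQ : ∀ p < 6304, partPos (pairsOf cs) roots Q p = true) :
    ∀ p < 6304, dg16 Q.I p < 6304 ∧ dg16 Q.R p < roots.length ∧ dg16 Q.L (dg16 Q.I p) = p ∧
      F.Reach a (roots.getD (dg16 Q.R p) 0) (tget 144 invA (dg16 Q.I p)) := by
  have hone : F.toFrame.InM mId := Frame.InM.one F.toFrame
  intro p
  induction p using Nat.strong_induction_on with
  | _ p ih =>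
    intro hp
    have h := hQ p hp
    simp only [partPos, Bool.and_eq_true, Nat.blt_eq, Nat.beq_eq] at h
    obtain ⟨⟨⟨h1, h2⟩, h3⟩, h4⟩ := h
    refine ⟨h1, h3, h2, ?_⟩
    cases hb : Nat.beq (dg16 Q.P p) 65535
    · rw [hb, cond_false] at h4
      simp only [Bool.and_eq_true, Nat.blt_eq, Nat.beq_eq] at h4
      obtain ⟨⟨h5, h6⟩, h7⟩ := h4
      obtain ⟨-, -, -, C, Ci, hC, hCi, e1, e2, e3, e4⟩ := ih _ h5 (h5.trans hp)
      rw [h6] at e4
      by_cases hi : dg16 Q.P p % 8 < (pairsOf cs).length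
      · rw [List.getD_eq_getElem _ _ hi] at h7
        have hmem : (pairsOf cs)[dg16 Q.P p % 8] ∈ cs.map fun k => (k.c, k.ci) := List.getElem_mem hi
        rw [List.mem_map] at hmem
        obtain ⟨k, hk, hke⟩ := hmem
        have hk' := List.all_eq_true.mp hcs k hk
        rw [Bool.and_eq_true, Nat.beq_eq] at hk'
        obtain ⟨hI, hIi, -, f1, f2⟩ := F.cnj_spec hk'.1
        rw [← h7, ← e4]
        refine ⟨mMul k.c C, mMul Ci k.ci, Frame.InM.mul F.toFrame hI hC, Frame.InM.mul F.toFrame hCi hIi, ?_, ?_, ?_, ?_⟩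
        · rw [mMul_assoc, ← mMul_assoc k.ci, f1, mId_mul (F.inM_good hC).1, e1]
        · rw [mMul_assoc, ← mMul_assoc C, e2, mId_mul (F.inM_good hIi).1, f2]
        · rw [mMul_assoc, e3, ← mMul_assoc, hk'.2, mMul_assoc]
        · show _ = conjM _ _
          rw [show (pairsOf cs)[dg16 Q.P p % 8] = (k.c, k.ci) from hke.symm]
          simp only [conjM, mMul_assoc]
      · rw [List.getD_eq_default _ _ (not_lt.mp hi)] at h7
        refine ⟨C, Ci, hC, hCi, e1, e2, e3, ?_⟩
        rw [← h7, ← e4]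
        show _ = mMul mId (mMul _ mId)
        rw [mMul_id (mMul_lt _ _), mId_mul (mMul_lt _ _)]
    · rw [hb, cond_true, Nat.beq_eq] at h4
      refine ⟨mId, mId, hone, hone, mId_mul mId_lt, mId_mul mId_lt, ?_, ?_⟩
      · rw [mId_mul ha, mMul_id ha]
      · rw [← h4]
        have hlt : tget 144 invA (dg16 Q.I p) < 2 ^ 144 := by unfold tget; exact Nat.mod_lt _ (Nat.two_pow_pos 144)
        rw [mMul_id hlt, mId_mul hlt]

theorem lSet_member {M : ℕ} (hM : M ∈ lSet) : F.toFrame.InM M ∧ mMul M M = mId ∧ M < 2 ^ 144 := by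
  obtain ⟨i, hi, rfl⟩ := Finset.mem_image.mp hM
  rw [Finset.mem_range] at hi
  have hcs : centOK repM0 gensZ0 = true := cent0_ok
  have h0 : repM0 < 2 ^ 144 := reps_mat_ok.2.2.2.2.2.2.2 ▸ mId_lt
  have hR := F.part_reach h0 hcs (roots := repMs) (Q := partCls) fun p hp => partCls_all hp
  -- the positions exhaust the table
  have hinj : Set.InjOn (fun p => dg16 partCls.I p) (Finset.range 6304 : Set ℕ) := by
    intro p hp q hq e
    rw [Finset.mem_coe, Finset.mem_range] at hp hq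
    rw [← (hR p hp).2.2.1, ← (hR q hq).2.2.1]
    exact congrArg (dg16 partCls.L) e
  have himg : (Finset.range 6304).image (fun p => dg16 partCls.I p) = Finset.range 6304 :=
    Finset.eq_of_subset_of_card_le (fun x hx => by
      obtain ⟨p, hp, rfl⟩ := Finset.mem_image.mp hx
      exact Finset.mem_range.mpr (hR p (Finset.mem_range.mp hp)).1) (by rw [Finset.card_image_of_injOn hinj])
  obtain ⟨p, hp, rfl⟩ := Finset.mem_image.mp (himg.symm ▸ Finset.mem_range.mpr hi)
  obtain ⟨-, hRl, -, C, Ci, hC, hCi, e1, e2, -, e4⟩ := hR p (Finset.mem_range.mp hp)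
  have hr : F.toFrame.InM (repMs.getD (dg16 partCls.R p) 0) := F.rep_inM hRl
  have hrr : mMul (repMs.getD (dg16 partCls.R p) 0) (repMs.getD (dg16 partCls.R p) 0) = mId := by
    rw [List.getD_eq_getElem _ _ hRl]
    exact Nat.eq_of_beq_eq_true (List.all_eq_true.mp reps_Z.1 _ (List.getElem_mem hRl))
  rw [← e4]
  refine ⟨Frame.InM.mul F.toFrame hC (Frame.InM.mul F.toFrame hr hCi), ?_, mMul_lt _ _⟩
  set r := repMs.getD (dg16 partCls.R p) 0
  calc mMul (mMul C (mMul r Ci)) (mMul C (mMul r Ci)) = mMul C (mMul r (mMul (mMul Ci C) (mMul r Ci))) := by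
        simp only [mMul_assoc]
    _ = mId := by rw [e1, mId_mul (mMul_lt _ _), ← mMul_assoc r, hrr, mId_mul (F.inM_good hCi).1, e2]

include F in
theorem mem_lSet {M : ℕ} (hM : Good M) (hMM : mMul M M = mId) : M ∈ lSet := by
  obtain ⟨i, hi, e⟩ := memA_sound (F.inv_mem hM hMM)
  exact Finset.mem_image.mpr ⟨i, Finset.mem_range.mpr hi, e⟩

theorem part_sum {a : ℕ} {cs : List Cnj} (ha : a < 2 ^ 144) (hcs : centOK a cs = true) {roots vals : List ℕ} {Q : Part}
    (hQ : ∀ p < 6304, partPos (pairsOf cs) roots Q p = true) (f : ℕ → ℕ)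
    (hf : ∀ r < roots.length, ∀ M, F.Reach a (roots.getD r 0) M → f M = vals.getD r 0) :
    ∑ M ∈ lSet, f M = partSum vals Q := by
  have hR := F.part_reach ha hcs hQ
  have hinj : Set.InjOn (fun p => tget 144 invA (dg16 Q.I p)) (Finset.range 6304 : Set ℕ) := by
    intro p hp q hq e
    rw [Finset.mem_coe, Finset.mem_range] at hp hq
    rw [← (hR p hp).2.2.1, ← (hR q hq).2.2.1]
    exact congrArg (dg16 Q.L) (tget_inj (hR p hp).1 (hR q hq).1 e)
  have himg : (Finset.range 6304).image (fun p => tget 144 invA (dg16 Q.I p)) = lSet :=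
    Finset.eq_of_subset_of_card_le (fun x hx => by
      obtain ⟨p, hp, rfl⟩ := Finset.mem_image.mp hx
      exact Finset.mem_image.mpr ⟨_, Finset.mem_range.mpr (hR p (Finset.mem_range.mp hp)).1, rfl⟩)
      (by rw [Finset.card_image_of_injOn hinj]; exact Finset.card_image_le)
  rw [← himg, Finset.sum_image hinj, partSum, sumI_eq]
  refine Finset.sum_congr rfl fun p hp => ?_
  obtain ⟨-, h2, -, h4⟩ := hR p (Finset.mem_range.mp hp)
  exact hf _ h2 _ h4

theorem second_total {k : ℕ} (hk : k < 4) {cs : List Cnj} {rows : List ZRow} {Q : Part}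
    (hcs : centOK (repMs.getD k 0) cs = true)
    (hQ : ∀ p < 6304, partPos (pairsOf cs) (rows.map fun R => R.b) Q p = true)
    (hval : ∀ R ∈ rows, R.b < 2 ^ 144 ∧ F.FZ (repMs.getD k 0) R.b = R.val) :
    ∑ b ∈ lSet, F.FZ (repMs.getD k 0) b = partSum (rows.map fun R => R.val) Q := by
  set a := repMs.getD k 0
  have ha : a < 2 ^ 144 := (F.inM_good (F.rep_inM hk)).1
  refine F.part_sum ha hcs hQ _ fun r hr M ⟨C, Ci, hC, hCi, e1, e2, e3, e4⟩ => ?_
  rw [List.length_map] at hr
  rw [List.getD_eq_getElem _ _ (by rw [List.length_map]; exact hr), List.getElem_map] at e4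
  rw [List.getD_eq_getElem _ _ (by rw [List.length_map]; exact hr), List.getElem_map]
  obtain ⟨hb, hv⟩ := hval _ (List.getElem_mem hr)
  have hfix : mMul C (mMul a Ci) = a := by rw [← mMul_assoc, e3, mMul_assoc, e2, mMul_id ha]
  have := (F.FZ_conj (a := a) (b := rows[r].b) hC hCi e1 e2).resolve_right fun h => h ⟨ha, hb⟩
  rw [hfix, e4] at this
  rw [this, hv]

theorem row_total0 : ∑ b ∈ lSet, F.FZ repM0 b = totZ0 := by
  have h0 : repM0 = mId := reps_mat_ok.2.2.2.2.2.2.2
  rw [← totals_Z.1]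
  refine F.second_total (k := 0) (by norm_num) cent0_ok (fun p hp => partZ0_all hp) fun R hR => ?_
  have hd := List.all_eq_true.mp dataZ0_ok R hR
  have hv := Nat.eq_of_beq_eq_true (List.all_eq_true.mp valsZ0_ok R hR)
  obtain ⟨hred, hlt, hbl⟩ := redY_ok
  have hb : R.b < 2 ^ 144 := Nat.blt_eq ▸ List.all_eq_true.mp hbl R (by simp [hR])
  have hp : ∀ p ∈ R.red, p.1 < 4096 := fun p hp =>
    Nat.blt_eq ▸ List.all_eq_true.mp (List.all_eq_true.mp hlt R hR) p hp
  refine ⟨hb, ?_⟩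
  show F.FZ repM0 R.b = _
  rw [← hv]
  refine F.valY_eq hd hb h0 hp fun f hf0 hshift hconj => ?_
  have hr := List.all_eq_true.mp hred R hR
  cases hbid : Nat.beq R.b mId
  · rw [hbid, cond_false] at hr
    exact red_sum hr f (fun y hy h => hf0 y hy (by simpa using h)) hshift
  · rw [hbid, cond_true] at hr
    have hbe := Nat.eq_of_beq_eq_true hbid
    unfold redTe at hr
    split at hr
    · rename_i r m heq
      simp only [Bool.and_eq_true, Nat.beq_eq, List.all_eq_true, List.mem_range, Bool.or_eq_true] at hr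
      obtain ⟨⟨rfl, hm⟩, hte⟩ := hr
      rw [heq, List.map_cons, List.map_nil, List.sum_cons, List.sum_nil, Nat.add_zero]
      have hval : ∀ y ∈ Finset.range 4096, f y = if (!(Nat.beq (cnt1 R y) 0)) = true then f 1 else 0 := by
        intro y hy
        rw [Finset.mem_range] at hy
        cases hc : Nat.beq (cnt1 R y) 0
        · have ht : bitF teMask y = true := (hte y hy).resolve_left fun e => by rw [e, Nat.beq_refl] at hc; simp at hc
          obtain ⟨C, hC, hC1⟩ := F.te_trans hy ht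
          obtain ⟨Ci, hCi, e1, e2⟩ := F.inM_inv hC
          rw [← hC1, hconj C Ci hC hCi e1 e2 (by rw [hbe, mId_mul (F.inM_good hCi).1, e2]) 1 (by norm_num)]
          simp
        · rw [hf0 y hy (Nat.eq_of_beq_eq_true hc)]; simp
      rw [Finset.sum_congr rfl hval, ← Finset.sum_filter, Finset.sum_const, smul_eq_mul]
      congr 1
      rw [← hm, List.countP_eq_length_filter, ← List.toFinset_card_of_nodup (List.nodup_range.filter _)]
      dsimp only
      congr 1
      ext y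
      simp
    · simp at hr

theorem row_total1 : ∑ b ∈ lSet, F.FZ repM1 b = totZ1 := by
  rw [← totals_Z.2.1]
  refine F.second_total (k := 1) (by norm_num) cent1_ok (fun p hp => partZ1_all hp) fun R hR => ?_
  have hd := List.all_eq_true.mp dataZ1_ok R hR
  rw [Bool.and_eq_true, Nat.beq_eq] at hd
  have hb : R.b < 2 ^ 144 := Nat.blt_eq ▸ List.all_eq_true.mp redY_ok.2.2 R (by simp [hR])
  refine ⟨hb, ?_⟩
  rw [← hd.2]
  exact F.valX_eq (k := 1) (by norm_num) redX1_ok hd.1 hb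

theorem row_total2 : ∑ b ∈ lSet, F.FZ repM2 b = totZ2 := by
  rw [← totals_Z.2.2.1]
  refine F.second_total (k := 2) (by norm_num) cent2_ok (fun p hp => partZ2_all hp) fun R hR => ?_
  have hd := List.all_eq_true.mp dataZ2_ok R hR
  rw [Bool.and_eq_true, Nat.beq_eq] at hd
  have hb : R.b < 2 ^ 144 := Nat.blt_eq ▸ List.all_eq_true.mp redY_ok.2.2 R (by simp [hR])
  refine ⟨hb, ?_⟩
  rw [← hd.2]
  exact F.valX_eq (k := 2) (by norm_num) redX2_ok hd.1 hb

theorem row_total3 : ∑ b ∈ lSet, F.FZ repM3 b = 0 := by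
  refine Finset.sum_eq_zero fun b _ => Finset.sum_eq_zero fun x hx => Finset.sum_eq_zero fun y _ => ?_
  rw [Finset.mem_range] at hx
  have hz : F.cZ x repM3 = 0 := by
    have := (F.cnt_tab (o' := 3) (by norm_num) hx).1
    rw [show tabs.getD 3 0 = tabT3 from rfl, show repMs.getD 3 0 = repM3 from rfl] at this
    rw [← this]
    exact Nat.eq_of_beq_eq_true (List.all_eq_true.mp totals_Z.2.2.2.2 x (List.mem_range.mpr hx))
  rw [fz, Set.ncard_eq_zero (Set.toFinite _)]
  refine Set.eq_empty_of_forall_notMem fun p ⟨h, hp, _⟩ => ?_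
  rw [cZ, Set.ncard_eq_zero (Set.toFinite _)] at hz
  exact Set.notMem_empty p.1 (hz ▸ (⟨hp, h.1⟩ : p.1 ∈ {h | F.Pos h x repM3 ∧ c.IsZ h}))

open Classical in
/-- The word and matrix of an element. -/
noncomputable def coord (h : G) : ℕ × ℕ := if hh : ∃ q : ℕ × ℕ, F.Pos h q.1 q.2 then hh.choose else (0, 0)

theorem coord_eq {h : G} {x M : ℕ} (hp : F.Pos h x M) : F.coord h = (x, M) := by
  classical
  have hh : ∃ q : ℕ × ℕ, F.Pos h q.1 q.2 := ⟨(x, M), hp⟩
  rw [coord, dif_pos hh]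
  obtain ⟨e1, e2⟩ := F.pos_uniq hh.choose_spec hp
  exact Prod.ext e1 e2

theorem hitZ_card (hinv : ∃ n ∈ centralizer ({z} : Set G), ∀ q ∈ P, n * q * n⁻¹ = q⁻¹) :
    Nat.card {p : G × G // F.HitZ p} = ∑ a ∈ lSet, ∑ b ∈ lSet, F.FZ a b := by
  classical
  have hco : ∀ p, F.HitZ p → ∃ x a y b, x < 4096 ∧ y < 4096 ∧ a ∈ lSet ∧ b ∈ lSet ∧ F.Pos p.1 x a ∧ F.Pos p.2 y b := by
    rintro ⟨u, v⟩ ⟨hu, hv, hz⟩
    have hu2 := F.toFrame.isZ_sq hu
    obtain ⟨cu, cv⟩ := dih_cent hu2 hv.1 c.zz hz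
    obtain ⟨x, a, hpu⟩ := F.exists_pos hinv (mem_centralizer_singleton_iff.mpr cu)
    obtain ⟨y, b, hpv⟩ := F.exists_pos hinv (mem_centralizer_singleton_iff.mpr cv)
    have hin : ∀ {h : G} {x M}, F.Pos h x M → x < 4096 ∧ F.toFrame.InM M := by
      rintro h x M ⟨e, n, hn, -, he, hM⟩; exact ⟨he.1, n, hn, hM⟩
    exact ⟨x, a, y, b, (hin hpu).1, (hin hpv).1, F.mem_lSet (F.inM_good (hin hpu).2) (F.pos_invol hu2 hpu).1,
      F.mem_lSet (F.inM_good (hin hpv).2) (F.pos_invol hv.1 hpv).1, hpu, hpv⟩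
  rw [show Nat.card {p : G × G // F.HitZ p} = (Set.toFinite {p | F.HitZ p}).toFinset.card from
    Nat.card_eq_card_finite_toFinset (Set.toFinite {p | F.HitZ p}),
    Finset.card_eq_sum_card_fiberwise (f := fun p => ((F.coord p.1).2, (F.coord p.2).2, (F.coord p.1).1, (F.coord p.2).1))
      (t := lSet ×ˢ lSet ×ˢ Finset.range 4096 ×ˢ Finset.range 4096)]
  · simp only [Finset.sum_product, FZ]
    refine Finset.sum_congr rfl fun a _ => Finset.sum_congr rfl fun b _ => Finset.sum_congr rfl fun x _ =>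
      Finset.sum_congr rfl fun y _ => ?_
    rw [fz, ← Set.ncard_coe_finset]
    congr 1
    ext p
    simp only [Finset.coe_filter, Set.Finite.mem_toFinset, Set.mem_setOf_eq, Prod.mk.injEq]
    constructor
    · rintro ⟨h, e1, e2, e3, e4⟩
      obtain ⟨x', a', y', b', -, -, -, -, hp, hq⟩ := hco p h
      rw [F.coord_eq hp] at e1 e3
      rw [F.coord_eq hq] at e2 e4
      subst e1 e2 e3 e4
      exact ⟨h, hp, hq⟩
    · rintro ⟨h, hp, hq⟩
      rw [F.coord_eq hp, F.coord_eq hq]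
      exact ⟨h, rfl, rfl, rfl, rfl⟩
  · intro p hp
    rw [Finset.mem_coe, Set.Finite.mem_toFinset] at hp
    obtain ⟨x', a', y', b', hx, hy, ha, hb, h1, h2⟩ := hco p hp
    rw [Finset.mem_coe]
    simp only [Finset.mem_product, Finset.mem_range, F.coord_eq h1, F.coord_eq h2]
    exact ⟨ha, hb, hx, hy⟩

/-- The count. -/
theorem count_Z (hinv : ∃ n ∈ centralizer ({z} : Set G), ∀ q ∈ P, n * q * n⁻¹ = q⁻¹) :
    Nat.card {p : G × G // F.HitZ p} = 29236337328 := by
  rw [F.hitZ_card hinv, ← totals_Z.2.2.2.1]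
  have h0 : repM0 < 2 ^ 144 := reps_mat_ok.2.2.2.2.2.2.2 ▸ mId_lt
  refine F.part_sum h0 cent0_ok (roots := repMs) (fun p hp => partCls_all hp) _
    fun r hr M ⟨C, Ci, hC, hCi, e1, e2, _, e4⟩ => ?_
  have hinvs : ∀ b, b < 2 ^ 144 → mMul Ci (mMul (mMul C (mMul b Ci)) C) = b := fun b hb => by
    calc mMul Ci (mMul (mMul C (mMul b Ci)) C) = mMul (mMul Ci C) (mMul b (mMul Ci C)) := by simp only [mMul_assoc]
      _ = b := by rw [e1, mMul_id hb, mId_mul hb]
  have hperm : ∑ b ∈ lSet, F.FZ M b = ∑ b ∈ lSet, F.FZ (repMs.getD r 0) b := by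
    have hmap : ∀ D Di, F.toFrame.InM D → F.toFrame.InM Di → mMul Di D = mId → ∀ b ∈ lSet, mMul D (mMul b Di) ∈ lSet := by
      intro D Di hD hDi f1 b hb
      obtain ⟨hbI, hbb, -⟩ := F.lSet_member hb
      refine F.mem_lSet (F.inM_good (Frame.InM.mul F.toFrame hD (Frame.InM.mul F.toFrame hbI hDi))) ?_
      obtain ⟨D', hD', g1, g2⟩ := F.inM_inv hD
      have hD2 : mMul D Di = mId := (F.inM_left hD (F.inM_good hDi).1 f1).2
      calc mMul (mMul D (mMul b Di)) (mMul D (mMul b Di)) = mMul D (mMul b (mMul (mMul Di D) (mMul b Di))) := by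
            simp only [mMul_assoc]
        _ = mId := by rw [f1, mId_mul (mMul_lt _ _), ← mMul_assoc b, hbb, mId_mul (F.inM_good hDi).1, hD2]
    refine (Finset.sum_nbij' (fun b => mMul C (mMul b Ci)) (fun b => mMul Ci (mMul b C))
      (fun b hb => hmap C Ci hC hCi e1 b hb) (fun b hb => hmap Ci C hCi hC e2 b hb)
      (fun b hb => hinvs b (F.lSet_member hb).2.2) (fun b hb => ?_) fun b hb => ?_).symm
    · calc mMul C (mMul (mMul Ci (mMul b C)) Ci) = mMul (mMul C Ci) (mMul b (mMul C Ci)) := by simp only [mMul_assoc]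
        _ = b := by rw [e2, mMul_id (F.lSet_member hb).2.2, mId_mul (F.lSet_member hb).2.2]
    · rw [← e4]
      exact ((F.FZ_conj hC hCi e1 e2).resolve_right fun h => h ⟨(F.inM_good (F.rep_inM hr)).1, (F.lSet_member hb).2.2⟩).symm
  rw [hperm]
  have hr4 : r < 4 := hr
  interval_cases r
  · exact F.row_total0
  · exact F.row_total1
  · exact F.row_total2
  · exact F.row_total3

end Std

end CfsgLib.J4Order
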