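/-
The order of a simple group of Janko-four type.
-/
import Cfsg.Agent.Lib.J4Order.CountT
import Cfsg.Agent.Lib.J4Order.CountZ
import Cfsg.Agent.Lib.JankoFour.OrbSplit
import Cfsg.Agent.Lib.JankoFour.CenCenter
import Cfsg.Agent.Lib.JankoFour.FiveFusion
import Cfsg.Agent.Lib.JankoFour.FiveOuter
import Cfsg.Agent.S0213

set_option autoImplicit false

namespace CfsgLib.J4Order

open Cfsg Subgroup CfsgGolay CfsgLib.JankoFour
open scoped Pointwise

attribute [local irreducible] Finset.range List.range codeL octadL dodecadL slpCodes pcomp pmask cls inR rMask inW elW isPair colC fixedMask actC tS tM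

/-- The stabiliser of the chosen pair in M24. -/
def pairStab : Subgroup (Equiv.Perm GolayPt) := MulAction.stabilizer (Equiv.Perm GolayPt) (toSet tM) ⊓ M24

theorem card_pairStab : Nat.card ↥pairStab = 887040 := by
  classical
  have hm : (toSet tM).card = 2 := by rw [card_toSet, tS_ok.2.2.2.1]
  have horb : MulAction.orbit ↥M24 (toSet tM) = {t : Finset GolayPt | t.card = 2} := by
    ext t
    constructor
    · rintro ⟨g, rfl⟩
      show ((g : Equiv.Perm GolayPt) • toSet tM).card = 2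
      rw [Finset.card_smul_finset, hm]
    · intro ht
      obtain ⟨a, b, hab, e⟩ := Finset.card_eq_two.mp hm
      obtain ⟨p, q, hpq, rfl⟩ := Finset.card_eq_two.mp ht
      obtain ⟨k, hk, hkx⟩ := exists_M24_map (by norm_num : 2 ≤ 5)
        (⟨![a, b], by intro i j; fin_cases i <;> fin_cases j <;> simp [hab, hab.symm]⟩ : Fin 2 ↪ GolayPt)
        (⟨![p, q], by intro i j; fin_cases i <;> fin_cases j <;> simp [hpq, hpq.symm]⟩ : Fin 2 ↪ GolayPt)
      refine ⟨⟨k, hk⟩, ?_⟩
      show k • toSet tM = {p, q}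
      have k0 : k a = p := hkx 0
      have k1 : k b = q := hkx 1
      rw [e, smul_set_pts, Finset.image_insert, Finset.image_singleton, k0, k1]
  have h276 : {t : Finset GolayPt | t.card = 2}.ncard = 276 := by
    rw [show {t : Finset GolayPt | t.card = 2} = ↑((Finset.univ : Finset GolayPt).powersetCard 2) by
      ext t; simp, Set.ncard_coe_finset, Finset.card_powersetCard, Finset.card_univ]
    simp only [Fintype.card_option, ZMod.card]
    decide
  have hi := Subgroup.card_mul_index (MulAction.stabilizer ↥M24 (toSet tM))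
  rw [MulAction.index_stabilizer, horb, h276, card_M24] at hi
  have hs : MulAction.stabilizer ↥M24 (toSet tM) = pairStab.subgroupOf M24 := by
    rw [pairStab, Subgroup.inf_subgroupOf_right]
    ext g
    rfl
  rw [hs, Nat.card_congr (subgroupOfEquivOfLe (show pairStab ≤ M24 from inf_le_right)).toEquiv] at hi
  exact Nat.eq_of_mul_eq_mul_right (by norm_num : 0 < 276) (hi.trans (by norm_num))

universe u

variable {G : Type u} [Group G] [Finite G] {z : G} {P E : Subgroup G} {c : Ctx z P E} {A : Subgroup MTwoTwo}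
variable {o : c.Orb A}

namespace Frame

variable (F : Frame o)

/-- The centralizer of a pair element. -/
theorem card_cent_tT : Nat.card (centralizer ({F.tT} : Set G)) = 1816657920 := by
  classical
  have hmk : ∀ g : ↥pairStab, Kc (codeOf g.1) ∧ fixT (codeOf g.1) = true := by
    intro g
    obtain ⟨h1, h2⟩ := codeOf_spec g.1
    have hk : Kc (codeOf g.1) := ⟨h1, g.1, g.2.2, h2⟩
    exact ⟨hk, (fixT_iff hk).mpr (by rw [permDec_eq h2]; exact g.2.1)⟩
  let f : Fin 2048 × ↥pairStab → ↥(centralizer ({F.tT} : Set G)) := fun x =>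
    ⟨F.el x.1 (codeOf x.2.1), mem_centralizer_singleton_iff.mpr ((F.el_comm x.1.2 (hmk x.2).1).mpr (hmk x.2).2)⟩
  have hf : Function.Bijective f := by
    refine ⟨fun a b e => ?_, fun ⟨w, hw⟩ => ?_⟩
    · obtain ⟨h1, h2⟩ := F.el_inj a.1.2 b.1.2 (hmk a.2).1 (hmk b.2).1 (congrArg Subtype.val e)
      refine Prod.ext (Fin.ext h1) (Subtype.ext ?_)
      rw [← permDec_eq (codeOf_spec a.2.1).2, h2, permDec_eq (codeOf_spec b.2.1).2]
    · obtain ⟨x, hx, a, ha, rfl⟩ := F.el_surj (o.cent_T F.tT_mem hw)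
      have hfix := (F.el_comm hx ha).mp (mem_centralizer_singleton_iff.mp hw)
      obtain ⟨hr, hgM⟩ := kc_repr ha
      have hg : permDec a ∈ pairStab := ⟨(fixT_iff ha).mp hfix, hgM⟩
      refine ⟨(⟨x, hx⟩, ⟨permDec a, hg⟩), Subtype.ext ?_⟩
      show F.el x (codeOf (permDec a)) = F.el x a
      rw [repr_code_eq (codeOf_spec (permDec a)).1 ha.1 (codeOf_spec (permDec a)).2 hr]
  rw [← Nat.card_congr (Equiv.ofBijective f hf), Nat.card_prod, Nat.card_fin, card_pairStab]

/-- The conjugates of the pair element are the involutions outside the class of the centre. -/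
theorem conj_tT_iff {x : G} : IsConj F.tT x ↔ F.IsT x := by
  have hT := F.tT_mem
  constructor
  · intro h
    obtain ⟨g, rfl⟩ := isConj_iff.mp h
    refine ⟨?_, fun e => F.tT_inv.2 (conj_eq_one_iff.mp e), fun hz => hT.2.2 ?_⟩
    · rw [show g * F.tT * g⁻¹ * (g * F.tT * g⁻¹) = g * (F.tT * F.tT) * g⁻¹ by group, F.tT_inv.1]; group
    · have := c.isZ_conj hz g⁻¹
      rwa [show g⁻¹ * (g * F.tT * g⁻¹) * g⁻¹⁻¹ = F.tT by group] at this
  · rintro ⟨hx2, hx1, hxz⟩
    obtain ⟨g, hg⟩ := (o.invol_class F.hKN F.hKV F.hKsup hx2 hx1).resolve_left hxz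
    obtain ⟨a, ha, -, -, -, -, a1, -⟩ := Ctx.exists_three o.hA.1.2.1
    obtain ⟨y, hy, hyZ, -, hny⟩ := o.exists_lift ha a1
    obtain ⟨n1, -, e1⟩ := o.T_to hg hy hyZ hny
    obtain ⟨n2, -, e2⟩ := o.T_to hT hy hyZ hny
    refine isConj_iff.mpr ⟨g⁻¹ * n1⁻¹ * n2, ?_⟩
    rw [show g⁻¹ * n1⁻¹ * n2 * F.tT * (g⁻¹ * n1⁻¹ * n2)⁻¹ = g⁻¹ * n1⁻¹ * (n2 * F.tT * n2⁻¹) * (g⁻¹ * n1⁻¹)⁻¹ by group,
      e2, ← e1]
    group

end Frame

/-- The centralizer of the central involution. -/
theorem card_cent_z (c : Ctx z P E) (hex : ∃ h ∈ centralizer ({z} : Set G), h ∉ c.H0) :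
    Nat.card (centralizer ({z} : Set G)) = 21799895040 := by
  obtain ⟨h, hh, h0⟩ := hex
  have hi : (c.H0.subgroupOf (centralizer ({z} : Set G))).index = 2 := by
    refine Subgroup.index_eq_two_iff.mpr ⟨⟨h, hh⟩, fun b => ?_⟩
    simp only [mem_subgroupOf, Subgroup.coe_mul]
    by_cases hb : (b : G) ∈ c.H0
    · exact Or.inr ⟨hb, fun hm => h0 (by simpa using mul_mem (inv_mem hb) hm)⟩
    · exact Or.inl ⟨c.H0two _ b.2 hb _ hh h0, hb⟩
  have := Subgroup.card_mul_index (c.H0.subgroupOf (centralizer ({z} : Set G)))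
  rw [hi, Nat.card_congr (subgroupOfEquivOfLe c.H0le).toEquiv, c.card_H0] at this
  omega

/-- The order. -/
theorem card_G {G : Type*} [Group G] [Finite G] [IsSimpleGroup G] (hG : ¬ IsMulCommutative G)
    (hJ : Cfsg.IsOfJankoFourType G) : Nat.card G = 86775571046077562880 := by
  classical
  obtain ⟨z, P, hJ'⟩ := hJ
  obtain ⟨c⟩ := CfsgLib.JankoFour.ctx_of_type hJ'
  obtain ⟨hex, hfaith⟩ := c.outer_facts hJ'
  have hinv := CfsgLib.JankoFour.hinv_of_type hJ'
  obtain ⟨A, o⟩ := c.exists_orb hG hinv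
  obtain ⟨F⟩ := exists_Std o hex hfaith
  set t := F.toFrame.tT with ht
  have hT := F.toFrame.tT_mem
  have hz : ∀ x, IsConj z x ↔ c.IsZ x := fun x => isConj_iff
  have ht2 : orderOf t = 2 :=
    orderOf_eq_prime (hp := ⟨Nat.prime_two⟩) (by rw [pow_two]; exact F.toFrame.tT_inv.1) F.toFrame.tT_inv.2
  have hall : ∀ x : G, orderOf x = 2 → IsConj z x ∨ IsConj t x := by
    intro x hx
    have hx2 : x * x = 1 := by rw [← pow_two, ← hx, pow_orderOf_eq_one]
    have hx1 : x ≠ 1 := fun h => by rw [h, orderOf_one] at hx; norm_num at hx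
    by_cases h : c.IsZ x
    · exact Or.inl ((hz x).mpr h)
    · exact Or.inr (F.toFrame.conj_tT_iff.mpr ⟨hx2, hx1, h⟩)
  rw [Cfsg.Agent.S0213.result z t c.oz ht2 (fun h => hT.2.2 ((hz t).mp h)) hall,
    card_cent_z c hex, F.toFrame.card_cent_tT,
    show Nat.card {p : G × G // IsConj z p.1 ∧ IsConj t p.2 ∧ z ∈ zpowers (p.1 * p.2)} = 29236337328 from
      (Nat.card_congr (Equiv.subtypeEquivRight fun p => by
        rw [hz, F.toFrame.conj_tT_iff]; exact Iff.rfl)).trans (F.count_Z hinv),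
    show Nat.card {p : G × G // IsConj z p.1 ∧ IsConj t p.2 ∧ t ∈ zpowers (p.1 * p.2)} = 1544188503 from
      (Nat.card_congr (Equiv.subtypeEquivRight fun p => by
        rw [hz, F.toFrame.conj_tT_iff]; exact Iff.rfl)).trans (F.toFrame.count_T F.normal)]

end CfsgLib.J4Order
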