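/-
Computable pieces for the matrix group on E modulo the centre.
-/
import Cfsg.Agent.Lib.J4Order.NAct
import Cfsg.Agent.Lib.J4Order.TabData

set_option autoImplicit false

namespace CfsgLib.J4Order

open Cfsg CfsgGolay

/-- A reducer: element, matrix and inverse matrix. -/
structure StRed where
  /-- the class -/
  v : ℕ
  /-- the code -/
  a : ℕ
  /-- the matrix -/
  M : ℕ
  /-- the inverse matrix -/
  Mi : ℕ

/-- A reducer is right. -/
def redOK (r : StRed) : Bool := nOK r.v r.a r.M && Nat.blt r.Mi (2 ^ 144) && Nat.beq (mMul r.Mi r.M) mId

/-- The six words spanning over the field of four elements. -/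
def basisG : List ℕ := [1, 2, 4, 65, 259, 1025]

/-- Each word with its image under P. -/
def domL (k : ℕ) : List ℕ := (basisG.take k).flatMap fun b => [b, mApp pM b]

/-- The two masks agree. -/
def sameCls (x y : ℕ) : Bool := (bitF teMask x == bitF teMask y) && (bitF qMask x == bitF qMask y)

/-- All numbers below a bound, from the top. -/
def allN (f : ℕ → Bool) : ℕ → Bool
  | 0 => true
  | n + 1 => f n && allN f n

/-- The classes agree on the coset of the span. -/
def preTest (k c : ℕ) : Bool :=
  allN (fun j => sameCls (Nat.xor (basisG.getD k 0) (xorCols (domL k) j)) (Nat.xor c (xorCols (domL k) j))) (4 ^ k)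

/-- One stage: each candidate fails the test or has a reducer. -/
def stageOK (k : ℕ) (R : List StRed) : Bool :=
  (List.range 4096).all fun c => !(bitF teMask c) || !(preTest k c) ||
    R.any fun r => Nat.beq (mApp r.M (basisG.getD k 0)) c

/-- The reducers of a stage fix the earlier words and commute with P. -/
def stageRed (k : ℕ) (R : List StRed) : Bool :=
  R.all fun r => redOK r && Nat.beq (mMul r.M pM) (mMul pM r.M) &&
    (domL k).all fun b => Nat.beq (mApp r.M b) b

/-- The product of a walk step. -/
def stepL (gens : List ℕ) (st : List ℕ × List ℕ) (m : ℕ) : List ℕ × List ℕ :=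
  match st.1.drop (m / 8) with
  | [] => st
  | x :: xs => (mMul (gens.getD (m % 8) mId) x :: x :: xs, mMul (gens.getD (m % 8) mId) x :: st.2)

/-- The steps stored in a number. -/
def digitsM (D n : ℕ) : List ℕ :=
  (List.range n).map fun i => Nat.land (Nat.shiftRight D (16 * i)) 65535

/-- The matrices met on a walk of left multiplications. -/
def walkM (gens : List ℕ) (D n : ℕ) : List ℕ := ((digitsM D n).foldl (stepL gens) ([mId], [mId])).2

end CfsgLib.J4Order
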