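/-
Lookup in a sorted table of matrices.
-/
import Cfsg.Agent.Lib.J4Order.GroupDefs

set_option autoImplicit false

namespace CfsgLib.J4Order

open Cfsg CfsgGolay

/-- Binary search. -/
def bsA (A : List ℕ) (x : ℕ) : ℕ → ℕ → ℕ → Bool
  | 0, _, _ => false
  | fuel + 1, lo, hi =>
    cond (Nat.blt lo hi)
      (cond (Nat.beq (tget 144 A ((lo + hi) / 2)) x) true
        (cond (Nat.blt (tget 144 A ((lo + hi) / 2)) x) (bsA A x fuel ((lo + hi) / 2 + 1) hi) (bsA A x fuel lo ((lo + hi) / 2))))
      false

/-- The matrix is in the table of 6304 entries. -/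
def memA (A : List ℕ) (x : ℕ) : Bool := bsA A x 16 0 6304

/-- Conjugates of the entries in a range are in the table. -/
def closedA (A : List ℕ) (g gi lo n : ℕ) : Bool :=
  (List.range' lo n).all fun i => memA A (mMul g (mMul (tget 144 A i) gi))

/-- The image of a list of words lies in one of the sets. -/
def intoSet (S : List ℕ) (g : ℕ) (pts : List ℕ) : Bool :=
  S.any fun m => pts.all fun x => bitF m (mApp g x)

/-- Involutory products are in the table. -/
def prodInA (A : List ℕ) (r : ℕ) (L : List ℕ) : Bool :=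
  L.all fun p => !(Nat.beq (mApp r (mApp p (mApp r (mApp p 1)))) 1) || !(Nat.beq (mApp r (mApp p (mApp r (mApp p 65)))) 65) ||
    !(Nat.beq (mMul (mMul r p) (mMul r p)) mId) || memA A (mMul r p)

end CfsgLib.J4Order
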